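import Cfsg.Agent.SM.O8.Three.Frame
import Cfsg.Agent.SmallSimple.SylowCount

/-!
# SM, `S = PΩ⁺₈(3)`: at most four groups `Ω⁺₈(2)` over the frame stabiliser (helper64)
-/

set_option autoImplicit false

namespace Cfsg.Agent.SM.O8.T3

open Module QuadraticMap Cfsg Equiv Matrix Subgroup
open Cfsg.Agent.H823.O8S (mk8)
open Cfsg.Agent.SM.Ex78 (Pd)

namespace Cnt

/-- the sum of the frame -/
def u8 : W8 := ![0, 1, 1, 1, 1, 1, 1, 1]

/-- the 7-cycle -/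
def c7 : Perm (Fin 8) := ⟨![0, 2, 3, 4, 5, 6, 7, 1], ![0, 7, 1, 2, 3, 4, 5, 6], by decide, by decide⟩

/-- the 5-cycle -/
def g5 : Perm (Fin 8) := ⟨![0, 2, 3, 4, 5, 1, 6, 7], ![0, 5, 1, 2, 3, 4, 6, 7], by decide, by decide⟩

theorem c7_pow : c7 ^ 7 = 1 := Perm.ext (by decide +kernel)

theorem g5_pow : g5 ^ 5 = 1 := Perm.ext (by decide +kernel)

/-- the labels -/
def lab : Fin 4 → W8 := ![![1, 1, 1, 1, 1, 1, 1, 0], ![1, 2, 2, 2, 2, 2, 2, 0], ![1, 1, 1, 1, 1, 1, 0, 1],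
  ![1, 2, 2, 2, 2, 2, 0, 2]]

theorem sol : ∀ a d b c : F₃, ∀ t : W8, t = ![a, d, d, d, d, d, b, c] → u8 ⬝ᵥ t = 0 → t ⬝ᵥ t = 1 →
    (t = Pi.single 0 1 ∨ t = -Pi.single 0 1) ∨ (∃ k, t = lab k ∨ t = -lab k) ∨
      ((t ∘ ⇑(c7 ^ 2)) ⬝ᵥ t ≠ 0 ∧ ¬ (t ∘ ⇑(c7 ^ 2) = t ∨ t ∘ ⇑(c7 ^ 2) = -t)) := by
  simp only [forall_eq]
  decide +kernel

theorem orb_inj : ∀ k, ∀ n m : Fin 7, lab k ∘ ⇑(c7 ^ n.1) = lab k ∘ ⇑(c7 ^ m.1) ∨ lab k ∘ ⇑(c7 ^ n.1) = -(lab k ∘ ⇑(c7 ^ m.1)) →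
    n = m := by decide +kernel

/-- the sign changes -/
def sg (a : Fin 6 → Bool) : W8 :=
  ![1, cond (a 0) 2 1, cond (a 1) 2 1, cond (a 2) 2 1, cond (a 3) 2 1, cond (a 4) 2 1, cond (a 5) 2 1,
    cond (a 0 ^^ a 1 ^^ a 2 ^^ a 3 ^^ a 4 ^^ a 5) 2 1]

theorem sg_ok : ∀ a, (∀ i, sg a i = 1 ∨ sg a i = -1) ∧ ∏ i, sg a i = 1 := by decide +kernel

theorem sg_inj : ∀ a b, sg a * u8 = sg b * u8 ∨ sg a * u8 = -(sg b * u8) → a = b := by decide +kernel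

/-- the frame with given label -/
def Zl (v : V₃) (e : Fin 7 → V₃) (k : Fin 4) : Set V₃ := {w | ∃ n : Fin 7, Pm w (co v e (lab k ∘ ⇑(c7 ^ n.1)))}

variable {v : V₃} {e : Fin 7 → V₃}

theorem Q_u (h : Fr v e) : Q₃ (co v e u8) = Q₃ v := h.Q_eq.2 (by decide +kernel)

theorem label (h : Fr v e) {Y : Subgroup G₃} (h1 : Pd (pt v) Y) (h2 : pt v ⊓ Y = FS v e) :
    ∃ k, pt (co v e u8) ⊓ Y = pt (co v e u8) ⊓ (SO (Zl v e k)).map (mk8 F₃) := by
  have hx : Q₃ (co v e u8) ≠ 0 := (Q_u h).trans_ne h.nv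
  obtain ⟨z, hz⟩ := exists_ln_map (ne_zero_of_Q h.nv) (ne_zero_of_Q hx) (Q_u h).symm
  obtain ⟨y, hy, p, hp, e1⟩ := h1.symm (mk8 F₃ z)
  obtain ⟨y, rfl⟩ := mk8_surjective y
  have h3 : Pm (ln y v) (co v e u8) := by
    have h4 : mk8 F₃ (z⁻¹ * y) ∈ pt v := by
      rw [map_mul, map_inv, e1, _root_.mul_inv_rev, inv_mul_cancel_right]
      exact inv_mem hp
    have h5 := Pm.ln ((mem_pt' h.nv).1 h4) z
    rwa [ln_mul, ln_apply_inv, hz] at h5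
  have hf := h.move y
  have h4 : pt (co v e u8) ⊓ Y = FS (ln y v) fun i => ln y (e i) := ext fun g => by
    obtain ⟨g, rfl⟩ := mk8_surjective g
    rw [conj_mem_FS, ← h2, ← h3.pt, ← conj_pt, mem_inf, mem_inf, mem_im', map_mul, map_mul, map_inv,
      Y.mul_mem_cancel_right hy, Y.mul_mem_cancel_left (inv_mem hy), ← map_inv, MulAut.conj_apply, inv_inv]
  generalize (fun i => ln y (e i)) = f at hf h4
  generalize ln y v = x at hf h3 h4
  have h5 : ∀ {σ : Perm (Fin 8)} {a : Om F₃}, σ 0 = 0 → u8 ∘ σ = u8 → (∀ t, ln a (co v e t) = co v e (t ∘ σ)) →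
      mk8 F₃ a ∈ FS x f := fun k0 k1 k2 => h4.le ⟨(mem_pt' hx).2 (.inl (by rw [k2, k1])), (h2.ge (h.mem_perm k0 k2)).2⟩
  obtain ⟨a, ha⟩ := h.rl_perm (sign_of_odd (by decide) g5_pow)
  obtain ⟨c, hc⟩ := h.rl_perm (sign_of_odd (by decide) c7_pow)
  have ha' := h5 rfl (by decide +kernel) ha
  have hc' := h5 rfl (by decide +kernel) hc
  have a5 : a ^ 5 = 1 := om_ext fun w => by
    obtain ⟨t, rfl⟩ := h.surj w
    rw [ln_pow_perm ha, g5_pow, ln_one]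
    rfl
  have cn : ∀ (n : ℕ) i, ∃ j, Pm (ln (c ^ n) (f i)) (f j) := fun n => (mem_FS.1 (by rw [map_pow]; exact pow_mem hc' n)).2
  obtain ⟨σ, hσ⟩ := hf.exists_perm
  have h6 : ∀ i, σ ⟨a, ha'⟩ i = i → Pm (f i) v ∨ ∃ k, Pm (f i) (co v e (lab k)) := fun i hi => by
    have k1 := hσ ⟨a, ha'⟩ i
    rw [hi] at k1
    have k2 : ln a (f i) = f i := k1.resolve_right fun k => by
      have k3 := congrArg (fun b => ln b (f i)) a5
      simp only [pow_succ, pow_zero, ln_mul, ln_one, show ln a (f i) = -f i from k, map_neg, neg_neg] at k3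
      have k4 := polar_self' (f i)
      rw [hf.nrm] at k4
      have k5 : polar Q₃ (-f i) (f i) = -polar Q₃ (f i) (f i) := polar_neg_left (H198.Carriers.plusQ 4 F₃) _ _
      rw [k3, k4] at k5
      exact (by decide : ∀ t : F₃, t ≠ 0 → 2 * t ≠ -(2 * t)) _ hf.nv k5
    obtain ⟨t, ht⟩ := h.surj (f i)
    rw [← ht, ha, h.inj.eq_iff] at k2
    have k3 : t = ![t 0, t 1, t 1, t 1, t 1, t 1, t 6, t 7] := funext fun j => by
      have j1 : t 2 = t 1 := congrFun k2 1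
      have j2 : t 3 = t 2 := congrFun k2 2
      have j3 : t 4 = t 3 := congrFun k2 3
      have j4 : t 5 = t 4 := congrFun k2 4
      fin_cases j
      exacts [rfl, rfl, j1, j2.trans j1, j3.trans (j2.trans j1), j4.trans (j3.trans (j2.trans j1)), rfl, rfl]
    have k4 : Q₃ x = Q₃ v := by
      rcases h3 with rfl | rfl
      exacts [Q_u h, ((H198.Carriers.plusQ 4 F₃).map_neg _).trans (Q_u h)]
    rcases sol _ _ _ _ t k3 (h.polar_eq_zero.1 (h3.symm.polar (.inl ht) (hf.ov i))) (h.Q_eq.1 (by rw [ht, hf.nrm, k4])) with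
      k | ⟨k, hk⟩ | ⟨k5, k6⟩
    · exact .inl (ht ▸ (h.pm.2 k).trans (.inl co_zero))
    · exact .inr ⟨k, ht ▸ h.pm.2 hk⟩
    · obtain ⟨j, hj⟩ := cn 2 i
      rw [← ht, ln_pow_perm hc] at hj
      by_cases k7 : j = i
      · exact absurd (h.pm.1 (by rwa [k7, ← ht] at hj)) k6
      · exact absurd (h.polar_eq_zero.1 (hj.polar (.inl ht) (hf.oe j i k7))) k5
  obtain ⟨i, k, hk⟩ : ∃ i k, Pm (f i) (co v e (lab k)) := by
    have : Fact (Nat.Prime 5) := ⟨by norm_num⟩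
    have k1 := Perm.card_compl_support_modEq (p := 5) (n := 1) (σ := σ ⟨a, ha'⟩) (by
      rw [pow_one, ← map_pow, show (⟨a, ha'⟩ ^ 5 : (FS x f).comap (mk8 F₃)) = 1 from Subtype.ext a5, map_one])
    rw [Fintype.card_fin, Nat.ModEq] at k1
    obtain ⟨i, hi, j, hj, k2⟩ := Finset.one_lt_card.1 (show 1 < (σ ⟨a, ha'⟩).supportᶜ.card by omega)
    rw [Finset.mem_compl, Perm.notMem_support] at hi hj
    rcases h6 i hi with k3 | k3
    · exact ⟨j, (h6 j hj).resolve_left fun k4 => k2 (hf.eq_of (k3.trans k4.symm))⟩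
    · exact ⟨i, k3⟩
  choose j hj using fun n : Fin 7 => cn n.1 i
  have h7 : ∀ n, Pm (f (j n)) (co v e (lab k ∘ ⇑(c7 ^ n.1))) := fun n => (hj n).symm.trans (ln_pow_perm hc n.1 _ ▸ hk.ln _)
  have h8 : Function.Surjective j := Finite.injective_iff_surjective.1 fun n m k' =>
    orb_inj k n m (h.pm.1 ((h7 n).symm.trans (k' ▸ h7 m)))
  refine ⟨k, ?_⟩
  rw [h4, FS, h3.pt]
  congr 3
  ext w
  refine ⟨fun ⟨l, hl⟩ => ?_, fun ⟨n, hn⟩ => ⟨j n, hn.trans (h7 n).symm⟩⟩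
  obtain ⟨n, rfl⟩ := h8 l
  exact ⟨n, Pm.trans hl (h7 n)⟩

end Cnt

open Cnt

theorem index_1080 {x : V₃} (hx : Q₃ x ≠ 0) : (pt x).index = 1080 := by
  have h := index_pt hx
  rw [Nat.card_zmod] at h
  norm_num at h
  omega

theorem boxCnt : BoxCnt := fun v e h => by
  have := finite_Om
  have : Finite G₃ := Finite.of_surjective _ mk8_surjective
  have hx : Q₃ (co v e u8) ≠ 0 := (Q_u h).trans_ne h.nv
  refine (ncard_le_of_col (C := (Set.univ : Set (Fin 4))) (Set.toFinite _)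
    (fun Y k => pt (co v e u8) ⊓ Y = pt (co v e u8) ⊓ (SO (Zl v e k)).map (mk8 F₃))
    (fun Y hY => (label h hY.2.2.1 hY.2.2.2).imp fun _ k => ⟨trivial, k⟩) ?_).trans (by simp)
  rintro Y ⟨s1, c1, p1, f1⟩ Y' ⟨-, c2, -, f2⟩ k - l1 l2
  obtain ⟨z, hz⟩ := exists_ln_map (ne_zero_of_Q h.nv) (ne_zero_of_Q hx) (Q_u h).symm
  have h1 : (pt (co v e u8)).relIndex Y = 1080 := by
    rw [← index_1080 hx, ← hz, ← conj_pt]
    exact (p1.symm.conj _).relIndex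
  choose y hy using fun a => h.rl_sgn (sg_ok a).1 (sg_ok a).2
  have h2 := le_relIndex hx (K := Y ⊓ Y') y (fun a => ⟨(f1.ge (h.mem_sgn (sg_ok a).1 (hy a))).2,
    (f2.ge (h.mem_sgn (sg_ok a).1 (hy a))).2⟩) fun a b k => sg_inj a b (h.pm.1 (by rwa [hy, hy] at k))
  have h3 := relIndex_mul_relIndex (pt (co v e u8) ⊓ (Y ⊓ Y')) (Y ⊓ Y') Y inf_le_right inf_le_left
  rw [inf_relIndex_right, inf_inf_distrib_left, l2, ← l1, inf_idem, inf_relIndex_right, h1] at h3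
  rw [show Nat.card (Fin 6 → Bool) = 64 by simp] at h2
  have h4 : (Y ⊓ Y').relIndex Y ≤ 15 := by
    by_contra k
    have k1 := Nat.mul_le_mul h2 (show 17 ≤ (Y ⊓ Y').relIndex Y by
      by_contra k2
      rw [show (Y ⊓ Y').relIndex Y = 16 by omega] at h3
      omega)
    omega
  refine eq_of_le_of_card_ge (le_trans (subgroupOf_eq_top.1 (by_contra fun k => ?_)) (inf_le_right (a := Y))) (c2.trans c1.symm).le
  have h5 := (SmallSimple.SylowCount.card_dvd_factorial_index _ k).trans (Nat.factorial_dvd_factorial h4)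
  rw [c1] at h5
  exact absurd h5 (by decide)

end Cfsg.Agent.SM.O8.T3
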