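import Cfsg.Agent.SM.O8.Three.Defs
import Cfsg.Agent.SM.O8.Min
import Cfsg.Agent.S2119
import Cfsg.Agent.S0245
import Cfsg.Agent.S0246
import Cfsg.Agent.S0814

/-!
# SM (S3570), socle `PΩ⁺₈(3)`: `A₉` and `Sp₆(2)` are not the socle of the second factor (helper74)
-/

set_option autoImplicit false

namespace Cfsg.Agent.SM.O8.T3

open Module QuadraticMap Cfsg Cfsg.Geo Cfsg.Agent.LieClassical.OrthCore Cfsg.Agent.LieClassical.OrthTrans
open Equiv (Perm swap)
open Cfsg.Agent.H951 (fx cm mem_fx)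
open Cfsg.Agent.H884.El (pre lin PP Iso)
open Cfsg.Agent.H708.O8 (I8 T8)
open Cfsg.Agent.H823.O8S (mk8 gl8 mk8_eq mk8_eq_one)
open Cfsg.Agent.H823.O8R (Six)
open Cfsg.Agent.H198.Carriers (plusQ)
open Cfsg.Agent.H955 (res)
open Cfsg.Agent.ClassicalGeometry.OrthSemi (Gam)
open Cfsg.Agent.SM.Ex78 (Pd)
open Cfsg.Agent.SM.O8.Mi (So)

namespace A9

section space

variable {V : Type} [AddCommGroup V] [Module F₃ V] {Q : QuadraticForm F₃ V}

/-- a nonsingular vector orthogonal to an orthogonal family of nonsingular vectors -/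
theorem perp_ns (hQ : Nondeg Q) {ι : Type} [Fintype ι] (u : ι → V) (hn : Fintype.card ι < finrank F₃ V)
    (hu : ∀ i, Q (u i) ≠ 0) (ho : ∀ i j, i ≠ j → polar Q (u i) (u j) = 0) : ∃ x, Q x ≠ 0 ∧ ∀ i, polar Q (u i) x = 0 := by
  classical
  obtain ⟨w, hw0, hw⟩ := exists_perp_ne (Q := Q) (u ∘ (Fintype.equivFin ι).symm) hn
  have h1 : ∀ i, polar Q (u i) w = 0 := fun i => by simpa using hw (Fintype.equivFin ι i)
  obtain ⟨y, hy⟩ := hQ.exists_polar_eq hw0 1
  obtain ⟨z, hz⟩ : ∃ z, z = y - ∑ i, (polar Q (u i) y / (2 * Q (u i))) • u i := ⟨_, rfl⟩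
  have h2 : ∀ x, polar Q x z = polar Q x y - ∑ i, polar Q (u i) y / (2 * Q (u i)) * polar Q x (u i) := fun x => by
    rw [hz, polar_sub_right, ← polarBilin_apply_apply Q x (∑ _, _), map_sum]
    simp only [map_smul, polarBilin_apply_apply, smul_eq_mul]
  have h3 : ∀ i, polar Q (u i) z = 0 := fun i => by
    rw [h2, Finset.sum_eq_single i (fun j _ hj => by rw [ho i j hj.symm, mul_zero]) (by simp), polar_self',
      div_mul_cancel₀ _ (mul_ne_zero (by decide) (hu i)), sub_self]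
  have h4 : polar Q w z = 1 := by
    rw [h2, hy, Finset.sum_eq_zero fun i _ => by rw [polar_comm Q w, h1, mul_zero], sub_zero]
  rcases exists_nonsing h4 with h | h | h
  exacts [⟨w, h, h1⟩, ⟨z, h, h3⟩, ⟨w + z, h, fun i => by rw [polar_add_right, h1, h3, add_zero]⟩]

/-- a nondegenerate space of dimension at least two has vectors of every nonzero norm -/
theorem exists_val (hQ : Nondeg Q) (h2 : 2 ≤ finrank F₃ V) {c : F₃} (hc : c ≠ 0) : ∃ x, Q x = c := by
  obtain ⟨a, ha, -⟩ := perp_ns hQ (ι := Fin 0) Fin.elim0 (by simp; omega) (fun i => i.elim0) fun i => i.elim0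
  obtain ⟨b, hb, h⟩ := perp_ns hQ (ι := Unit) (fun _ => a) (by simp; omega) (fun _ => ha) fun _ _ h => absurd rfl h
  have h1 : ∀ a b c : F₃, a ≠ 0 → b ≠ 0 → c ≠ 0 → a = c ∨ b = c ∨ a + b + 0 = c := by decide
  rcases h1 _ _ _ ha hb hc with k | k | k
  exacts [⟨a, k⟩, ⟨b, k⟩, ⟨a + b, by rw [Q_add, h (), k]⟩]

theorem refl_perp {a x : V} (ha : Q a ≠ 0) (h : polar Q a x = 0) : refl Q a ha x = x := by
  rw [refl_apply, h, mul_zero, zero_smul, sub_zero]

theorem Q_sub {a b : V} (h : polar Q a b = 0) : Q (a - b) = Q a + Q b := by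
  rw [sub_eq_add_neg, Q_add, QuadraticMap.map_neg, polar_neg_right, h, neg_zero, add_zero]

/-- an isometry with square `-1` of an 8-dimensional space lies in `Ω` -/
theorem mem_E (hG : Good Q) (h8 : finrank F₃ V = 8) {M : V ≃ₗ[F₃] V} (hM : M ∈ O Q) (h : ∀ x, M (M x) = -x) : M ∈ E Q := by
  have a1 : ∀ x y, polar Q x (M y) = -polar Q (M x) y := fun x y => by rw [← polar_map hM x, h, polar_neg_right]
  have a2 : ∀ x, polar Q x (M x) = 0 := fun x => by
    have h1 := a1 x x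
    rw [polar_comm Q (M x)] at h1
    exact (by decide : ∀ a : F₃, a = -a → a = 0) _ h1
  have a3 : ∀ x, Q (x - M x) = -Q x := fun x => by
    rw [Q_sub (a2 x), mem_O.1 hM]
    exact (by decide : ∀ a : F₃, a + a = -a) _
  have fam : ∀ {k : ℕ} {x : Fin k → V}, (∀ i j, i ≠ j → polar Q (x i) (x j) = 0) → (∀ i j, polar Q (x i) (M (x j)) = 0) →
      ∀ i j, i ≠ j → polar Q (Sum.elim x (M ∘ x) i) (Sum.elim x (M ∘ x) j) = 0 := by
    rintro k x h1 h2 (i | i) (j | j) hij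
    · exact h1 i j fun e => hij (congrArg _ e)
    · exact h2 i j
    · exact (polar_comm Q _ _).trans (h2 j i)
    · exact (polar_map hM _ _).trans (h1 i j fun e => hij (congrArg _ e))
  have nrm : ∀ {k : ℕ} {x : Fin k → V}, (∀ i, Q (x i) = 1) → ∀ i, Q (Sum.elim x (M ∘ x) i) ≠ 0 := by
    rintro k x h1 (i | i)
    · exact (h1 i).trans_ne one_ne_zero
    · exact ((mem_O.1 hM _).trans (h1 i)).trans_ne one_ne_zero
  have ex : ∀ k ≤ 4, ∃ x : Fin k → V, (∀ i, Q (x i) = 1) ∧ (∀ i j, i ≠ j → polar Q (x i) (x j) = 0) ∧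
      ∀ i j, polar Q (x i) (M (x j)) = 0 := by
    intro k hk
    induction k with
    | zero => exact ⟨Fin.elim0, fun i => i.elim0, fun i => i.elim0, fun i => i.elim0⟩
    | succ k ih =>
      obtain ⟨x, h1, h2, h3⟩ := ih (by omega)
      obtain ⟨y, hy, h4⟩ := perp_ns hG.nondeg (Sum.elim x (M ∘ x)) (by simp; omega) (nrm h1) (fam h2 h3)
      have h5 : ∀ i, polar Q (x i) (M y) = 0 := fun i => by
        rw [a1]
        exact neg_eq_zero.2 (h4 (.inr i))
      obtain ⟨z, z1, z2, z3⟩ : ∃ z, Q z = 1 ∧ (∀ i, polar Q (x i) z = 0) ∧ ∀ i, polar Q (x i) (M z) = 0 := by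
        rcases (by decide : ∀ a : F₃, a ≠ 0 → a = 1 ∨ -a = 1) _ hy with e | e
        · exact ⟨y, e, fun i => h4 (.inl i), h5⟩
        · refine ⟨y - M y, (a3 y).trans e, fun i => ?_, fun i => ?_⟩
          · rw [polar_sub_right, h5, sub_zero]
            exact h4 (.inl i)
          · rw [map_sub, h, polar_sub_right, h5, polar_neg_right, zero_sub, neg_neg]
            exact h4 (.inl i)
      refine ⟨Fin.cons z x, fun i => i.cases z1 h1, fun i j => ?_, fun i j => ?_⟩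
      · refine i.cases (j.cases (fun e => absurd rfl e) fun j _ => (polar_comm Q _ _).trans (z2 j)) fun i => ?_
        exact j.cases (fun _ => z2 i) fun j e => h2 i j fun e' => e (congrArg _ e')
      · refine i.cases (j.cases (a2 z) fun j => ?_) fun i => j.cases (z3 i) (h3 i)
        change polar Q z (M (x j)) = 0
        rw [polar_comm, ← neg_eq_zero, ← a1]
        exact z3 j
  obtain ⟨x, h1, h2, h3⟩ := ex 4 le_rfl
  have n1 : ∀ i, Q (x i) ≠ 0 := fun i => (h1 i).trans_ne one_ne_zero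
  have n2 : ∀ i, Q (x i - M (x i)) ≠ 0 := fun i => by rw [a3]; exact neg_ne_zero.2 (n1 i)
  let R : Fin 4 → V ≃ₗ[F₃] V := fun i => refl Q (x i) (n1 i) * refl Q (x i - M (x i)) (n2 i)
  have b0 : ∀ i w, R i w = refl Q (x i) (n1 i) (refl Q (x i - M (x i)) (n2 i) w) := fun _ _ => rfl
  have b1 : ∀ i, refl Q (x i - M (x i)) (n2 i) (x i) = M (x i) := fun i => refl_sub_apply (mem_O.1 hM _) _
  have b2 : ∀ i, R i (x i) = M (x i) := fun i => by rw [b0, b1, refl_perp _ (a2 _)]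
  have b3 : ∀ i, R i (M (x i)) = M (M (x i)) := fun i => by
    have e := LinearEquiv.congr_fun (refl_mul_self (n2 i)) (x i)
    rw [LinearEquiv.mul_apply, b1] at e
    rw [b0, e, h]
    change refl Q (x i) (n1 i) (x i) = _
    rw [refl_apply, polar_self', mul_left_comm, inv_mul_cancel₀ (n1 i), mul_one, two_smul, sub_add_cancel_left]
  have b4 : ∀ i w, polar Q (x i) w = 0 → polar Q (x i) (M w) = 0 → R i w = w := fun i w e1 e2 => by
    rw [a1, neg_eq_zero] at e2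
    rw [b0, refl_perp (n2 i) (by rw [polar_sub_left, e1, e2, sub_zero]), refl_perp _ e1]
  have b5 : ∀ i j, i ≠ j → R i (x j) = x j := fun i j e => b4 i _ (h2 i j e) (h3 i j)
  have b6 : ∀ i j, i ≠ j → R i (M (x j)) = M (x j) := fun i j e =>
    b4 i _ (h3 i j) (by rw [h, polar_neg_right, h2 i j e, neg_zero])
  have b7 : ∀ i j, R i * R j ∈ E Q := fun i j => by
    have o1 := refl_mem_O (n2 i)
    have e1 : Q (refl Q _ (n2 i) (x j)) = Q (x i) := by rw [mem_O.1 o1, h1, h1]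
    have e2 := mul_mem (hG.refl_mul_refl_mem (e1.trans_ne (n1 i)) (n1 i) e1)
      (hG.refl_mul_refl_mem (n2 j) (n2 i) (by rw [a3, a3, h1, h1]))
    rw [← refl_conj o1 (n1 j)] at e2
    convert e2 using 1
    simp only [R, mul_assoc, inv_mul_cancel_left]
  have b8 : ∀ i w, (∀ j, j ≠ i → R j w = w) → (∀ j, j ≠ i → R j (R i w) = R i w) → (R 0 * R 1 * (R 2 * R 3)) w = R i w := by
    intro i w e1 e2
    change R 0 (R 1 (R 2 (R 3 w))) = _
    fin_cases i
    · rw [e1 3 (by decide), e1 2 (by decide), e1 1 (by decide)]; rfl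
    · rw [e1 3 (by decide), e1 2 (by decide)]; exact e2 0 (by decide)
    · rw [e1 3 (by decide)]; exact (congrArg _ (e2 1 (by decide))).trans (e2 0 (by decide))
    · exact (congrArg _ ((congrArg _ (e2 2 (by decide))).trans (e2 1 (by decide)))).trans (e2 0 (by decide))
  have li : LinearIndependent F₃ (Sum.elim x (M ∘ x)) :=
    LinearMap.linearIndependent_of_isOrthoᵢ (B := polarBilin Q) (fun i j e => fam h2 h3 i j e) fun i e => by
      have e' : polar Q _ _ = 0 := e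
      rw [polar_self'] at e'
      exact mul_ne_zero (by decide) (nrm h1 i) e'
  have e : M = R 0 * R 1 * (R 2 * R 3) := LinearEquiv.toLinearMap_injective
    (LinearMap.ext_on_range (li.span_eq_top_of_card_eq_finrank (by simp [h8])) (by
      rintro (i | i)
      · exact ((b8 i _ (fun j e => b5 j i e) fun j e => by rw [b2, b6 j i e]).trans (b2 i)).symm
      · exact ((b8 i _ (fun j e => b6 j i e) fun j e => by rw [b3, h, map_neg, b5 j i e]).trans (b3 i)).symm))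
  exact e ▸ mul_mem (b7 0 1) (b7 2 3)

end space

theorem pp5 : PP (Nat.card F₃) 4 5 := by
  rw [Nat.card_zmod]
  exact ⟨by norm_num, (orderOf_eq_iff (by norm_num)).2 ⟨by decide, fun m h1 h2 => by interval_cases m <;> decide⟩⟩

theorem pp7 : PP (Nat.card F₃) 6 7 := by
  rw [Nat.card_zmod]
  exact ⟨by norm_num, (orderOf_eq_iff (by norm_num)).2 ⟨by decide, fun m h1 h2 => by interval_cases m <;> decide⟩⟩

theorem six {y : Om F₃} (h : y ^ 7 = 1) (h1 : mk8 F₃ y ≠ 1) : Six (gl8 F₃ y) 7 :=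
  ⟨pp7, by rw [← map_pow, h, map_one], fun e => h1 (by rw [gl8_injective (e.trans (map_one _).symm), map_one]), Q_ln y⟩

theorem index_ns {v : V₃} (hv : Q₃ v ≠ 0) : (pt v).index = 1080 := by
  have h := index_pt hv
  rw [Nat.card_zmod] at h
  norm_num at h
  omega

theorem card_G : Nat.card G₃ = 4952179814400 := by
  have h := Cfsg.Agent.S0293.result (F := F₃) (q := 3) (ZMod.card 3) 4 le_rfl
  simp only [Finset.prod_range_succ, Finset.prod_range_zero] at h
  norm_num at h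
  change _ * Nat.card G₃ = _ at h
  omega

/-- the stabiliser of a frame has an element of order divisible by five -/
theorem five_FS {v : V₃} {e : Fin 7 → V₃} (h : Fr v e) : 5 ∣ Nat.card (FS v e) := by
  have n0 : ∀ i, plusQ 4 F₃ (e i) = Q₃ v := h.nrm
  have n1 : ∀ i j, i ≠ j → plusQ 4 F₃ (e i - e j) = Q₃ v + Q₃ v := fun i j hij => by rw [Q_sub (h.oe i j hij), n0, n0]
  have n2 : ∀ {i j}, i ≠ j → plusQ 4 F₃ (e i - e j) ≠ 0 := fun hij => by
    rw [n1 _ _ hij]
    exact (by decide : ∀ a : F₃, a ≠ 0 → a + a ≠ 0) _ h.nv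
  have a1 : ∀ {i j} (hij : i ≠ j) k, refl (plusQ 4 F₃) _ (n2 hij) (e k) = e (swap i j k) := fun {i j} hij k => by
    have b1 : refl (plusQ 4 F₃) _ (n2 hij) (e i) = e j := refl_sub_apply ((n0 j).trans (n0 i).symm) _
    by_cases hi : k = i
    · rw [hi, b1, Equiv.swap_apply_left]
    by_cases hj : k = j
    · rw [hj, Equiv.swap_apply_right]
      exact (congrArg _ b1.symm).trans (LinearEquiv.congr_fun (refl_mul_self (n2 hij)) _)
    · rw [Equiv.swap_apply_of_ne_of_ne hi hj, refl_perp _ (by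
        rw [polar_sub_left, show polar (plusQ 4 F₃) (e i) (e k) = 0 from h.oe i k (Ne.symm hi),
          show polar (plusQ 4 F₃) (e j) (e k) = 0 from h.oe j k (Ne.symm hj), sub_zero])]
  have a2 : ∀ {i j} (hij : i ≠ j), refl (plusQ 4 F₃) _ (n2 hij) v = v := fun {i j} hij => refl_perp _ (by
    rw [polar_comm, polar_sub_right, show polar (plusQ 4 F₃) v (e i) = 0 from h.ov i,
      show polar (plusQ 4 F₃) v (e j) = 0 from h.ov j, sub_zero])
  have a3 : ∀ {i j k l} (hij : i ≠ j) (hkl : k ≠ l),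
      refl (plusQ 4 F₃) _ (n2 hij) * refl (plusQ 4 F₃) _ (n2 hkl) ∈ E (plusQ 4 F₃) := fun hij hkl =>
    good8.refl_mul_refl_mem _ _ ((n1 _ _ hkl).trans (n1 _ _ hij).symm)
  obtain ⟨y, hy⟩ := exists_ln (mul_mem (a3 (i := 0) (j := 1) (k := 1) (l := 2) (by decide) (by decide))
    (a3 (i := 2) (j := 3) (k := 3) (l := 4) (by decide) (by decide)))
  obtain ⟨σ, hσ⟩ : ∃ σ : Perm (Fin 7), σ = swap 0 1 * swap 1 2 * (swap 2 3 * swap 3 4) := ⟨_, rfl⟩
  have a4 : ∀ k, ln y (e k) = e (σ k) := fun k => by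
    simp only [hy, hσ, LinearEquiv.mul_apply, Perm.mul_apply]
    rw [a1 (by decide), a1 (by decide), a1 (by decide), a1 (by decide)]
  have a5 : ∀ n k, ln (y ^ n) (e k) = e ((σ ^ n) k) := fun n k => by
    induction n with
    | zero => exact ln_one _
    | succ n ih => rw [pow_succ', pow_succ', ln_mul, ih, a4, Perm.mul_apply]
  have a6 : mk8 F₃ y ∈ FS v e := by
    refine ⟨(mem_pt' h.nv).2 (Or.inl (by
      simp only [hy, LinearEquiv.mul_apply]
      rw [a2 (by decide), a2 (by decide), a2 (by decide), a2 (by decide)])), y, fun w => ⟨?_, ?_⟩, rfl⟩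
    · rintro ⟨i, rfl | rfl⟩
      exacts [⟨σ i, Or.inl (a4 i)⟩, ⟨σ i, Or.inr (by rw [map_neg, a4])⟩]
    · rintro ⟨i, k⟩
      obtain ⟨i, rfl⟩ := σ.surjective i
      rw [← a4, ← map_neg] at k
      exact ⟨i, k.imp (fun k => ln_injective y k) fun k => ln_injective y k⟩
  generalize hn : Nat.card (FS v e) = n
  obtain ⟨c, hc⟩ := mk8_eq_one (y := y ^ n) (by
    rw [map_pow, ← hn]
    exact congrArg Subtype.val (pow_card_eq_one' (x := (⟨_, a6⟩ : FS v e))))
  have a7 : e ((σ ^ n) 0) = c • e 0 := (a5 n 0).symm.trans (hc _)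
  have a8 : (σ ^ n) 0 = 0 := by_contra fun k => by
    have b1 : polar (plusQ 4 F₃) (e ((σ ^ n) 0)) (e ((σ ^ n) 0)) = 0 := by
      nth_rewrite 1 [a7]
      rw [polar_smul_left, show polar (plusQ 4 F₃) (e 0) _ = 0 from h.oe _ _ (Ne.symm k), smul_zero]
    rw [polar_self', n0] at b1
    exact mul_ne_zero (by decide) h.nv b1
  have a9 : σ ^ 5 = 1 := by rw [hσ]; decide
  rw [← Nat.div_add_mod n 5, pow_add, pow_mul, a9, one_pow, one_mul, hσ] at a8
  have := Nat.mod_lt n (show 0 < 5 by norm_num)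
  refine Nat.dvd_of_mod_eq_zero ?_
  generalize n % 5 = m at a8 this
  interval_cases m <;> first | rfl | exact absurd a8 (by decide)

/-- a maximal subgroup of `pt v` of order divisible by `7` has order divisible by `5` or is large -/
theorem max_case (hM : BoxM7) {v : V₃} (hv : Q₃ v ≠ 0) {R : Subgroup G₃} (h : R ⋖ pt v) (h7 : 7 ∣ Nat.card R)
    (h5 : ¬ 5 ∣ Nat.card R) : 1344 < Nat.card R := by
  rcases hM v hv R h with ⟨D, h0, h3, hD, -, e⟩ | ⟨f, hf, e⟩ | ⟨k, -⟩ | ⟨-, k⟩ | ⟨k, -⟩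
  · obtain ⟨y, hy, h1, h2⟩ := exists_elt (by norm_num) (by decide) h7
    have s := six h1 h2
    have a1 : ∀ W : Submodule F₃ V₃, mk8 F₃ y ∈ St W → finrank F₃ W ≤ 3 → W ≤ fx (ln y) := fun W k1 k2 =>
      s.isoQ.le_fx pp7 (mem_St.1 k1) (k2.trans_lt (by norm_num))
    have v0 := ne_zero_of_Q hv
    have a2 := a1 D (e ▸ hy).2 h3
    have a3 := a1 _ (e ▸ hy).1 (by rw [finrank_span_singleton v0]; norm_num)
    have a4 : D ⊓ Submodule.span F₃ {v} = ⊥ := (Submodule.eq_bot_iff _).2 fun x hx => by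
      obtain ⟨c, rfl⟩ := Submodule.mem_span_singleton.1 hx.2
      have b1 : polar (plusQ 4 F₃) v (c • v) = 0 := hD _ hx.1
      rw [polar_smul_right, polar_self', smul_eq_mul, mul_eq_zero] at b1
      rw [b1.resolve_right (mul_ne_zero (by decide) hv), zero_smul]
    have a5 := (Submodule.finrank_mono (sup_le a2 a3)).trans s.plane.1.le
    rw [H951.finrank_sup_of_disj a4, finrank_span_singleton v0] at a5
    obtain ⟨w, hw, hw0⟩ := (Submodule.ne_bot_iff D).1 h0
    have a6 : Submodule.span F₃ {w} = D := Submodule.eq_of_le_of_finrank_le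
      ((Submodule.span_singleton_le_iff_mem _ _).2 hw) (by rw [finrank_span_singleton hw0]; omega)
    have a7 : R.index ≤ 1080 * 1080 := by
      rw [e, ← a6]
      exact Subgroup.index_inf_le.trans (by rw [index_ns hv, index_ns fun k => hw0 (s.plane.2 w (a2 hw) k)])
    have a8 := R.index_mul_card
    rw [card_G] at a8
    by_contra k
    have a9 := Nat.mul_le_mul a7 (not_lt.1 k)
    omega
  · exact absurd (e ▸ five_FS hf) h5
  · exact absurd (Dvd.dvd.trans (by norm_num) k) h5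
  · omega
  · exact lt_of_lt_of_le (by norm_num) (Nat.le_of_dvd Nat.card_pos k)

variable {Y N : Subgroup G₃} {v : V₃}

theorem So.le_of {R N N' : Subgroup G₃} (h : So R N) (h' : So R N') : N' ≤ N := by
  have := h'.simple
  rcases (⟨fun x hx g => h.conj g (h'.le g.2) x hx⟩ : (N.subgroupOf N').Normal).eq_bot_or_eq_top with k | k
  · obtain ⟨y, hy⟩ := exists_ne (1 : N')
    refine absurd (Subtype.ext (h.cen y (h'.le y.2) fun x hx => ?_)) hy
    have h3 : (y : G₃) * (x * (y : G₃)⁻¹ * x⁻¹) ∈ N' := mul_mem y.2 (h'.conj x (h.le hx) _ (inv_mem y.2))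
    have h4 : (⟨_, h3⟩ : N') ∈ N.subgroupOf N' := by
      have h5 := mul_mem (h.conj y (h'.le y.2) x hx) (inv_mem hx)
      rwa [mul_assoc, mul_assoc, ← mul_assoc x] at h5
    rw [k, Subgroup.mem_bot] at h4
    have h5 : (y : G₃) * (x * (y : G₃)⁻¹ * x⁻¹) = 1 := congrArg Subtype.val h4
    rwa [← mul_assoc, ← mul_assoc, mul_inv_eq_one, mul_inv_eq_iff_eq_mul] at h5
  · exact Subgroup.subgroupOf_eq_top.1 k

/-- a linear isometry -/
def Li (M : Γ₃) : Prop := (∀ x, Q₃ (M.1 x) = Q₃ x) ∧ ∀ (c : F₃) x, M.1 (c • x) = c • M.1 x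

/-- lifts of odd order commute with `M` -/
theorem lift_comm {M : Γ₃} {r : ℕ} (hr : Odd r) {z : G₃} (hz : z ^ r = 1) (h : ph F₃ M z = z) :
    ∃ y : Om F₃, mk8 F₃ y = z ∧ y ^ r = 1 ∧ ∀ x, ln y (M.1 x) = M.1 (ln y x) := by
  obtain ⟨y, rfl, h1⟩ := lift_odd hr hz
  obtain ⟨y', h2, h3⟩ := exists_ph M y
  obtain ⟨c, hc⟩ := mk8_eq (h2.symm.trans h)
  have h4 : ∀ n x, ln (y' ^ n) x = c ^ n • ln (y ^ n) x := fun n x => by
    induction n with
    | zero => rw [pow_zero, pow_zero, pow_zero, one_smul]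
    | succ n ih =>
      rw [pow_succ', pow_succ', pow_succ', ln_mul, ln_mul, ih, map_smul, mul_comm, mul_smul]
      exact congrArg _ (hc _)
  obtain ⟨x, hx⟩ := exists_ne (0 : V₃)
  have h5 := ln_pow_conj h3 r x
  rw [h4, h1, ln_one, ln_one] at h5
  have h6 : c ^ r = 1 := smul_left_injective F₃ (fun e => hx (gam_eq_zero.1 e)) (h5.trans (one_smul _ _).symm)
  have h7 : c = 1 := by
    rcases (by decide : ∀ a : F₃, a = 0 ∨ a = 1 ∨ a = -1) c with rfl | rfl | rfl
    · rw [zero_pow hr.pos.ne'] at h6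
      exact h6
    · rfl
    · rwa [hr.neg_one_pow] at h6
  refine ⟨y, rfl, h1, fun x => ?_⟩
  rw [← h3, show ln y' (M.1 x) = _ from hc _, h7, one_smul]

/-- an involution which is induced by an isometry and centralises elements of order `5` and `7` of a transitive group -/
theorem inner (hv : Q₃ v ≠ 0) (hP : Pd (pt v) Y) (h5 : ¬ 5 ∣ Nat.card ↥(pt v ⊓ Y)) {M : Γ₃} (hM : Li M)
    (h2 : ph F₃ M * ph F₃ M = 1) {z w : G₃} (hz : z ^ 7 = 1) (hz1 : z ≠ 1) (hz2 : ph F₃ M z = z) (hw : w ^ 5 = 1)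
    (hw1 : w ≠ 1) (hw2 : ph F₃ M w = w) (hw3 : w ∈ Y) : ∃ g, ph F₃ M = MulAut.conj g := by
  obtain ⟨a, ha, h3⟩ := ph_eq_one.1 ((map_mul _ M M).trans h2)
  let L : V₃ ≃ₗ[F₃] V₃ := { M.1 with map_add' := gam_add M, map_smul' := hM.2 }
  have hL : ∀ x, L x = M.1 x := fun _ => rfl
  rcases (by decide : ∀ a : F₃, a ≠ 0 → a = 1 ∨ a = -1) a ha with rfl | rfl
  swap
  · obtain ⟨y, hy⟩ := exists_ln (mem_E good8 Can.dim8 (M := L) hM.1 fun x => (h3 x).trans (neg_one_smul _ _))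
    exact ⟨mk8 F₃ y, by rw [← ph_og, show og F₃ y = M from Subtype.ext (Equiv.ext hy)]⟩
  by_contra hc
  obtain ⟨y, rfl, y1, y2⟩ := lift_comm (by decide) hz hz2
  obtain ⟨u, rfl, u1, u2⟩ := lift_comm (by decide) hw hw2
  have s := six y1 hz1
  let D : F₃ → Submodule F₃ V₃ := fun c => LinearMap.ker (L.toLinearMap - c • LinearMap.id)
  have d1 : ∀ c x, x ∈ D c ↔ M.1 x = c • x := fun c x =>
    LinearMap.mem_ker.trans (sub_eq_zero (a := M.1 x) (b := c • x))
  have d2 : ∀ {t : Om F₃}, (∀ x, ln t (M.1 x) = M.1 (ln t x)) → ∀ c, H951.Inv (ln t) (D c) := fun ht c x hx =>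
    (d1 c _).2 (by rw [← ht, (d1 c x).1 hx, map_smul])
  have d3 : ∀ c : F₃, c * c = 1 → D (-c) ≠ ⊥ := fun c k e => hc ⟨1, by
    rw [map_one]
    refine ph_eq_one.2 ⟨c, fun e => by simp [e] at k, fun x => sub_eq_zero.1 ((Submodule.eq_bot_iff _).1 e _ ((d1 _ _).2 ?_))⟩
    rw [← hL, map_sub, map_smul, hL, hL, show M.1 (M.1 x) = _ from h3 x, smul_sub, smul_smul, neg_mul, k]
    module⟩
  obtain ⟨c, k1, k2⟩ : ∃ c, D c ≠ ⊥ ∧ D c ≤ fx (ln y) := by
    rcases s.data.2.2.1 _ (d2 y2 (-1)) with k | k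
    · exact ⟨_, d3 1 (by decide), k⟩
    rcases s.data.2.2.1 _ (d2 y2 (- -1)) with k' | k'
    · exact ⟨_, d3 (-1) (by decide), k'⟩
    obtain ⟨x, hx, hx0⟩ := s.nontriv
    have e := ((d1 _ x).1 (k hx)).symm.trans ((d1 _ x).1 (k' hx))
    exact absurd (smul_left_injective F₃ hx0 e) (by decide)
  have i5 : Iso (plusQ 4 F₃) (ln u) 5 := Iso.mk' pp5 (by norm_num)
    (by rw [← Can.ln_pow, u1]; exact LinearMap.ext ln_one) (Q_ln u)
  have k3 := i5.le_fx pp5 (d2 u2 c) (((Submodule.finrank_mono k2).trans s.plane.1.le).trans_lt (by norm_num))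
  obtain ⟨f1, f2, -⟩ := Can.fx_four pp5 u1 (fun e => hw1 (by rw [e, map_one])) fun e => k1 (eq_bot_iff.2 (e ▸ k3))
  obtain ⟨x, hx⟩ := exists_val f2 ((by norm_num : 2 ≤ 4).trans f1.ge) hv
  obtain ⟨t, ht⟩ := exists_ln_map (ne_zero_of_Q hv) (ne_zero_of_Q (v := x.1) (hx.trans_ne hv)) hx.symm
  have k4 : mk8 F₃ u ∈ im (MulAut.conj (mk8 F₃ t)) (pt v) := by
    rw [conj_pt, ht]
    exact mem_pt.2 ⟨1, by rw [one_smul]; exact mem_fx.1 x.2⟩
  obtain ⟨b, hb, a, ha, e⟩ := hP.symm (mk8 F₃ t)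
  obtain ⟨g, hg, e'⟩ := k4
  have k5 : b⁻¹ * mk8 F₃ u * b ∈ pt v ⊓ Y := by
    refine ⟨?_, Y.mul_mem (Y.mul_mem (Y.inv_mem hb) hw3) hb⟩
    have : b⁻¹ * mk8 F₃ u * b = a * g * a⁻¹ := by
      rw [← e', e]
      change b⁻¹ * (b * a * g * (b * a)⁻¹) * b = _
      group
    exact this ▸ (pt v).mul_mem ((pt v).mul_mem ha hg) ((pt v).inv_mem ha)
  have : Fact (Nat.Prime 5) := ⟨by norm_num⟩
  refine h5 ((orderOf_eq_prime (p := 5) (x := (⟨_, k5⟩ : ↥(pt v ⊓ Y))) (Subtype.ext ?_) fun e => hw1 ?_).symm.dvd.trans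
    (orderOf_dvd_natCard _))
  · change (b⁻¹ * mk8 F₃ u * b) ^ 5 = 1
    rw [← inv_inv b, inv_inv b⁻¹, conj_pow, hw, mul_one, mul_inv_cancel]
  · have e1 : b⁻¹ * mk8 F₃ u * b = 1 := congrArg Subtype.val e
    rwa [mul_assoc, inv_mul_eq_one, right_eq_mul] at e1

theorem card_psp : Nat.card (PSp 3 (ZMod 2)) = 1451520 ∧ Nat.card (MulAut (PSp 3 (ZMod 2))) = 1451520 := by
  have h1 := S0245.result (F := ZMod 2) (q := 2) (ZMod.card 2) 3
  have h2 := S0246.result (F := ZMod 2) (q := 2) (ZMod.card 2) 3 (by norm_num)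
  have h3 := Subgroup.card_eq_card_quotient_mul_card_subgroup (Subgroup.center (Matrix.symplecticGroup (Fin 3) (ZMod 2)))
  rw [h1, h2] at h3
  simp only [Finset.prod_range_succ, Finset.prod_range_zero] at h3
  norm_num at h3
  have h4 : Nat.card (PSp 3 (ZMod 2)) = 1451520 := by
    show Nat.card (Matrix.symplecticGroup (Fin 3) (ZMod 2) ⧸ Subgroup.center _) = _
    omega
  rw [S0814.result (F := ZMod 2) 2 1 le_rfl (by rw [ZMod.card, pow_one]) 3 (by norm_num) (by norm_num), h4]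
  norm_num

theorem card_alt : Nat.card (alternatingGroup (Fin 9)) = 181440 ∧ Nat.card (MulAut (alternatingGroup (Fin 9))) = 362880 := by
  have h1 := two_mul_nat_card_alternatingGroup (α := Fin 9)
  have h2 : Nat.card (Perm (Fin 9)) = 362880 := by
    rw [Nat.card_perm, Nat.card_eq_fintype_card, Fintype.card_fin]
    rfl
  exact ⟨by omega, (Nat.card_congr (Equiv.ofBijective _ (S2119.result 9 (by norm_num) (by norm_num)))).symm.trans h2⟩

/-- the restriction to an invariant subgroup -/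
noncomputable def rsA {V : Subgroup (MulAut G₃)} (h : Iv V N) : V →* MulAut N where
  toFun β := ⟨⟨fun x => ⟨β.1 x, h _ β.2 _ x.2⟩, fun x => ⟨β.1⁻¹ x, h _ (inv_mem β.2) _ x.2⟩,
    fun _ => Subtype.ext (MulAut.inv_apply_self _ _ _), fun _ => Subtype.ext (MulAut.apply_inv_self _ _ _)⟩,
    fun _ _ => Subtype.ext (map_mul β.1 _ _)⟩
  map_one' := rfl
  map_mul' _ _ := rfl

end A9

open A9

theorem boxA9_of (hN : BoxNp) (hM : BoxM7) : BoxA9 := by
  intro v Y U V S P hv c hR hS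
  have hnrm := hR.nrm
  let i : S ≃* S.map Y.subtype := S.equivMapOfInjective Y.subtype Y.subtype_injective
  have so : So Y (S.map Y.subtype) :=
    { le := Subgroup.map_subtype_le S
      conj := by
        rintro g hg _ ⟨x, hx, rfl⟩
        exact ⟨_, hnrm.conj_mem x hx ⟨g, hg⟩, rfl⟩
      simple := i.isSimpleGroup_congr.1 hR.simple
      cen := fun g hg h => by
        have h1 : (⟨g, hg⟩ : Y) ∈ Subgroup.centralizer (S : Set Y) := fun x hx => Subtype.ext (h _ ⟨x, hx, rfl⟩).symm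
        rw [hR.cen, Subgroup.mem_bot] at h1
        exact congrArg Subtype.val h1 }
  have hS' : Sm (S.map Y.subtype) (Nat.card Y) :=
    hS.imp (fun ⟨⟨e⟩, k⟩ => ⟨⟨i.symm.trans e⟩, k⟩) fun ⟨⟨e⟩, k⟩ => ⟨⟨i.symm.trans e⟩, k⟩
  have hP := hR.core
  generalize S.map Y.subtype = N at so hS'
  have a1 := c.pd.symm.card_left
  rw [index_ns hv, inf_comm] at a1
  have a2 : Nat.card Y = 181440 ∨ Nat.card Y = 362880 ∨ Nat.card Y = 1451520 := by
    rcases hS' with ⟨⟨e⟩, k⟩ | ⟨-, k⟩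
    · obtain ⟨d, hd⟩ := Subgroup.card_dvd_of_le so.le
      rw [Nat.card_congr e.toEquiv, card_alt.1] at hd
      have h1 := Nat.le_of_dvd (by norm_num) k
      have h2 : 0 < Nat.card Y := Nat.card_pos
      obtain rfl | rfl : d = 1 ∨ d = 2 := by omega
      exacts [Or.inl hd, Or.inr (Or.inl hd)]
    · exact Or.inr (Or.inr k)
  have a3 : ¬ 5 ∣ Nat.card ↥(pt v ⊓ Y) := by omega
  by_cases hW : ∀ β ∈ U ⊓ V, β ∈ Inn G₃
  · refine absurd (max_case hM hv ⟨lt_of_le_of_ne inf_le_left fun e => c.not_le (e.ge.trans inf_le_right),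
      fun K h1 h2 => (c.prim K h1.le h2.le fun β hβ x hx => ?_).elim h1.ne' h2.ne⟩ (by omega) a3) (by omega)
    obtain ⟨g, rfl⟩ := hW β hβ
    obtain ⟨M, m1, m2, -, m3⟩ := hN v hv _ (c.uX _ hβ.1)
    obtain ⟨y, rfl⟩ := mk8_surjective g
    obtain ⟨a, -, h3⟩ := (ph_eq_one (M := M⁻¹ * og F₃ y)).1 (by rw [map_mul, map_inv, m1, ph_og, inv_mul_cancel])
    have h4 : ln y v = a • M.1 v := by rw [← m3, ← h3 v]; exact (gam_apply_inv M _).symm
    have h5 : mk8 F₃ y ∈ K := h1.le ⟨mem_pt.2 (m2.elim (fun e => ⟨a, by rw [h4, e]⟩) fun e =>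
      ⟨-a, by rw [h4, e, smul_neg, neg_smul]⟩), (c.inV _).1 hβ.2⟩
    exact mul_mem (mul_mem h5 hx) (inv_mem h5)
  push Not at hW
  obtain ⟨γ, hγ, hγ'⟩ := hW
  have b1 : ∀ β ∈ V, ∃ M, Li M ∧ ph F₃ M = β := fun β hβ => by
    obtain ⟨δ, hδ, s, rfl⟩ := c.decW β (Subgroup.mem_sup_right hβ)
    obtain ⟨M, rfl, -, m2, m3⟩ := hN v hv _ (c.uX _ hδ.1)
    obtain ⟨y, rfl⟩ := mk8_surjective s
    exact ⟨M * og F₃ y, ⟨fun x => (m2 _).trans (Q_ln y x), fun a x => (congrArg M.1 ((ln y).map_smul a x)).trans (m3 _ _)⟩,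
      by rw [map_mul, ph_og]⟩
  have b2 : Iv V N := fun β hβ x hx => by
    have h1 := so.im β
    rw [show im β Y = Y from Subgroup.eq_of_le_of_card_ge (Subgroup.map_le_iff_le_comap.2 (c.vY β hβ)) (card_im _ _).ge] at h1
    exact So.le_of so h1 (mem_im.2 hx)
  have b3 : Function.Injective (rsA b2) := (injective_iff_map_eq_one _).2 fun β h => Subtype.ext (by
    obtain ⟨M, -, e⟩ := b1 β.1 β.2
    exact Mi.cor so hP _ ⟨M, e⟩ fun x hx => congrArg Subtype.val (MulEquiv.congr_fun h ⟨x, hx⟩))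
  have b4 : 2 * Nat.card Y ≤ Nat.card V := by
    have : Finite V := Finite.of_injective _ b3
    have h1 : Function.Injective (MulAut.conj : G₃ →* MulAut G₃) := (injective_iff_map_eq_one _).2 fun g h =>
      c.cen g fun x _ => mul_inv_eq_iff_eq_mul.1 (MulEquiv.congr_fun h x)
    have h2 : Y.map MulAut.conj ≤ V := by
      rintro _ ⟨g, hg, rfl⟩
      exact (c.inV g).2 hg
    have h3 := ((Y.map MulAut.conj).subgroupOf V).index_mul_card
    rw [Nat.card_congr (Subgroup.subgroupOfEquivOfLe h2).toEquiv, Subgroup.card_map_of_injective h1] at h3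
    have h4 : ((Y.map MulAut.conj).subgroupOf V).index ≠ 1 := fun e => by
      obtain ⟨g, -, k⟩ := Subgroup.subgroupOf_eq_top.1 (Subgroup.index_eq_one.1 e) hγ.2
      exact hγ' ⟨g, k⟩
    have h5 := ((Y.map MulAut.conj).subgroupOf V).index_ne_zero_of_finite
    exact h3 ▸ Nat.mul_le_mul_right _ (by omega)
  have b5 := Nat.card_le_card_of_injective _ b3
  rcases hS' with ⟨⟨e⟩, -⟩ | ⟨⟨e⟩, k⟩
  swap
  · rw [Nat.card_congr (MulAut.congr e).toEquiv, card_psp.2] at b5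
    omega
  have b6 := Nat.card_congr (MulAut.congr e).toEquiv
  rw [card_alt.2] at b6
  have b7 : N = Y := Subgroup.eq_of_le_of_card_ge so.le (by rw [Nat.card_congr e.toEquiv, card_alt.1]; omega)
  subst b7
  obtain ⟨τ, hτ⟩ := (b3.bijective_of_nat_card_le (by omega)).2 ((MulAut.congr e).symm (MulAut.conjNormal (swap (0 : Fin 9) 1)))
  have b8 : ∀ x : alternatingGroup (Fin 9), τ.1 (e.symm x) = e.symm (MulAut.conjNormal (swap (0 : Fin 9) 1) x) := fun x => by
    have h1 : rsA b2 τ (e.symm x) = e.symm (MulAut.conjNormal (swap (0 : Fin 9) 1) x) := by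
      simpa using MulEquiv.congr_fun hτ (e.symm x)
    exact congrArg Subtype.val h1
  obtain ⟨M, m1, m2⟩ := b1 τ.1 τ.2
  have b9 : ∀ (x : Perm (Fin 9)) (hx : x ∈ alternatingGroup (Fin 9)) (r : ℕ), x ^ r = 1 → x ≠ 1 →
      swap 0 1 * x * (swap 0 1)⁻¹ = x → ((e.symm ⟨x, hx⟩ : N) : G₃) ^ r = 1 ∧ ((e.symm ⟨x, hx⟩ : N) : G₃) ≠ 1 ∧
        ph F₃ M (e.symm ⟨x, hx⟩) = e.symm ⟨x, hx⟩ := fun x hx r h1 h2 h3 => by
    refine ⟨?_, fun k => h2 ?_, ?_⟩
    · rw [← Subgroup.coe_pow, ← map_pow, show (⟨x, hx⟩ : alternatingGroup (Fin 9)) ^ r = 1 from Subtype.ext h1, map_one]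
      rfl
    · exact congrArg Subtype.val ((map_eq_one_iff _ e.symm.injective).1 (Subtype.ext k))
    · rw [m2, b8]
      exact congrArg (fun t => ((e.symm t : N) : G₃)) (Subtype.ext h3)
  obtain ⟨z1, z2, z3⟩ := b9 (swap 2 3 * swap 3 4 * swap 4 5 * swap 5 6 * swap 6 7 * swap 7 8)
    (Perm.mem_alternatingGroup.2 (by simp [Perm.sign_swap'])) 7 (by decide +kernel) (by decide +kernel) (by decide +kernel)
  obtain ⟨w1, w2, w3⟩ := b9 (swap 2 3 * swap 3 4 * swap 4 5 * swap 5 6)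
    (Perm.mem_alternatingGroup.2 (by simp [Perm.sign_swap'])) 5 (by decide +kernel) (by decide +kernel) (by decide +kernel)
  obtain ⟨g, hg⟩ := inner hv c.pd a3 m1 (by
    rw [m2, ← Subgroup.coe_mul, show τ * τ = 1 from b3 (by
      rw [map_mul, hτ, ← map_mul, ← map_mul, Equiv.swap_mul_self, map_one, map_one, map_one])]
    rfl) z1 z2 z3 w1 w2 w3 (e.symm _).2
  have h1 : g ∈ N := (c.inV g).1 (hg ▸ m2 ▸ τ.2)
  have h2 : swap (0 : Fin 9) 1 = e ⟨g, h1⟩ := (S2119.result 9 (by norm_num) (by norm_num)).1 (MulEquiv.ext fun x => by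
    apply e.symm.injective
    refine Subtype.ext ((b8 x).symm.trans ?_)
    rw [← m2, hg, MulAut.conjNormal_val, MulAut.conj_apply, MulAut.conj_apply, map_mul, map_mul, map_inv,
      MulEquiv.symm_apply_apply]
    rfl)
  have h3 := Perm.mem_alternatingGroup.1 (e ⟨g, h1⟩).2
  rw [← h2, Perm.sign_swap (by decide)] at h3
  exact absurd h3 (by decide)

end Cfsg.Agent.SM.O8.T3
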