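import Cfsg.Agent.SM.O8.Three.Defs

/-!
# SM, `S = PΩ⁺₈(3)`: a group of order `|Ω⁺₈(2)|` is not primitive on the 1080 points (helper47)
-/

set_option autoImplicit false

namespace Cfsg.Agent.SM.O8.T3

open Module QuadraticMap Cfsg Cfsg.Geo
open Cfsg.Agent.H708.O8 (I8 T8)
open Cfsg.Agent.H823.O8S (mk8 mk8_eq)
open Cfsg.Agent.H198.Carriers (plusQ)
open Cfsg.Agent.SM.Ex78 (Pd)

namespace B2

/-- the polar form -/
noncomputable def bl : V₃ →ₗ[F₃] V₃ →ₗ[F₃] F₃ := polarBilin (plusQ 4 F₃)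

theorem bl_eq (x y : V₃) : polar Q₃ x y = bl x y := rfl

theorem bl_self (x : V₃) : bl x x = -Q₃ x := by
  have h1 : bl x x = 2 • Q₃ x := polar_self (plusQ 4 F₃) x
  rw [h1]
  generalize Q₃ x = s
  revert s
  decide

theorem bl_comm (x y : V₃) : bl x y = bl y x := polar_comm Q₃ x y

theorem tri : ∀ c : F₃, c = 0 ∨ c = 1 ∨ c = -1 := by decide

theorem mk_pm {z z' : Om F₃} (h : mk8 F₃ z = mk8 F₃ z') : (∀ x, ln z x = ln z' x) ∨ ∀ x, ln z x = -ln z' x := by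
  obtain ⟨c, hc⟩ := mk8_eq h
  obtain rfl | rfl | rfl := tri c
  · obtain ⟨x, hx⟩ := exists_ne (0 : V₃)
    exact absurd (ln_injective z (((hc x).trans (zero_smul _ _)).trans (map_zero _).symm)) hx
  · exact Or.inl fun x => (hc x).trans (one_smul _ _)
  · exact Or.inr fun x => (hc x).trans (neg_one_smul _ _)

theorem gam_neg (M : Γ₃) (x : V₃) : M.1 (-x) = -M.1 x := by
  rw [eq_neg_iff_add_eq_zero, ← gam_add, neg_add_cancel, gam_zero]

theorem mem_SO {Z : Set V₃} {y : Om F₃} (h : ∀ w ∈ Z, ln y w ∈ Z) : y ∈ SO Z := fun w => ⟨h w, fun hw => by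
  obtain ⟨w', h1, h2⟩ := (((Set.toFinite Z).injOn_iff_bijOn_of_mapsTo h).1 (ln_injective y).injOn).surjOn hw
  exact ln_injective y h2 ▸ h1⟩

/-- products of two reflections -/
theorem exists_rr {a b : V₃} (ha : Q₃ a ≠ 0) (hb : Q₃ b = Q₃ a) (h0 : bl a b = 0) :
    ∃ z : Om F₃, ∀ x, ln z x = x - (Q₃ a * bl a x) • a - (Q₃ a * bl b x) • b := by
  obtain ⟨y, hy⟩ := exists_ln_map (ne_zero_of_Q ha) (ne_zero_of_Q (hb ▸ ha)) hb.symm
  obtain ⟨y', -, h⟩ := exists_ph (rf a ha) y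
  have h1 : (Q₃ a)⁻¹ = Q₃ a := inv_eq_of_mul_eq_one_left ((by decide : ∀ s : F₃, s ≠ 0 → s * s = 1) _ ha)
  have h2 : ∀ x, (rf a ha).1 x = x - (Q₃ a * bl a x) • a := fun x => by rw [rf_apply, h1, bl_eq]
  have h3 : ∀ x, (rf a ha).1 ((rf a ha).1 x) = x := fun x => by
    rw [h2, h2, map_sub, map_smul, bl_self, sub_sub, ← add_smul, sub_eq_self, smul_eq_mul]
    rw [(by decide : ∀ s t : F₃, s ≠ 0 → s * t + s * (t - s * t * -s) = 0) _ _ ha, zero_smul]
  refine ⟨y' * y⁻¹, fun x => ?_⟩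
  rw [ln_mul, ← h3 (ln y⁻¹ x), h, h2 (ln y⁻¹ x), map_sub, map_smul, ln_apply_inv, hy, ← bl_eq, ← polar_ln y, ln_apply_inv,
    hy, bl_eq, h2, map_sub, map_smul, h0, smul_zero, sub_zero, sub_right_comm]

variable {v : V₃} {e : Fin 7 → V₃}

/-- the eight points -/
def Dl (v : V₃) (e : Fin 7 → V₃) : Set V₃ := {w | (w = v ∨ w = -v) ∨ ∃ i, w = e i ∨ w = -e i}

/-- diagonal elements -/
def Dg (v : V₃) (e : Fin 7 → V₃) (z : Om F₃) : Prop := ln z v = v ∧ ∀ i, ln z (e i) = e i ∨ ln z (e i) = -e i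

theorem neg_mem {w : V₃} (h : w ∈ Dl v e) : -w ∈ Dl v e := by
  rcases h with (rfl | rfl) | ⟨i, rfl | rfl⟩
  exacts [Or.inl (Or.inr rfl), Or.inl (Or.inl (neg_neg _)), Or.inr ⟨i, Or.inr rfl⟩, Or.inr ⟨i, Or.inl (neg_neg _)⟩]

theorem maps {f : V₃ → V₃} (h0 : ∀ x, f (-x) = -f x) (h1 : f v ∈ Dl v e) (h2 : ∀ i, f (e i) ∈ Dl v e) :
    ∀ w ∈ Dl v e, f w ∈ Dl v e := by
  rintro w ((rfl | rfl) | ⟨i, rfl | rfl⟩)
  exacts [h1, h0 v ▸ neg_mem h1, h2 i, h0 (e i) ▸ neg_mem (h2 i)]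

theorem mem_FS {z : Om F₃} (hz : mk8 F₃ z ∈ FS v e) (i : Fin 7) : ∃ j, ln z (e i) = e j ∨ ln z (e i) = -e j := by
  obtain ⟨z', h1, h2⟩ := hz.2
  obtain ⟨j, h3⟩ := (h1 (e i)).1 ⟨i, Or.inl rfl⟩
  refine ⟨j, ?_⟩
  rcases mk_pm h2.symm with h | h <;> rw [h]
  · exact h3
  · rcases h3 with h3 | h3 <;> rw [h3]
    exacts [Or.inr rfl, Or.inl (neg_neg _)]

theorem FS_of (hv : Q₃ v ≠ 0) {z : Om F₃} (h1 : ln z v = v ∨ ln z v = -v)
    (h2 : ∀ i, ∃ j, ln z (e i) = e j ∨ ln z (e i) = -e j) : mk8 F₃ z ∈ FS v e := by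
  refine ⟨(mem_pt' hv).2 h1, z, mem_SO ?_, rfl⟩
  rintro w ⟨i, rfl | rfl⟩
  · exact h2 i
  · obtain ⟨j, h | h⟩ := h2 i <;> rw [map_neg, h]
    exacts [⟨j, Or.inr rfl⟩, ⟨j, Or.inl (neg_neg _)⟩]

variable (F : Fr v e)
include F

theorem ee (i j : Fin 7) : bl (e i) (e j) = if i = j then -Q₃ v else 0 := by
  split_ifs with h
  · rw [h, bl_self, F.nrm]
  · exact F.oe i j h

theorem ev (i : Fin 7) : bl (e i) v = 0 := (bl_comm _ _).trans (F.ov i)

theorem span {x : V₃} (h1 : bl v x = 0) (h2 : ∀ i, bl (e i) x = 0) : x = 0 := by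
  let d : Option (Fin 7) → V₃ := fun o => o.elim v e
  have h3 : LinearIndependent F₃ d := Fintype.linearIndependent_iff.2 fun g hg o => by
    have h3 := congrArg (bl (d o)) hg
    rw [map_zero, Fintype.sum_option, map_add, map_sum] at h3
    simp only [map_smul, smul_eq_mul] at h3
    rcases o with _ | i
    · change _ * bl v v + ∑ j, _ * bl v (e j) = 0 at h3
      simpa [← bl_eq v (e _), F.ov, bl_self, F.nv] using h3
    · change _ * bl (e i) v + ∑ j, _ * bl (e i) (e j) = 0 at h3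
      simpa [ee F, ev F, F.nv] using h3
  have h4 := h3.span_eq_top_of_card_eq_finrank' (by simp)
  refine (good8 (F := F₃)).nondeg x fun y => ?_
  have h5 : Submodule.span F₃ (Set.range d) ≤ LinearMap.ker (bl x) := Submodule.span_le.2 (by
    rintro _ ⟨_ | i, rfl⟩
    exacts [(bl_comm _ _).trans h1, (bl_comm _ _).trans (h2 i)])
  exact h5 (h4.ge trivial)

theorem exists_dg {i j : Fin 7} (h : i ≠ j) :
    ∃ z, Dg v e z ∧ ∀ x, ln z x = x - (Q₃ v * bl (e i) x) • e i - (Q₃ v * bl (e j) x) • e j := by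
  obtain ⟨z, hz⟩ := exists_rr (a := e i) (b := e j) (F.nrm i ▸ F.nv) ((F.nrm j).trans (F.nrm i).symm) (F.oe i j h)
  rw [F.nrm] at hz
  refine ⟨z, ⟨by simp [hz, ev F], fun k => ?_⟩, hz⟩
  have h1 : ∀ x : V₃, x - (Q₃ v * -Q₃ v) • x = -x := fun x => by
    have h1 : ∀ s : F₃, s ≠ 0 → 1 - s * -s = -1 := by decide
    rw [← neg_one_smul F₃ x, ← h1 _ F.nv, sub_smul, one_smul]
  rw [hz, ee F, ee F]
  by_cases h2 : i = k
  · rw [if_pos h2, if_neg (h2 ▸ h.symm), h2, h1, mul_zero, zero_smul, sub_zero]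
    exact Or.inr rfl
  by_cases h3 : j = k
  · rw [if_neg h2, if_pos h3, h3, mul_zero, zero_smul, sub_zero, h1]
    exact Or.inr rfl
  · simp [h2, h3]

/-- the diagonal elements determine the frame -/
theorem key {f : V₃} (hf : Q₃ f = Q₃ v) (h : ∀ z, Dg v e z → bl f (ln z f) = 0 ∨ ln z f = f ∨ ln z f = -f) :
    f ∈ Dl v e := by
  have hv := F.nv
  by_cases h0 : ∀ i, bl (e i) f = 0
  · have h1 : f = (-Q₃ v * bl v f) • v := sub_eq_zero.1 (span F (by
      rw [map_sub, map_smul, bl_self, smul_eq_mul]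
      generalize Q₃ v = s at hv
      generalize bl v f = t
      revert s t
      decide) fun i => by rw [map_sub, map_smul, h0, ev F, smul_zero, sub_zero])
    generalize -Q₃ v * bl v f = c at h1
    obtain rfl | rfl | rfl := tri c
    · exact absurd (h1.trans (zero_smul _ _)) (ne_zero_of_Q (hf ▸ hv))
    · exact Or.inl (Or.inl (h1.trans (one_smul _ _)))
    · exact Or.inl (Or.inr (h1.trans (neg_one_smul _ _)))
  obtain ⟨i, hi⟩ := not_forall.1 h0
  by_cases h1 : ∃ j, bl (e j) f = 0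
  · obtain ⟨j, hj⟩ := h1
    obtain ⟨z, h2, h3⟩ := exists_dg F (i := i) (j := j) fun k => hi (k ▸ hj)
    have h4 := h z h2
    rw [h3, hj, mul_zero, zero_smul, sub_zero] at h4
    rcases h4 with h4 | h4 | h4
    · rw [map_sub, map_smul, bl_self, bl_comm f, hf, smul_eq_mul] at h4
      exfalso
      generalize Q₃ v = s at hv h4
      generalize bl (e i) f = t at hi h4
      revert s t
      decide
    · exact absurd (sub_eq_self.1 h4) (smul_ne_zero (mul_ne_zero hv hi) (ne_zero_of_Q (F.nrm i ▸ hv)))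
    have h5 : f = -(Q₃ v * bl (e i) f) • e i := by
      have h5 : (3 : F₃) • f = 0 := zero_smul F₃ f
      rw [neg_smul]
      linear_combination (norm := module) h5 - h4
    have h6 := neg_ne_zero.2 (mul_ne_zero hv hi)
    generalize -(Q₃ v * bl (e i) f) = c at h5 h6
    obtain rfl | rfl := (tri c).resolve_left h6
    · exact Or.inr ⟨i, Or.inl (h5.trans (one_smul _ _))⟩
    · exact Or.inr ⟨i, Or.inr (h5.trans (neg_one_smul _ _))⟩
  push Not at h1
  obtain ⟨z, a1, a2⟩ := exists_dg F (i := 0) (j := 1) (by decide)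
  obtain ⟨z', a3, a4⟩ := exists_dg F (i := 2) (j := 3) (by decide)
  have a5 := h (z * z') ⟨by rw [ln_mul, a3.1, a1.1], fun k => by
    rw [ln_mul]
    rcases a3.2 k with k1 | k1 <;> rw [k1]
    · exact a1.2 k
    · rcases a1.2 k with k2 | k2 <;> rw [map_neg, k2]
      exacts [Or.inr rfl, Or.inl (neg_neg _)]⟩
  rw [ln_mul, a2, a4] at a5
  exfalso
  have b0 := h1 0
  have b1 := h1 1
  have b2 := h1 2
  have b3 := h1 3
  have b4 := h1 4
  rcases a5 with a5 | a5 | a5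
  · simp only [map_sub, map_smul, ee F, smul_eq_mul, bl_self, bl_comm f (e _), hf] at a5
    simp only [Fin.reduceEq, if_false, mul_zero, sub_zero] at a5
    have k : ∀ t : F₃, t ≠ 0 → t * t = 1 := by decide
    simp only [mul_assoc, k _ b0, k _ b1, k _ b2, k _ b3] at a5
    generalize Q₃ v = s at hv a5
    clear * - hv a5
    revert s
    decide
  · have a6 := congrArg (bl (e 0)) a5
    simp only [map_sub, map_smul, ee F, smul_eq_mul] at a6
    simp only [Fin.reduceEq, if_false, if_true, mul_zero, sub_zero] at a6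
    generalize Q₃ v = s, bl (e 0) f = t0 at *
    clear * - hv b0 a6
    revert s t0
    decide
  · have a6 := congrArg (bl (e 4)) a5
    simp only [map_sub, map_smul, map_neg, ee F, smul_eq_mul] at a6
    simp only [Fin.reduceEq, if_false, mul_zero, sub_zero] at a6
    generalize bl (e 4) f = t at *
    clear * - b4 a6
    revert t
    decide

/-- an isometry whose conjugate of the frame stabiliser contains the diagonal elements -/
theorem frame_map {M : Γ₃} (hQ : ∀ x, Q₃ (M.1 x) = Q₃ x) (hM : ∀ z, Dg v e z → ∃ a ∈ FS v e, ph F₃ M a = mk8 F₃ z)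
    (i : Fin 7) : M.1 (e i) ∈ Dl v e := by
  refine key F ((hQ _).trans (F.nrm i)) fun z hz => ?_
  obtain ⟨a, ha, h1⟩ := hM z hz
  obtain ⟨y, rfl⟩ := mk8_surjective a
  obtain ⟨y', h2, h3⟩ := exists_ph M y
  obtain ⟨j, h4⟩ := mem_FS ha i
  have h5 : ln z (M.1 (e i)) = M.1 (e j) ∨ ln z (M.1 (e i)) = -M.1 (e j) := by
    rcases mk_pm (h1.symm.trans h2) with h | h <;> rcases h4 with h4 | h4 <;> rw [h, h3, h4]
    exacts [Or.inl rfl, Or.inr (gam_neg _ _), Or.inr rfl, Or.inl (by rw [gam_neg, neg_neg])]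
  by_cases h6 : i = j
  · exact Or.inr (h6 ▸ h5)
  have h7 : bl (M.1 (e i)) (M.1 (e j)) = 0 := polar_gam.2 (F.oe i j h6)
  rcases h5 with h5 | h5 <;> rw [h5]
  · exact Or.inl h7
  · exact Or.inl (by rw [map_neg, h7, neg_zero])

omit F in
theorem trans {X : Subgroup G₃} (hv : Q₃ v ≠ 0) (h : Pd X (pt v)) {w : V₃} (hw : Q₃ w = Q₃ v) :
    ∃ y : Om F₃, mk8 F₃ y ∈ X ∧ (ln y v = w ∨ ln y v = -w) := by
  obtain ⟨y₀, h0⟩ := exists_ln_map (ne_zero_of_Q hv) (ne_zero_of_Q (hw ▸ hv)) hw.symm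
  obtain ⟨x, hx, p, hp, h1⟩ := h (mk8 F₃ y₀)
  obtain ⟨y, rfl⟩ := mk8_surjective x
  have h2 : mk8 F₃ (y⁻¹ * y₀) ∈ pt v := by rwa [map_mul, map_inv, h1, inv_mul_cancel_left]
  refine ⟨y, hx, ?_⟩
  rcases (mem_pt' hv).1 h2 with h3 | h3 <;> rw [ln_mul, h0] at h3
  · exact Or.inl (by rw [← h3, ln_apply_inv])
  · exact Or.inr (by rw [← neg_neg v, ← h3, map_neg, ln_apply_inv])

end B2

open B2

/-- **(17)** -/
theorem boxB2_of (hO : BoxOrd) (hN : BoxNp) (hF : BoxFr) : BoxB2 := fun X v U V hv c hX => by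
  have h1 := c.pd.card_left
  rw [(hO.ns v hv).2, hX] at h1
  rcases hF v hv (X ⊓ pt v) inf_le_right (by omega) with ⟨w, a1, a2, a3⟩ | ⟨e, F, hA⟩
  · obtain ⟨y, hy, a4⟩ := trans hv c.pd a1
    have a5 : pt (ln y v) = pt w := by
      rcases a4 with a4 | a4 <;> rw [a4]
      rw [← neg_one_smul F₃, pt_smul (by decide)]
    have a6 : X ⊓ pt v ≤ im (MulAut.conj (mk8 F₃ y)) (X ⊓ pt v) := fun a ha => mem_im'.2 ⟨by
      rw [← map_inv, MulAut.conj_apply]
      exact X.mul_mem (X.mul_mem (X.inv_mem hy) ha.1) (X.inv_mem (X.inv_mem hy)), mem_im'.1 (by rw [conj_pt, a5]; exact a3 ha)⟩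
    have a7 := Subgroup.eq_of_le_of_card_ge a6 (card_im _ _).le
    have a8 := (mem_pt' hv).1 (c.nrm le_rfl c.nb c.ivA hy (Subgroup.mem_normalizer_iff.2 fun a =>
      (mem_im (α := MulAut.conj (mk8 F₃ y))).symm.trans (by rw [← a7]; rfl)))
    have a9 : bl v (ln y v) = 0 := by
      rcases a4 with a4 | a4 <;> rw [a4]
      · exact a2
      · rw [map_neg, ← bl_eq, a2, neg_zero]
    rcases a8 with a8 | a8 <;> rw [a8] at a9
    · exact hv (neg_eq_zero.1 ((bl_self v).symm.trans a9))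
    · rw [map_neg, bl_self, neg_neg] at a9
      exact hv a9
  have b1 : ∀ {z}, Dg v e z → mk8 F₃ z ∈ X ⊓ pt v := fun hz => hA ▸ FS_of hv (Or.inl hz.1) fun i => ⟨i, hz.2 i⟩
  have b2 : ∀ {z}, mk8 F₃ z ∈ (SO (Dl v e)).map (mk8 F₃) → ln z v ∈ Dl v e := by
    rintro z ⟨z', k1, k2⟩
    have k3 := (k1 v).1 (Or.inl (Or.inl rfl))
    rcases mk_pm k2.symm with k | k <;> rw [k]
    exacts [k3, neg_mem k3]
  have b3 : X ⊓ pt v ≤ X ⊓ (SO (Dl v e)).map (mk8 F₃) := fun a ha => ⟨ha.1, by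
    obtain ⟨z, rfl⟩ := mk8_surjective a
    exact ⟨z, mem_SO (maps (map_neg (ln z)) (Or.inl ((mem_pt' hv).1 ha.2)) fun i => Or.inr (mem_FS (hA ▸ ha) i)), rfl⟩⟩
  have b4 : Iv (U ⊓ V) (X ⊓ (SO (Dl v e)).map (mk8 F₃)) := fun β hβ x hx => ⟨c.uX β hβ.1 x hx.1, by
    obtain ⟨M, rfl, m1, m2, -⟩ := hN v hv β (c.vY β hβ.2)
    have m3 := maps (gam_neg M) (Or.inl m1) (frame_map F m2 fun z hz =>
      ⟨(ph F₃ M)⁻¹ (mk8 F₃ z), hA ▸ c.ivA _ (inv_mem hβ) _ (b1 hz), MulAut.apply_inv_self _ _ _⟩)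
    obtain ⟨z, k1, rfl⟩ := hx.2
    obtain ⟨z', k2, k3⟩ := exists_ph M z
    refine ⟨z', mem_SO fun w hw => ?_, k2.symm⟩
    obtain ⟨w', k4, rfl⟩ := (((Set.toFinite (Dl v e)).injOn_iff_bijOn_of_mapsTo m3).1 M.1.injective.injOn).surjOn hw
    rw [k3]
    exact m3 _ ((k1 w').1 k4)⟩
  rcases c.prim _ b3 inf_le_left b4 with h | h
  · obtain ⟨y, hy, a4⟩ := trans hv c.pd (F.nrm 0)
    have a5 : mk8 F₃ y ∈ X ⊓ pt v := h.le ⟨hy, y, mem_SO (maps (map_neg (ln y)) (Or.inr ⟨0, a4⟩)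
      (frame_map F (M := og F₃ y) (Q_ln y) fun z hz => ⟨mk8 F₃ (y⁻¹ * z * y), hA ▸ ⟨?_, (mem_pt' hv).2 ?_⟩, ?_⟩)), rfl⟩
    · have a6 : bl (e 0) (ln y v) = 0 := by
        rcases (mem_pt' hv).1 a5.2 with k | k <;> rw [k]
        · exact ev F 0
        · rw [map_neg, ev F, neg_zero]
      rcases a4 with k | k <;> rw [k] at a6
      · exact hv (neg_eq_zero.1 (((ee F 0 0).trans (if_pos rfl)).symm.trans a6))
      · rw [map_neg, ee F, if_pos rfl, neg_neg] at a6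
        exact hv a6
    · rw [map_mul, map_mul, map_inv]
      exact X.mul_mem (X.mul_mem (X.inv_mem hy) (b1 hz).1) hy
    · have a6 : ln z (ln y v) = ln y v ∨ ln z (ln y v) = -ln y v := by
        rcases a4 with k | k <;> rw [k]
        · exact hz.2 0
        · rcases hz.2 0 with k | k <;> rw [map_neg, k]
          exacts [Or.inl rfl, Or.inr rfl]
      rcases a6 with k | k <;> rw [ln_mul, ln_mul, k]
      · exact Or.inl (ln_inv_apply _ _)
      · exact Or.inr (by rw [map_neg, ln_inv_apply])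
    · rw [ph_og, MulAut.conj_apply, map_mul, map_mul, map_inv]
      group
  · obtain ⟨y, hy, a4⟩ := trans hv c.pd (w := e 0 + e 1 + e 2 + e 3) (neg_injective (by
      rw [← bl_self]
      simp only [map_add, LinearMap.add_apply, ee F]
      simp only [Fin.reduceEq, if_false, if_true, add_zero, zero_add]
      generalize Q₃ v = s
      revert s
      decide))
    have a5 : e 0 + e 1 + e 2 + e 3 ∈ Dl v e := by
      have a5 := b2 (h.ge hy).2
      rcases a4 with k | k <;> rw [k] at a5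
      · exact a5
      · exact neg_neg (e 0 + e 1 + e 2 + e 3) ▸ neg_mem a5
    have a6 : bl (e 0) (e 0 + e 1 + e 2 + e 3) ≠ 0 := by simpa [ee F] using hv
    have a7 : bl (e 1) (e 0 + e 1 + e 2 + e 3) ≠ 0 := by simpa [ee F] using hv
    rcases a5 with (k | k) | ⟨i, k | k⟩ <;> rw [k] at a6 a7
    · exact a6 (ev F 0)
    · exact a6 (by rw [map_neg, ev F, neg_zero])
    · rw [ee F] at a6 a7
      exact absurd ((ite_ne_right_iff.1 a6).1.trans (ite_ne_right_iff.1 a7).1.symm) (by decide)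
    · rw [map_neg, neg_ne_zero, ee F] at a6 a7
      exact absurd ((ite_ne_right_iff.1 a6).1.trans (ite_ne_right_iff.1 a7).1.symm) (by decide)

end Cfsg.Agent.SM.O8.T3
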