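import Cfsg.Agent.SM.O8.Three.Defs
import Cfsg.Agent.H847.Ux.WittE

/-!
# SM (S3570), socle `PΩ⁺₈(3)`: canonical subspaces (helper38)

`boxNp`, `boxCanX`, `boxCanY`.
-/

set_option autoImplicit false

namespace Cfsg.Agent.SM.O8.T3

open Module QuadraticMap Cfsg Cfsg.Geo Cfsg.Agent.LieClassical.OrthCore Cfsg.Agent.LieClassical.OrthTrans
open Cfsg.Agent.H884.El (PP)
open Cfsg.Agent.H708.O8 (I8 T8)
open Cfsg.Agent.H823.O8S (mk8)
open Cfsg.Agent.H198.Carriers (plusQ)
open Cfsg.Agent.H955 (perp mem_perp mem_perp')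
open Cfsg.Agent.ClassicalGeometry.OrthSemi (Gam)
open Cfsg.Agent.SM.O8.Can

namespace CanT

section general

variable {F : Type} [Field F] [Fintype F]

/-- a vector orthogonal to `v` and not to `w` -/
theorem exists_sep {v w : I8 → F} (h : w ∉ Submodule.span F {v}) :
    ∃ a, polar (plusQ 4 F) v a = 0 ∧ polar (plusQ 4 F) w a = 1 := by
  have h1 : ¬ perp (plusQ 4 F) (Submodule.span F {v}) ≤ perp (plusQ 4 F) (Submodule.span F {w}) := fun k => by
    have h2 := H955.perp_anti (Q := plusQ 4 F) k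
    rw [H955.perp_perp good8.nondeg, H955.perp_perp good8.nondeg] at h2
    exact h (h2 (Submodule.mem_span_singleton_self w))
  obtain ⟨a, ha, hw⟩ := SetLike.not_le_iff_exists.1 h1
  have h2 : polar (plusQ 4 F) w a ≠ 0 := fun e => hw (mem_perp.2 fun x hx => by
    obtain ⟨c, rfl⟩ := Submodule.mem_span_singleton.1 hx
    rw [polar_smul_left, e, smul_zero])
  refine ⟨(polar (plusQ 4 F) w a)⁻¹ • a, ?_, ?_⟩
  · rw [polar_smul_right, mem_perp.1 ha v (Submodule.mem_span_singleton_self v), smul_zero]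
  · rw [polar_smul_right, smul_eq_mul, inv_mul_cancel₀ h2]

/-- the stabiliser of a point fixes no other point -/
theorem mem_span_of_le {v w : I8 → F} (h : pt v ≤ pt w) : w ∈ Submodule.span F {v} := by
  by_contra hw
  obtain ⟨a₀, h1, h2⟩ := exists_sep hw
  obtain ⟨x, y, hxy, hx, hy⟩ := H847.Ux.exists_hyp_perp (good8 (F := F)).nondeg ![v, w] (by rw [dim8]; norm_num)
  have xv : polar (plusQ 4 F) v x = 0 := (polar_comm _ _ _).trans (hx 0)
  have xw : polar (plusQ 4 F) w x = 0 := (polar_comm _ _ _).trans (hx 1)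
  have yv : polar (plusQ 4 F) v y = 0 := (polar_comm _ _ _).trans (hy 0)
  have yw : polar (plusQ 4 F) w y = 0 := (polar_comm _ _ _).trans (hy 1)
  obtain ⟨a₁, e₁⟩ : ∃ a₁, a₁ = a₀ - polar (plusQ 4 F) y a₀ • x - polar (plusQ 4 F) x a₀ • y := ⟨_, rfl⟩
  have k1 : polar (plusQ 4 F) x a₁ = 0 := by
    rw [e₁]
    simp only [polar_sub_right, polar_smul_right, hxy.polar_left, hxy.pair, smul_eq_mul]
    ring
  have k2 : polar (plusQ 4 F) y a₁ = 0 := by
    rw [e₁]
    simp only [polar_sub_right, polar_smul_right, hxy.polar_right, hxy.pair', smul_eq_mul]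
    ring
  obtain ⟨a, e⟩ : ∃ a, a = a₁ + (x + (1 - plusQ 4 F a₁) • y) := ⟨_, rfl⟩
  have qa : plusQ 4 F a = 1 := by
    rw [e, Q_add, Q_add, QuadraticMap.map_smul, hxy.left, hxy.right, polar_add_right, polar_smul_right, polar_smul_right,
      polar_comm _ a₁ x, polar_comm _ a₁ y, k1, k2, hxy.pair]
    simp
  have qb : plusQ 4 F (x + y) = 1 := by rw [Q_add, hxy.left, hxy.right, hxy.pair]; simp
  have av : polar (plusQ 4 F) a v = 0 := by
    rw [polar_comm, e, e₁]
    simp only [polar_add_right, polar_sub_right, polar_smul_right, h1, xv, yv, smul_zero, sub_zero, add_zero]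
  have aw : polar (plusQ 4 F) a w = 1 := by
    rw [polar_comm, e, e₁]
    simp only [polar_add_right, polar_sub_right, polar_smul_right, h2, xw, yw, smul_zero, sub_zero, add_zero]
  have ay : polar (plusQ 4 F) y a = 1 := by
    rw [e]
    simp only [polar_add_right, polar_smul_right, k2, hxy.pair', hxy.polar_right, smul_zero, add_zero, zero_add]
  have bv : polar (plusQ 4 F) (x + y) v = 0 := by rw [polar_comm, polar_add_right, xv, yv, add_zero]
  have bw : polar (plusQ 4 F) (x + y) w = 0 := by rw [polar_comm, polar_add_right, xw, yw, add_zero]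
  have a0 : plusQ 4 F a ≠ 0 := by rw [qa]; exact one_ne_zero
  have b0 : plusQ 4 F (x + y) ≠ 0 := by rw [qb]; exact one_ne_zero
  obtain ⟨g, hg⟩ := exE (good8.refl_mul_refl_mem b0 a0 (qb.trans qa.symm))
  have gv : ln g v = v := by
    rw [hg, LinearEquiv.mul_apply, refl_apply b0, bv, mul_zero, zero_smul, sub_zero, refl_apply, av, mul_zero, zero_smul,
      sub_zero]
  have gw : ln g w = w - a := by
    rw [hg, LinearEquiv.mul_apply, refl_apply b0, bw, mul_zero, zero_smul, sub_zero, refl_apply, aw, qa, inv_one, mul_one,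
      one_smul]
  obtain ⟨c, hc⟩ := mem_pt.1 (h (mem_pt.2 ⟨1, by rw [gv, one_smul]⟩))
  have h3 := congrArg (polar (plusQ 4 F) y) (gw.symm.trans hc)
  rw [polar_sub_right, polar_smul_right, polar_comm _ y w, yw, ay, smul_zero, zero_sub] at h3
  exact one_ne_zero (neg_eq_zero.1 h3)

/-- the radical is kept -/
theorem rad_map {D : Submodule F (I8 → F)} {M : Gam (plusQ 4 F)} (h : ∀ u ∈ D, M.1 u ∈ D) :
    ∀ u ∈ D ⊓ perp (plusQ 4 F) D, M.1 u ∈ D ⊓ perp (plusQ 4 F) D := fun u hu =>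
  ⟨h u hu.1, mem_perp.2 fun d hd => by
    have h1 : M⁻¹.1 d ∈ D := mem_gm.1 ((gm_eq_of h).symm ▸ hd)
    rw [← gam_apply_inv M d]
    exact polar_gam.2 (mem_perp.1 hu.2 _ h1)⟩

end general

theorem pp5 : PP (Nat.card F₃) 4 5 := by
  have : Fact (Nat.Prime 5) := ⟨by norm_num⟩
  refine ⟨by norm_num, ?_⟩
  rw [Nat.card_zmod]
  exact (orderOf_eq_iff (by norm_num)).2 (by decide)

theorem z3 (c : F₃) : c = 0 ∨ c = 1 ∨ c = -1 := by revert c; decide

theorem five_dvd {v : V₃} (hv : Q₃ v ≠ 0) : 5 ∣ Nat.card (pt v) := by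
  have h := (boxExt F₃ v hv).2.1
  rw [O7, Nat.card_zmod] at h
  norm_num at h
  omega

theorem two_smul_eq {v : V₃} (h : v = -v) : v = 0 := by
  funext i
  have h1 : v i = -v i := congrFun h i
  have h2 : ∀ a : F₃, a = -a → a = 0 := by decide
  exact h2 _ h1

theorem mem_fx_pt {v : V₃} (hv : Q₃ v ≠ 0) : v ∈ Fx 5 (pt v) := mem_Fx.2 fun y hy h5 => by
  rcases (mem_pt' hv).1 hy with h | h
  · exact h
  · have h1 : ln (y ^ 5) v = -v := by
      rw [show y ^ 5 = y * (y * (y * (y * y))) by simp only [pow_succ, pow_zero, one_mul, mul_assoc]]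
      simp only [ln_mul, h, map_neg, neg_neg]
    rw [h5, ln_one] at h1
    exact absurd (two_smul_eq h1) (ne_zero_of_Q hv)

theorem polar_self3 (v : V₃) : polar (plusQ 4 F₃) v v = -plusQ 4 F₃ v := by
  rw [polar_self, two_nsmul]
  have h : ∀ a : F₃, a + a = -a := by decide
  exact h _

end CanT

open CanT

theorem boxNp : BoxNp := by
  intro v hv β hβ
  have h0 := ne_zero_of_Q hv
  obtain ⟨M, rfl, -⟩ := exists_gam pp5 (five_dvd hv) (fun e => h0 ((Submodule.eq_bot_iff _).1 e v (mem_fx_pt hv))) hβ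
  have h1 : im (ph F₃ M) (pt v) = pt v :=
    Subgroup.eq_of_le_of_card_ge (Subgroup.map_le_iff_le_comap.2 hβ) (card_im _ _).ge
  rw [im_pt] at h1
  obtain ⟨c, hc⟩ := Submodule.mem_span_singleton.1 (mem_span_of_le h1.ge)
  have h2 : M.1 v = v ∨ M.1 v = -v := by
    rcases z3 c with e | e | e <;> rw [e] at hc
    · exact absurd (gam_eq_zero.1 (hc.symm.trans (zero_smul _ _))) h0
    · exact Or.inl (hc.symm.trans (one_smul _ _))
    · exact Or.inr (hc.symm.trans (neg_one_smul _ _))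
  obtain ⟨σ, d, h⟩ := M.2
  have hσ : ∀ a, σ a = a := fun a => by
    rcases z3 a with e | e | e <;> rw [e]
    exacts [map_zero σ, map_one σ, by rw [map_neg, map_one]]
  have h3 : plusQ 4 F₃ (M.1 v) = plusQ 4 F₃ v := by
    rcases h2 with e | e <;> rw [e]
    exact QuadraticMap.map_neg _ _
  have hd : d = 1 := by
    have h4 := h.form v
    rw [h3, hσ] at h4
    exact (mul_left_eq_self₀.1 h4.symm).resolve_right hv
  refine ⟨M, rfl, h2, fun x => ?_, fun c x => ?_⟩
  · have h4 := h.form x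
    rwa [hd, hσ, one_mul] at h4
  · rw [h.smul, hσ]

theorem boxCanX : BoxCanX := by
  intro X Y U V c hd hs
  have hU := c.maxU _ (St_ne_top hs (Fx_ne_top pp5 hd)) (iv_St pp5 hd hs c.uX)
  have hf := fun x hx => fixes pp5 c hd (x := x) hx
  obtain ⟨a, ha, ha0⟩ := not_ts c hs hU hf
  by_cases hW : Fx 5 X ≤ Submodule.span F₃ {a}
  · refine Or.inl ⟨a, ha0, ?_⟩
    have hW' := le_antisymm hW ((Submodule.span_singleton_le_iff_mem _ _).2 ha)
    have h1 : X ≤ pt a := by
      have h2 := le_St_Fx 5 X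
      rwa [hW'] at h2
    rw [hW'] at hU
    have := (boxExt F₃ a ha0).1
    have h2 : (X.subgroupOf (pt a)).Normal := ⟨fun x hx g => c.uX _ (hU g g.2) _ hx⟩
    rcases h2.eq_bot_or_eq_top with h3 | h3
    · refine absurd (eq_bot_iff.2 fun x hx => ?_) c.ne_bot
      have h5 : (⟨x, h1 hx⟩ : pt a) ∈ X.subgroupOf (pt a) := hx
      rw [h3, Subgroup.mem_bot] at h5
      exact congrArg Subtype.val h5
    · exact le_antisymm h1 (Subgroup.subgroupOf_eq_top.1 h3)
  · right
    obtain ⟨d, hdW, hda⟩ := SetLike.not_le_iff_exists.1 hW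
    obtain ⟨b, e⟩ : ∃ b, b = d + ((plusQ 4 F₃ a)⁻¹ * polar (plusQ 4 F₃) a d) • a := ⟨_, rfl⟩
    have hb : b ∈ Fx 5 X := e ▸ add_mem hdW (Submodule.smul_mem _ _ ha)
    have hab : polar (plusQ 4 F₃) a b = 0 := by
      rw [e, polar_add_right, polar_smul_right, polar_self3, smul_eq_mul]
      field_simp
      ring
    have hba : ∀ s t : F₃, s • a + b ≠ t • a := fun s t k => hda (Submodule.mem_span_singleton.2
      ⟨t - s - (plusQ 4 F₃ a)⁻¹ * polar (plusQ 4 F₃) a d, by rw [sub_smul, sub_smul, ← k, e]; abel⟩)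
    have key : ∀ s : F₃, plusQ 4 F₃ (s • a + b) ≠ plusQ 4 F₃ a := fun s k => by
      obtain ⟨t, ht⟩ := prop c hf ha (add_mem (Submodule.smul_mem _ s ha) hb) ha0 (k ▸ ha0) ⟨plusQ 4 F₃ a, by rw [k]⟩
      exact hba s t ht
    have qb : plusQ 4 F₃ b = -plusQ 4 F₃ a := by
      have k0 := key 0
      have k1 := key 1
      rw [zero_smul, zero_add] at k0
      rw [one_smul, Q_add, hab, add_zero] at k1
      have h1 : ∀ x y : F₃, x ≠ 0 → y ≠ x → x + y ≠ x → y = -x := by decide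
      exact h1 _ _ ha0 k0 k1
    have fx : ∀ u ∈ Fx 5 X, X ≤ pt u := fun u hu x hx => by
      obtain ⟨y, rfl, hy⟩ := hf x hx
      exact mem_pt.2 ⟨1, by rw [hy u hu, one_smul]⟩
    refine ⟨a + b, a - b, ?_, ?_, ?_, le_inf (fx _ (add_mem ha hb)) (fx _ (sub_mem ha hb))⟩
    · change plusQ 4 F₃ _ = 0
      rw [Q_add, qb, hab, add_zero, add_neg_cancel]
    · change plusQ 4 F₃ _ = 0
      rw [sub_eq_add_neg, Q_add, QuadraticMap.map_neg, qb, polar_neg_right, hab, neg_zero, add_zero, add_neg_cancel]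
    · change polar (plusQ 4 F₃) _ _ ≠ 0
      rw [polar_add_left, polar_sub_right, polar_sub_right, polar_self3, polar_self3, polar_comm _ b a, hab, qb]
      have h1 : ∀ x : F₃, x ≠ 0 → -x - 0 + (0 - - -x) ≠ 0 := by decide
      exact h1 _ ha0

theorem boxCanY : BoxCanY := by
  intro X Y U V c hd hs
  obtain ⟨h1, h2, -, h4⟩ := canY pp5 c hd hs
  have one : ∀ R : Submodule F₃ V₃, finrank F₃ R = 1 → Y = St R → ∃ w, w ≠ 0 ∧ Y = pt w := fun R hR e => by
    obtain ⟨w, hw, w0⟩ := (Submodule.ne_bot_iff R).1 fun k => by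
      rw [k, finrank_bot] at hR
      exact absurd hR (by norm_num)
    refine ⟨w, w0, ?_⟩
    rw [e, ← Submodule.eq_of_le_of_finrank_eq ((Submodule.span_singleton_le_iff_mem _ _).2 hw)
      (by rw [finrank_span_singleton w0, hR])]
  by_cases hR : Fx 5 Y ⊓ perp (plusQ 4 F₃) (Fx 5 Y) = ⊥
  · have h5 : finrank F₃ (Fx 5 Y) ≠ 0 := fun e => hs (Submodule.finrank_eq_zero.1 e)
    by_cases h6 : finrank F₃ (Fx 5 Y) = 1
    · exact Or.inl (one _ h6 h1)
    · exact Or.inr ⟨_, fun d hd' k => (Submodule.eq_bot_iff _).1 hR d ⟨hd', mem_perp'.2 k⟩, by omega, h1⟩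
  · refine Or.inl (one (Fx 5 Y ⊓ perp (plusQ 4 F₃) (Fx 5 Y)) ?_ (le_antisymm (fun g hg => ?_) (c.maxV _
      (St_ne_top hR fun e => Fx_ne_top pp5 hd (top_le_iff.1 (e.ge.trans inf_le_left))) fun β hβ x hx => ?_)))
    · obtain ⟨y, hy, k1, k2⟩ := exists_elt pp5.prime (by decide) hd
      have k3 := Fx_le hy k1
      obtain ⟨k4, k5, k6⟩ := fx_four pp5 k1 (fun e => k2 (by rw [e, map_one])) fun e => hs (eq_bot_iff.2 (e ▸ k3))
      have k7 : 2 * finrank F₃ ↥(Fx 5 Y ⊓ perp (plusQ 4 F₃) (Fx 5 Y)) + 2 ≤ finrank F₃ (H951.fx (ln y)) :=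
        H954.TSing.ts_lt_half k5 (inf_le_left.trans k3) (fun w hw => by
          have k8 := mem_perp.1 hw.2 w hw.1
          rwa [polar_self3, neg_eq_zero] at k8) (by rw [k4]; decide) k6
      have k8 : finrank F₃ ↥(Fx 5 Y ⊓ perp (plusQ 4 F₃) (Fx 5 Y)) ≠ 0 := fun e => hR (Submodule.finrank_eq_zero.1 e)
      omega
    · obtain ⟨y, rfl⟩ := mk8_surjective g
      exact mem_St.2 (rad_map (M := og F₃ y) (mem_St.1 (le_St_Fx 5 Y hg)))
    · obtain ⟨M, rfl, hM⟩ := h4 β hβ
      exact ph_St (rad_map hM) hx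

end Cfsg.Agent.SM.O8.T3
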