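import Cfsg.Agent.SM.O8.Three.Defs

/-!
# SM, `S = PΩ⁺₈(3)`: the configuration `Cg` (helper68)
-/

set_option autoImplicit false
set_option linter.unusedSectionVars false

namespace Cfsg.Agent.SM.O8.T3

open Subgroup Equiv MulAction

theorem card_out_congr {K K' : Type} [Group K] [Group K'] (e : K ≃* K') : Nat.card (Out K) = Nat.card (Out K') := by
  have h : (Inn K).map (MulAut.congr e).toMonoidHom = Inn K' := by
    ext β
    constructor
    · rintro ⟨_, ⟨g, rfl⟩, rfl⟩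
      exact ⟨e g, by ext x; simp⟩
    · rintro ⟨g, rfl⟩
      exact ⟨MulAut.conj (e.symm g), ⟨_, rfl⟩, by ext x; simp⟩
  change (Inn K).index = (Inn K').index
  rw [← h, Subgroup.index_map_of_bijective (MulAut.congr e).bijective]

section model

variable {G : Type} [Group G] {X Y : Subgroup G} {U V : Subgroup (MulAut G)}

/-- the inner automorphisms lie in `U ⊔ V` -/
theorem _root_.Cfsg.Agent.SM.O8.Cf.inn (c : Cf X Y U V) (g : G) : MulAut.conj g ∈ U ⊔ V := by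
  obtain ⟨x, hx, y, hy, rfl⟩ := c.pd g
  rw [map_mul]
  exact mul_mem (mem_sup_left (c.inU x hx)) (mem_sup_right ((c.inV y).2 hy))

theorem Cg.inn (c : Cg X Y U V) (g : G) : MulAut.conj g ∈ U ⊔ V := c.toCf.inn g

theorem Cg.inn_le (c : Cg X Y U V) : Inn G ≤ U ⊔ V := by
  rintro _ ⟨g, rfl⟩
  exact c.inn g

/-- `β` keeps the class of `Y` -/
def Kp (Y : Subgroup G) (β : MulAut G) : Prop := ∃ g : G, Y.map β.toMonoidHom = Y.map (MulAut.conj g).toMonoidHom

theorem Kp.of_iff {β : MulAut G} (h : ∀ y, β y ∈ Y ↔ y ∈ Y) : Kp Y β := by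
  refine ⟨1, ?_⟩
  ext y
  obtain ⟨y, rfl⟩ := β.surjective y
  rw [show β y ∈ Y.map β.toMonoidHom ↔ y ∈ Y from mem_map_iff_mem (f := β.toMonoidHom) β.injective, ← h, map_one]
  exact (mem_map_iff_mem (f := (1 : MulAut G).toMonoidHom) (1 : MulAut G).injective).symm

theorem Kp.of_mem [Finite G] {β : MulAut G} (h : ∀ y ∈ Y, β y ∈ Y) : Kp Y β := by
  have h1 : Y.map β.toMonoidHom = Y := Subgroup.eq_of_le_of_card_ge (by rintro _ ⟨y, hy, rfl⟩; exact h y hy)
    (Subgroup.card_map_of_injective (f := β.toMonoidHom) β.injective).ge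
  refine Kp.of_iff fun y => ⟨fun k => ?_, h y⟩
  rw [← h1] at k
  exact (mem_map_iff_mem (f := β.toMonoidHom) β.injective).1 k

/-- **of two automorphisms which keep the class of `Y` and their product one lies in `U ⊔ V`** -/
theorem Cg.or [Finite G] (c : Cg X Y U V) {β δ : MulAut G} (hβ : Kp Y β) (hδ : Kp Y δ) :
    β ∈ U ⊔ V ∨ δ ∈ U ⊔ V ∨ β * δ ∈ U ⊔ V := by
  classical
  have := Fintype.ofFinite (G ⧸ Y)
  let ρ : G →* Perm (G ⧸ Y) := MulAction.toPermHom G (G ⧸ Y)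
  have ht : ∀ z, ∃ g, ρ g ((1 : G) : G ⧸ Y) = z := fun z => by
    obtain ⟨g, rfl⟩ := QuotientGroup.mk_surjective z
    exact ⟨g, by simp [ρ]⟩
  have hs : ∀ g k : G, ρ g (k : G ⧸ Y) = (k : G ⧸ Y) ↔ k⁻¹ * g * k ∈ Y := fun g k => by
    change ((g * k : G) : G ⧸ Y) = _ ↔ _
    rw [eq_comm, QuotientGroup.eq, mul_assoc]
  have hs1 : ∀ g : G, ρ g ((1 : G) : G ⧸ Y) = ((1 : G) : G ⧸ Y) ↔ g ∈ Y := fun g => by rw [hs]; simp
  have key : ∀ {γ : MulAut G}, Kp Y γ → ∃ π, Ind ρ γ π := by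
    rintro γ ⟨k, hk⟩
    obtain ⟨π, -, h⟩ := exists_ind ρ γ (a := ((1 : G) : G ⧸ Y)) (b := (k : G ⧸ Y)) ht fun g => by
      rw [hs1, hs, ← show γ g ∈ Y.map γ.toMonoidHom ↔ g ∈ Y from mem_map_iff_mem (f := γ.toMonoidHom) γ.injective, hk,
        ← show MulAut.conj k (k⁻¹ * γ g * k) ∈ Y.map (MulAut.conj k).toMonoidHom ↔ k⁻¹ * γ g * k ∈ Y from
          mem_map_iff_mem (f := (MulAut.conj k).toMonoidHom) (MulAut.conj k).injective, MulAut.conj_apply,
        show k * (k⁻¹ * γ g * k) * k⁻¹ = γ g by group]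
    exact ⟨π, h⟩
  obtain ⟨π, h1⟩ := key hβ
  obtain ⟨σ, h2⟩ := key hδ
  rcases Int.units_eq_one_or (Perm.sign π) with h | h
  · exact Or.inl (c.sgn _ ρ _ β π ht hs1 h1 h)
  rcases Int.units_eq_one_or (Perm.sign σ) with k | k
  · exact Or.inr (Or.inl (c.sgn _ ρ _ δ σ ht hs1 h2 k))
  · exact Or.inr (Or.inr (c.sgn _ ρ _ (β * δ) (π * σ) ht hs1 (h1.mul h2) (by rw [map_mul, h, k]; decide)))

/-- transport along an automorphism -/
theorem Cg.map (c : Cg X Y U V) (α : MulAut G) : Cg (X.map α.toMonoidHom) (Y.map α.toMonoidHom)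
    (U.map (MulAut.conj α).toMonoidHom) (V.map (MulAut.conj α).toMonoidHom) := by
  have m2 : ∀ {A : Subgroup (MulAut G)} {β : MulAut G}, α * β * α⁻¹ ∈ A.map (MulAut.conj α).toMonoidHom ↔ β ∈ A :=
    fun {A β} => mem_map_iff_mem (f := (MulAut.conj α).toMonoidHom) (MulAut.conj α).injective
  have m4 : ∀ g : G, MulAut.conj (α g) = α * MulAut.conj g * α⁻¹ := fun g => by
    ext x
    simp
  have m5 : ∀ β : MulAut G, ∃ β', β = α * β' * α⁻¹ := fun β => ⟨α⁻¹ * β * α, by group⟩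
  have hi : (Inn G).map (MulAut.conj α).toMonoidHom = Inn G := by
    ext β
    obtain ⟨β, rfl⟩ := m5 β
    rw [m2]
    constructor
    · rintro ⟨g, rfl⟩
      exact ⟨α g, m4 g⟩
    · rintro ⟨g, hg⟩
      obtain ⟨g, rfl⟩ := α.surjective g
      exact ⟨g, mul_left_cancel (mul_right_cancel ((m4 g).symm.trans hg))⟩
  refine ⟨c.toCf.map α, fun β hβ => ?_, ?_, fun Z _ _ ρ z β π ht hs hI h1 => ?_⟩
  · obtain ⟨β, rfl⟩ := m5 β
    rw [← Subgroup.map_sup, m2] at hβ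
    obtain ⟨γ, hγ, s, rfl⟩ := c.decW β hβ
    exact ⟨α * γ * α⁻¹, ⟨m2.2 hγ.1, m2.2 hγ.2⟩, α s, by rw [m4]; group⟩
  · rw [← Subgroup.map_sup, ← hi, Subgroup.relIndex_map_map_of_injective _ _ (MulAut.conj α).injective]
    exact c.out.trans (card_out_congr (α.subgroupMap X)).dvd
  · obtain ⟨β, rfl⟩ := m5 β
    rw [← Subgroup.map_sup, m2]
    refine c.sgn Z (ρ.comp α.toMonoidHom) z β π (fun z' => ?_) (fun g => ?_) (fun g => ?_) h1
    · obtain ⟨g, hg⟩ := ht z'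
      obtain ⟨g, rfl⟩ := α.surjective g
      exact ⟨g, hg⟩
    · exact (hs (α g)).trans (mem_map_iff_mem (f := α.toMonoidHom) α.injective)
    · have := hI (α g)
      rwa [MulAut.mul_apply, MulAut.mul_apply, MulAut.inv_apply_self] at this

end model

variable {Ω : Type} [Fintype Ω] [DecidableEq Ω] {X H T M S : Subgroup (Perm Ω)} {G : Type} [Group G]

theorem da_sup_eq (u : Up X H T M S) (φ : S ≃* G) (a : Ω) :
    da (u.fac a).asM φ H ⊔ da (u.fac a).asM φ (M ⊓ stabilizer (Perm Ω) a) = (act (u.fac a).asM φ).range := by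
  refine le_antisymm (sup_le (map_le_range _ _) (map_le_range _ _)) ?_
  rintro _ ⟨m, rfl⟩
  obtain ⟨h, hh, s, hs, e⟩ := (u.fac a).facH m m.2
  have : m = ⟨h, u.hm.le hh.1⟩ * ⟨s, u.socM.le hs⟩ := Subtype.ext e
  rw [this, map_mul]
  refine mul_mem (mem_sup_left (mem_da.2 hh.1)) ?_
  rw [act_conj (u.fac a).asM φ ⟨s, hs⟩]
  exact ((u.fac a).cf φ).inn _

theorem _root_.Cfsg.Agent.SM.Up.cg (u : Up X H T M S) (φ : S ≃* G) (a : Ω) :
    Cg (dn φ T) (dn φ (M ⊓ stabilizer (Perm Ω) a)) (da (u.fac a).asM φ H)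
      (da (u.fac a).asM φ (M ⊓ stabilizer (Perm Ω) a)) := by
  refine ⟨(u.fac a).cf φ, fun β hβ => ?_, ?_, fun Z _ _ ρ z β π ht hs hI h1 => ?_⟩
  · obtain ⟨m, rfl⟩ := da_sup hβ
    obtain ⟨h, hh, s, hs, e⟩ := (u.fac a).facH m m.2
    refine ⟨act (u.fac a).asM φ ⟨h, u.hm.le hh.1⟩, ⟨mem_da.2 hh.1, mem_da.2 hh.2⟩, φ ⟨s, hs⟩, ?_⟩
    rw [← act_conj (u.fac a).asM, ← map_mul]
    congr 1
    exact Subtype.ext e
  · have hi : (S.subgroupOf M).map (act (u.fac a).asM φ) = Inn G := by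
      ext β
      constructor
      · rintro ⟨m, hm, rfl⟩
        exact ⟨φ ⟨m, hm⟩, (act_conj (u.fac a).asM φ ⟨m, hm⟩).symm⟩
      · rintro ⟨g, rfl⟩
        obtain ⟨s, rfl⟩ := φ.surjective g
        exact ⟨⟨s, u.socM.le s.2⟩, s.2, act_conj (u.fac a).asM φ s⟩
    rw [da_sup_eq u, MonoidHom.range_eq_map, ← hi, Subgroup.relIndex_map_map_of_injective _ _ (act_injective _ φ),
      Subgroup.relIndex_top_right, ← card_out_congr (dnEquiv φ u.le)]
    exact u.relIndex_dvd_out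
  · let σ : G →* Perm Ω := S.subtype.comp φ.symm.toMonoidHom
    have hσ : ∀ s : S, σ (φ s) = s := fun s => by simp [σ]
    have hr : σ.range = S := by
      ext x
      exact ⟨by rintro ⟨g, rfl⟩; exact (φ.symm g).2, fun hx => ⟨φ ⟨x, hx⟩, hσ _⟩⟩
    have hs' : ∀ g, σ g a = a ↔ g ∈ dn φ (M ⊓ stabilizer (Perm Ω) a) := fun g => by
      obtain ⟨s, rfl⟩ := φ.surjective g
      rw [hσ, mem_dn]
      exact ⟨fun k => ⟨u.socM.le s.2, k⟩, fun k => k.2⟩
    choose w hw using ht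
    have key : ∀ g g', ρ g z = ρ g' z ↔ σ g a = σ g' a := fun g g' => by
      have := (hs (g'⁻¹ * g)).trans (hs' _).symm
      rwa [map_mul, map_inv, map_mul, map_inv, Perm.mul_apply, Perm.mul_apply, Perm.inv_eq_iff_eq,
        Perm.inv_eq_iff_eq] at this
    have hf : ∀ g, σ (w (ρ g z)) a = σ g a := fun g => (key _ _).1 (hw _)
    have bij : Function.Bijective fun x => σ (w x) a := by
      refine ⟨fun x y e => ?_, fun b => ?_⟩
      · rw [← hw x, ← hw y]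
        exact (key _ _).2 e
      · obtain ⟨t, ht, e⟩ := u.trans a b
        exact ⟨ρ (φ ⟨t, u.le ht⟩) z, (hf _).trans (by rw [hσ]; exact e)⟩
    let e : Z ≃ Ω := Equiv.ofBijective _ bij
    have he : ∀ g x, e (ρ g x) = σ g (e x) := fun g x => by
      rw [← hw x, ← Perm.mul_apply, ← map_mul]
      change σ (w (ρ (g * w x) z)) a = σ g (σ (w (ρ (w x) z)) a)
      rw [hf, hf, map_mul, Perm.mul_apply]
    have hI' : Ind σ β (e.permCongr π) := fun g => by
      rw [mul_inv_eq_iff_eq_mul]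
      ext b
      obtain ⟨x, rfl⟩ := e.surjective b
      rw [Perm.mul_apply, Perm.mul_apply, ← he, Equiv.permCongr_apply, Equiv.permCongr_apply, e.symm_apply_apply,
        e.symm_apply_apply, ← he, ← hI g]
      simp
    have hM : e.permCongr π ∈ M := u.mem_of_sign (hr ▸ hI'.mem_normalizer) (by rw [Perm.sign_permCongr, h1])
    rw [da_sup_eq u]
    refine ⟨⟨_, hM⟩, ?_⟩
    ext g
    obtain ⟨s, rfl⟩ := φ.surjective g
    rw [act_apply]
    apply φ.symm.injective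
    rw [φ.symm_apply_apply]
    refine Subtype.ext ?_
    have := hI' (φ s)
    rw [hσ] at this
    exact this

theorem _root_.Cfsg.Agent.SM.O8.Md.cg {ι : T →* G} {a : Ω} {Y : Subgroup G} (h : Md X H ι a M Y) :
    ∃ U V, Cg ι.range Y U V := by
  obtain ⟨S, u, φ, h1, rfl⟩ := h
  exact ⟨_, _, dn_eq_range u h1 ▸ u.cg φ a⟩

end Cfsg.Agent.SM.O8.T3
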