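import Cfsg.Agent.SM.O8.Three.Defs
import Cfsg.Agent.SM.O8.Cross
import Cfsg.Agent.H277.ClsPsu
import Cfsg.Agent.H729.SprO8.LThreeFour
import Cfsg.Agent.H4.JT.DegOdd
import Cfsg.Agent.H12.EP.Row15
import Cfsg.Agent.LieClassical.FieldTransfer

/-!
# SM (S3570), socle `PΩ⁺₈(3)`: the residual class in cross characteristic (helper6)
-/

set_option autoImplicit false
set_option linter.unusedSectionVars false

namespace Cfsg.Agent.SM.O8.T3

namespace Cross

open Cfsg Cfsg.Geo Cfsg.Agent.OrdDiv Cfsg.Agent.H436 Cfsg.Agent.H264.FKS Cfsg.Agent.H902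
open Cfsg.Agent.H902.Names Cfsg.Agent.H708.O8 Cfsg.Agent.H915.LD Cfsg.Agent.H884.El Cfsg.Agent.H936.List12
open Cfsg.Agent.H912.Bd Cfsg.Agent.H912.Five Cfsg.Agent.H823.O8S
open Cfsg.Agent.H532.O8S (aut_A_eq card_aut_sz8)
open Cfsg.Agent.SM.O8.Cross (aut_L)
open scoped MatrixGroups Matrix

theorem not_big {n B : ℕ} (h : Big n) (hB : n ∣ B)
    (h1 : ¬ ((5 ∣ B ∧ (27 ∣ B ∨ 25 ∣ B ∨ 13 ∣ B)) ∨ 13 * 3 ^ 7 ∣ B)) : False := by
  rcases h with ⟨a, b | b | b⟩ | a
  exacts [h1 (Or.inl ⟨a.trans hB, Or.inl (b.trans hB)⟩), h1 (Or.inl ⟨a.trans hB, Or.inr (Or.inl (b.trans hB))⟩),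
    h1 (Or.inl ⟨a.trans hB, Or.inr (Or.inr (b.trans hB))⟩), h1 (Or.inr (a.trans hB))]

theorem card_G : Nat.card G₃ = 4952179814400 := by
  have h := H832.O8R.card_t8 (F := ZMod 3) (p := 3) (a := 1) (by rw [Nat.card_zmod, pow_one])
  norm_num at h
  omega

theorem card_u52 {T : Type} [Group T] (h : IsU 5 2 T) : Nat.card T = 13685760 := by
  obtain ⟨K, iF, iT, hK, ⟨e⟩⟩ := h
  have h := H277.ClsPsu.card_psu hK (n := 5) (by norm_num)
  rw [← Nat.card_congr e.toEquiv] at h
  norm_num [Finset.prod_range_succ, Nat.even_iff] at h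
  omega

theorem sq_one : ∀ c : ZMod 3, c ≠ 0 → c * c = 1 := by decide

/-- the list in degree eight over the field of three elements -/
theorem cands {P : Subgroup (GL (Fin 8) (ZMod 3))} (hC : Core P) (hk : IsKnownSimple' (H915.LD.Soc P))
    (hL : ¬ IsLieTypeChar 3 (H915.LD.Soc P)) {n : ℕ} (hb : Big n) (h1 : Nat.card (H915.LD.Soc P) ∣ n)
    (h2 : n ∣ Nat.card (MulAut (H915.LD.Soc P))) (hd : n ∣ 4952179814400) :
    Nonempty (H915.LD.Soc P ≃* alternatingGroup (Fin 10)) ∨ IsOP 4 2 (H915.LD.Soc P) ∨ Sm (H915.LD.Soc P) n := by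
  have hs : IsSimpleGroup (H915.LD.Soc P) := hC.simple
  have hna : ¬ IsMulCommutative (H915.LD.Soc P) := hC.nonabelian
  have hd' := h1.trans hd
  have t2 : (2 : ZMod 3) ≠ 0 := by decide
  have h8 : Fintype.card (Fin 8) = 8 := Fintype.card_fin 8
  have l7 : ¬ IsL 2 7 (H915.LD.Soc P) := fun h => not_big hb (h2.trans (aut_L (B := 8064) hna (p := 7) (f := 1) (by norm_num)
    le_rfl (by norm_num) le_rfl (fun _ => by norm_num) h
    (by simp only [Finset.prod_range_succ, Finset.prod_range_zero]; norm_num))) (by norm_num)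
  have s6 : IsS 3 2 (H915.LD.Soc P) → Sm (H915.LD.Soc P) n := by
    rintro ⟨K, _, _, hK, ⟨e⟩⟩
    let f := e.trans (LieClassical.FieldTransfer.pspCongr 3 (ZMod.ringEquivOfPrime K Nat.prime_two hK).symm)
    refine Or.inr ⟨⟨f⟩, Nat.dvd_antisymm ?_ ?_⟩
    · rwa [Nat.card_congr (MulAut.congr f).toEquiv, H12.EP.aut_psp32] at h2
    · have h3 := (psp_real (F := K) (m := 3) (p := 2) (f := 1) Nat.prime_two le_rfl hK (by norm_num) (by norm_num)).eq
      rw [← Nat.card_congr e.toEquiv] at h3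
      have h4 : Art.dd (.C 3) (2 ^ 1) = 1 := by decide
      have h5 : (2 ^ 1) ^ Art.NN (.C 3) * Art.num (.C 3) (2 ^ 1) = 1451520 := by decide
      rw [h4, h5, one_mul] at h3
      rwa [h3] at h1
  rcases list₂ (p := 3) (n := 8) (by norm_num) hC hk hL with h | h | h | ⟨-, -, h⟩ | h
  · obtain ⟨m, h5, h14, h12, -, -, ⟨e⟩⟩ := h
    have h13 : m ≤ 11 := by
      by_contra hcon
      have := h12 (by norm_num) (by omega)
      omega
    rcases (show m = 6 ∨ (m ≠ 6 ∧ m ≤ 8) ∨ m = 9 ∨ m = 10 ∨ m = 11 by omega) with rfl | h | rfl | rfl | rfl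
    · rw [Nat.card_congr (MulAut.congr e).toEquiv, H824.ProdLem.card_aut_a6] at h2
      exact (not_big hb h2 (by norm_num)).elim
    · rw [aut_A_eq h5 h.1 e] at h2
      exact (not_big hb (h2.trans (Nat.factorial_dvd_factorial h.2)) (by norm_num [Nat.factorial])).elim
    · rw [aut_A_eq h5 (by norm_num) e] at h2
      exact Or.inr (Or.inr (Or.inl ⟨⟨e⟩, h2⟩))
    · exact Or.inl ⟨e⟩
    · exfalso
      rw [Nat.card_congr e.toEquiv, nat_card_alternatingGroup] at hd'
      revert hd'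
      simp only [Nat.card_eq_fintype_card, Fintype.card_fin]
      norm_num [Nat.factorial]
  · rcases h with ⟨q, hq, -, h3, h4⟩ | ⟨h, -, -⟩ | ⟨h, -, -⟩ | ⟨-, h, -⟩ | ⟨-, h, -⟩ | ⟨-, -, h⟩ | ⟨-, h, -⟩ |
      ⟨-, -, h⟩ | ⟨-, -, h⟩
    · exfalso
      simp only [Finset.mem_insert, Finset.mem_singleton] at hq
      rcases hq with rfl | rfl | rfl | rfl | rfl | rfl | rfl | rfl
      · exact l7 h4
      · exact not_big hb (h2.trans (aut_L (B := 36288) hna (p := 2) (f := 3) (by norm_num) (by norm_num) (by norm_num)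
          le_rfl (fun _ => by norm_num) h4
          (by simp only [Finset.prod_range_succ, Finset.prod_range_zero]; norm_num))) (by norm_num)
      · exact not_big hb (h2.trans (aut_L (B := 31680) hna (p := 11) (f := 1) (by norm_num) le_rfl (by norm_num)
          le_rfl (fun _ => by norm_num) h4
          (by simp only [Finset.prod_range_succ, Finset.prod_range_zero]; norm_num))) (by norm_num)
      · exact not_big hb (h2.trans (aut_L (B := 52416) hna (p := 13) (f := 1) (by norm_num) le_rfl (by norm_num)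
          le_rfl (fun _ => by norm_num) h4
          (by simp only [Finset.prod_range_succ, Finset.prod_range_zero]; norm_num))) (by norm_num)
      · exact not_big hb (h2.trans (aut_L (B := 117504) hna (p := 17) (f := 1) (by norm_num) le_rfl (by norm_num)
          le_rfl (fun _ => by norm_num) h4
          (by simp only [Finset.prod_range_succ, Finset.prod_range_zero]; norm_num))) (by norm_num)
      all_goals norm_num at h3
    · omega
    · omega
    · omega
    · omega
    · rw [card_u52 h] at hd'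
      norm_num at hd'
    · omega
    · exact Or.inr (Or.inr (s6 h))
    · exact Or.inr (Or.inl h)
  · rcases h with ⟨-, -, h | h | ⟨h, -⟩ | h | h | h⟩ | ⟨h, -, -⟩
    · exact absurd h l7
    · obtain ⟨K, _, _, hK, ⟨e⟩⟩ := h
      refine (H729.SprO8.no_l34 t2 hC (fun g _ c hc => sq_one c ?_) hK e).elim
      rintro rfl
      rw [zero_smul] at hc
      exact g.ne_zero hc
    · omega
    · exact Or.inr (Or.inr (s6 h))
    · exact Or.inr (Or.inl h)
    · have h3 := (H937.G24.row hC h 3 (by norm_num) (by rw [h8]; norm_num)).1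
      rw [h8] at h3
      omega
    · omega
  · refine (H30.HTS.core_not_sz8 (p := 3) hC ?_ h).elim
    rw [(card_aut_sz8 hna h).1]
    norm_num
  · exfalso
    have spor : ∀ {x : Grp × ℕ}, x ∈ OrdDiv.spor → OrdDiv.Real x.1 (H915.LD.Soc P) → ¬ x.2 ∣ 4952179814400 → False :=
      fun h3 h4 h5 => h5 (OrdDiv.table.spor _ _ h3 h4 ▸ hd')
    rcases h with h | h | h | h | h | h | ⟨⟨e⟩⟩ | h | h
    · exact spor (x := (.m11, 7920)) (by simp [OrdDiv.spor]) h (by norm_num)
    · exact spor (x := (.m12, 95040)) (by simp [OrdDiv.spor]) h (by norm_num)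
    · exact spor (x := (.m22, 443520)) (by simp [OrdDiv.spor]) h (by norm_num)
    · exact spor (x := (.m23, 10200960)) (by simp [OrdDiv.spor]) h (by norm_num)
    · exact spor (x := (.m24, 244823040)) (by simp [OrdDiv.spor]) h (by norm_num)
    · exact spor (x := (.j1, 175560)) (by simp [OrdDiv.spor]) h (by norm_num)
    · have h3 := (H4.JT.j2_odd hC e t2 (by rw [h8]; norm_num)).1
      rw [h8] at h3
      omega
    · exact spor (x := (.j3, 50232960)) (by simp [OrdDiv.spor]) h (by norm_num)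
    · exact spor (x := (.suz, 448345497600)) (by simp [OrdDiv.spor]) h (by norm_num)

end Cross

open Cfsg.Agent.H915.LD in
/-- **residual class, cross characteristic, `q = 3`** -/
theorem boxCross : BoxCross := by
  intro R S P h hL hk hb
  have := h.nrm
  obtain ⟨e⟩ := h.iso
  let ix : H708.O8.I8 ≃ Fin 8 := finSumFinEquiv
  have hC := core_of_residual h.core
  have e' := H936.Reix.socEquiv ix P
  have ee := e.trans e'
  rcases Cross.cands (H936.Reix.core_rx ix hC) (OddHalf.Known.isKnownSimple'_congr e' hC.nonabelian hk)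
    (fun h => hL (OddHalf.Known.isLieTypeChar_congr e'.symm h)) hb
    (by rw [← Nat.card_congr ee.toEquiv]; exact Subgroup.card_subgroup_dvd_card S)
    (by rw [← Nat.card_congr (MulAut.congr ee).toEquiv]; exact H264.FKS.dvd_aut S h.cen)
    (by rw [← Cross.card_G]; exact Subgroup.card_subgroup_dvd_card R) with
    ⟨⟨f⟩⟩ | ⟨K, iK, iKf, hK, ⟨f⟩⟩ | ⟨⟨f⟩, h1⟩ | ⟨⟨f⟩, h1⟩
  · exact Or.inl ⟨ee.trans f⟩
  · exact Or.inr (Or.inl ⟨K, iK, iKf, hK, ⟨ee.trans f⟩⟩)
  · exact Or.inr (Or.inr (Or.inl ⟨⟨ee.trans f⟩, h1⟩))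
  · exact Or.inr (Or.inr (Or.inr ⟨⟨ee.trans f⟩, h1⟩))

end Cfsg.Agent.SM.O8.T3
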