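import Cfsg.Agent.SM.O8.Three.Cg
import Cfsg.Agent.SM.O8.GP
import Cfsg.Agent.H884.SingMax
import Cfsg.Agent.S2608

/-!
# SM, `S = PΩ⁺₈(3)`: `boxD8`, all semisimilarities keep the class of the second factor (helper62)
-/

set_option autoImplicit false
set_option linter.unusedSectionVars false
set_option maxHeartbeats 400000

namespace Cfsg.Agent.SM.O8.T3

open Module QuadraticMap Cfsg Cfsg.Geo Cfsg.Agent.LieClassical.OrthCore Cfsg.Agent.LieClassical.OrthTrans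
open Cfsg.Agent.H884.SingMax (Perp trans_in perp_of_mem)
open Cfsg.Agent.H708.O8 (I8 T8)
open Cfsg.Agent.H823.O8S (mk8 gl8)
open Cfsg.Agent.H198.Carriers (plusQ)
open Cfsg.Agent.ClassicalGeometry.OrthSemi (Gam)

namespace D8

section gen

variable {F V : Type} [Field F] [AddCommGroup V] [Module F V] [FiniteDimensional F V] {Q : QuadraticForm F V}

theorem le_of_inf {A B : Submodule F V} (h : finrank F A ≤ finrank F ↥(A ⊓ B)) : A ≤ B :=
  inf_eq_left.1 (Submodule.eq_of_le_of_finrank_le inf_le_left h)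

/-- `E Q` is transitive on the totally singular subspaces of small dimension -/
theorem trans_ts (hQ : Nondeg Q) {D D' : Submodule F V} (hD : ∀ w ∈ D, Q w = 0) (hD' : ∀ w ∈ D', Q w = 0)
    (he : finrank F D = finrank F D') (hd : 2 * finrank F D + 1 ≤ finrank F V) : ∃ g ∈ E Q, ∀ w ∈ D, g w ∈ D' := by
  have fr : ∀ g : V ≃ₗ[F] V, finrank F ↥(D.map (g : V →ₗ[F] V)) = finrank F D := fun g => LinearEquiv.finrank_map_eq g D
  have key : ∀ j ≤ finrank F D, ∃ g ∈ E Q, j ≤ finrank F ↥(D.map (g : V →ₗ[F] V) ⊓ D') := by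
    intro j
    induction j with
    | zero => exact fun _ => ⟨1, one_mem _, Nat.zero_le _⟩
    | succ j ih =>
      intro hj
      obtain ⟨g, hg, h1⟩ := ih (by omega)
      rcases Nat.lt_or_ge j (finrank F ↥(D.map (g : V →ₗ[F] V) ⊓ D')) with h2 | h2
      · exact ⟨g, hg, h2⟩
      have h3 : ¬ D.map (g : V →ₗ[F] V) ≤ D.map (g : V →ₗ[F] V) ⊓ D' := fun k => by
        have := Submodule.finrank_mono k
        rw [fr] at this
        omega
      have h4 : ¬ D' ≤ D.map (g : V →ₗ[F] V) ⊓ D' := fun k => by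
        have := Submodule.finrank_mono k
        omega
      obtain ⟨x, hx, hx'⟩ := SetLike.not_le_iff_exists.1 h3
      obtain ⟨y, hy, hy'⟩ := SetLike.not_le_iff_exists.1 h4
      have h5 : ∀ w ∈ D.map (g : V →ₗ[F] V), Q w = 0 := by
        rintro _ ⟨w, hw, rfl⟩
        exact (E_le_O hg w).trans (hD w hw)
      obtain ⟨k, hk, k1, c, hc, k2⟩ := trans_in hQ (W := D.map (g : V →ₗ[F] V) ⊓ D') (by omega) (h5 x hx) (hD' y hy)
        (fun w hw => perp_of_mem h5 hx w hw.1) (fun w hw => perp_of_mem hD' hy w hw.2) hx' hy'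
      refine ⟨k * g, mul_mem hk hg, lt_of_le_of_lt h1 (Submodule.finrank_lt_finrank_of_lt
        (SetLike.lt_iff_le_and_exists.2 ⟨fun w hw => ⟨?_, hw.2⟩, y, Submodule.mem_inf.2 ⟨?_, hy⟩, hy'⟩))⟩
      · obtain ⟨u, hu, e⟩ := hw.1
        refine ⟨u, hu, ?_⟩
        change k (g u) = w
        rw [show g u = w from e, k1 w hw]
      · obtain ⟨u, hu, e⟩ := hx
        refine ⟨c⁻¹ • u, D.smul_mem _ hu, ?_⟩
        change k (g (c⁻¹ • u)) = y
        rw [map_smul, map_smul, show g u = x from e, k2, smul_smul, inv_mul_cancel₀ hc, one_smul]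
  obtain ⟨g, hg, h⟩ := key _ le_rfl
  exact ⟨g, hg, fun w hw => le_of_inf ((fr g).le.trans h) ⟨w, hw, rfl⟩⟩

theorem exists_hyp_in {D : Submodule F V} (hD : ∀ d ∈ D, (∀ d' ∈ D, polar Q d d' = 0) → d = 0) {x : V} (hx : x ∈ D)
    (h0 : x ≠ 0) (hq : Q x = 0) : ∃ y ∈ D, Hyp Q x y := by
  have h1 : ∃ a ∈ D, polar Q x a ≠ 0 := by
    by_contra h
    push Not at h
    exact h0 (hD x hx h)
  obtain ⟨a, ha, h2⟩ := h1
  have h3 : polar Q x ((polar Q x a)⁻¹ • a) = 1 := by rw [polar_smul_right, smul_eq_mul, inv_mul_cancel₀ h2]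
  have h4 : (polar Q x a)⁻¹ • a ∈ D := D.smul_mem _ ha
  generalize (polar Q x a)⁻¹ • a = b at h3 h4
  refine ⟨b + (-(Q b)) • x, D.add_mem h4 (D.smul_mem _ hx), hq, ?_, ?_⟩
  · rw [Q_add, QuadraticMap.map_smul, hq, polar_smul_right, polar_comm Q b x, h3]
    simp
  · rw [polar_add_right, polar_smul_right, polar_self_of_sing hq, h3]
    simp

/-- `E Q` is transitive on the hyperbolic planes -/
theorem trans_hp (hG : Good Q) {D D' : Submodule F V} (hd : finrank F D = 2) {x y x' y' : V} (h : Hyp Q x y) (h' : Hyp Q x' y')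
    (hx : x ∈ D) (hy : y ∈ D) (hx' : x' ∈ D') (hy' : y' ∈ D') : ∃ g ∈ E Q, ∀ w ∈ D, g w ∈ D' := by
  obtain ⟨g, hg, e1, e2⟩ := hG.trans_hyp h h'
  refine ⟨g, hg, fun w hw => le_of_inf (A := D.map (g : V →ₗ[F] V)) ?_ ⟨w, hw, rfl⟩⟩
  have h1 : (F ∙ x') < D.map (g : V →ₗ[F] V) ⊓ D' := by
    refine SetLike.lt_iff_le_and_exists.2 ⟨(Submodule.span_singleton_le_iff_mem _ _).2 ⟨⟨x, hx, e1⟩, hx'⟩, y',
      Submodule.mem_inf.2 ⟨⟨y, hy, e2⟩, hy'⟩, fun k => ?_⟩
    obtain ⟨c, hc⟩ := Submodule.mem_span_singleton.1 k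
    have h2 := h'.pair
    rw [← hc, polar_smul_right, h'.polar_left, smul_zero] at h2
    exact zero_ne_one h2
  have h2 := Submodule.finrank_lt_finrank_of_lt h1
  rw [finrank_span_singleton h'.left_ne] at h2
  rw [LinearEquiv.finrank_map_eq g D, hd]
  exact h2

end gen

theorem kp_of {D : Submodule F₃ V₃} {M : Γ₃} (h : ∃ y : Om F₃, ∀ w ∈ D, ln y w ∈ gm M D) : Kp (St D) (ph F₃ M) := by
  obtain ⟨y, hy⟩ := h
  refine ⟨mk8 F₃ y, ?_⟩
  have h1 : gm (og F₃ y) D = gm M D := by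
    refine Submodule.eq_of_le_of_finrank_eq (fun v hv => ?_) (by rw [finrank_gm, finrank_gm])
    have h2 := hy _ (mem_gm.1 hv)
    rwa [← og_apply, gam_apply_inv] at h2
  change im _ _ = im _ _
  rw [← ph_og, im_St, im_St, h1]

theorem of_E {D D' : Submodule F₃ V₃} (h : ∃ g ∈ E (plusQ 4 F₃), ∀ w ∈ D, g w ∈ D') : ∃ y : Om F₃, ∀ w ∈ D, ln y w ∈ D' := by
  obtain ⟨g, hg, h⟩ := h
  obtain ⟨y, hy⟩ := exists_ln hg
  exact ⟨y, fun w hw => by rw [hy]; exact h w hw⟩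

/-- all semisimilarities keep the class of the stabiliser -/
theorem kp_all {D : Submodule F₃ V₃} (h : (Ts D ∧ (finrank F₃ D = 1 ∨ finrank F₃ D = 3)) ∨ (Nd D ∧ finrank F₃ D = 2))
    (M : Γ₃) : Kp (St D) (ph F₃ M) := by
  refine kp_of ?_
  rcases h with ⟨h1, h2⟩ | ⟨h1, h2⟩
  · refine of_E (trans_ts (good8 (F := F₃)).nondeg h1 (fun w hw => ?_) (finrank_gm M D).symm ?_)
    · exact (Q_gam (M := M⁻¹)).1 (h1 _ hw)
    · have h3 : finrank F₃ V₃ = 8 := by simp
      refine le_trans ?_ h3.ge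
      rcases h2 with h2 | h2 <;> rw [h2] <;> norm_num
  by_cases h3 : An D
  · obtain ⟨y, hy⟩ := G4.exists_plane (U' := gm M D) h2 h3 ((finrank_gm M D).trans h2) fun w hw k =>
      (gam_eq_zero (M := M⁻¹)).1 (h3 _ hw (Q_gam.2 k))
    exact ⟨y, fun w hw => hy ▸ ⟨w, hw, rfl⟩⟩
  · unfold An at h3
    push Not at h3
    obtain ⟨x, hx, hq, h0⟩ := h3
    obtain ⟨y, hy, hh⟩ := exists_hyp_in (Q := plusQ 4 F₃) h1 hx h0 hq
    obtain ⟨y', hy', hh'⟩ := exists_hyp_in (Q := plusQ 4 F₃) (D := gm M D) (x := M.1 x) (fun d hd k =>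
      (gam_eq_zero (M := M⁻¹)).1 (h1 _ hd fun d' hd' => by
        rw [← gam_inv_apply M d']
        exact polar_gam.2 (k _ (apply_mem_gm.2 hd')))) (apply_mem_gm.2 hx) (fun k => h0 (gam_eq_zero.1 k)) (Q_gam.2 hq)
    exact of_E (trans_hp good8 h2 hh hh' hx hy (apply_mem_gm.2 hx) hy')

theorem index_inn : (Inn G₃).index = 24 := by
  have h := S2608.result (F := F₃) (p := 3) (f := 1) (m := 4) le_rfl (by simp) (by norm_num) le_rfl
  rw [if_pos rfl] at h
  obtain ⟨e⟩ := h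
  have h1 : Nat.card (Out G₃) = Nat.card (Equiv.Perm (Fin 4) × Multiplicative (ZMod 1)) := Nat.card_congr e.toEquiv
  rw [Nat.card_prod, Nat.card_perm, Nat.card_congr (Multiplicative.toAdd (α := ZMod 1)), Nat.card_zmod, Nat.card_fin] at h1
  exact h1

theorem inn_le : Inn G₃ ≤ (ph F₃).range := by
  rintro _ ⟨g, rfl⟩
  exact nt_conj g

theorem relIndex_inn : (Inn G₃).relIndex (ph F₃).range = 8 := by
  have h := Subgroup.relIndex_mul_index inn_le
  rw [index_inn, index_ph] at h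
  omega

end D8

open D8

/-- **(11)** -/
theorem boxD8 : BoxD8 := by
  intro X D U V c h
  have hfin : Finite G₃ := Quotient.finite _
  have h1 : (U ⊔ V).relIndex (ph F₃).range ∣ 2 := by
    rw [Subgroup.relIndex_dvd_two_iff]
    by_cases h2 : (ph F₃).range ≤ U ⊔ V
    · exact ⟨1, one_mem _, fun b hb => Or.inr (h2 hb)⟩
    · obtain ⟨a, ⟨M, rfl⟩, ha⟩ := SetLike.not_le_iff_exists.1 h2
      refine ⟨_, ⟨M, rfl⟩, ?_⟩
      rintro _ ⟨N, rfl⟩
      rcases c.or (kp_all h N) (kp_all h M) with k | k | k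
      · exact Or.inr k
      · exact (ha k).elim
      · exact Or.inl k
  have h2 := Subgroup.relIndex_mul_relIndex (Inn G₃) ((U ⊔ V) ⊓ (ph F₃).range) (ph F₃).range (le_inf c.inn_le inn_le)
    inf_le_right
  have h3 := Subgroup.relIndex_mul_relIndex (Inn G₃) ((U ⊔ V) ⊓ (ph F₃).range) (U ⊔ V) (le_inf c.inn_le inn_le) inf_le_left
  rw [Subgroup.inf_relIndex_right, relIndex_inn] at h2
  refine dvd_trans ?_ ((Dvd.intro _ h3).trans c.out)
  rcases (Nat.dvd_prime Nat.prime_two).1 h1 with k | k <;> rw [k] at h2 <;> omega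

end Cfsg.Agent.SM.O8.T3
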