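import Cfsg.Agent.SM.O8.Cnt
import Cfsg.Agent.SM.O8.Can
import Cfsg.Agent.SM.Nrm
import Cfsg.Agent.H912.CrossList

/-!
# SM (S3570), socle `PΩ⁺₈(3)`: definitions and boxes (helper68, plan in `notes/SM/o8three.md`)

The field is `ZMod 3`.  `|G₃| = 4952179814400 = 2¹² 3¹² 5² 7 13`.
-/

set_option autoImplicit false

namespace Cfsg.Agent.SM.O8.T3

open Module QuadraticMap Cfsg Cfsg.Geo Equiv
open Cfsg.Agent.H884.El (pre lin PP)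
open Cfsg.Agent.H708.O8 (I8 T8)
open Cfsg.Agent.H823.O8S (mk8 gl8)
open Cfsg.Agent.H823.O8R (Sp6)
open Cfsg.Agent.H198.Carriers (plusQ)
open Cfsg.Agent.ClassicalGeometry.OrthSemi (Gam)
open Cfsg.Agent.SM.Ex78 (Pd)
open Cfsg.Agent.H912.Bd (IsOP)

/-- the field -/
scoped notation "F₃" => ZMod 3
/-- the natural module -/
scoped notation "V₃" => (I8 → ZMod 3)
/-- the group -/
scoped notation "G₃" => T8 (ZMod 3)
/-- the quadratic form -/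
scoped notation "Q₃" => quadFormPlus 4 (ZMod 3)
/-- the semisimilarities -/
scoped notation "Γ₃" => Gam (plusQ 4 (ZMod 3))

/-- the configuration in a model, with the properties of the image `U ⊔ V` of the overgroup `M` -/
structure Cg {G : Type} [Group G] (X Y : Subgroup G) (U V : Subgroup (MulAut G)) : Prop extends Cf X Y U V where
  decW : ∀ β ∈ U ⊔ V, ∃ γ ∈ U ⊓ V, ∃ s : G, β = γ * MulAut.conj s
  out : (Inn G).relIndex (U ⊔ V) ∣ Nat.card (Out X)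
  sgn : ∀ (Z : Type) [Fintype Z] [DecidableEq Z] (ρ : G →* Perm Z) (z : Z) (β : MulAut G) (π : Perm Z),
    (∀ z', ∃ g, ρ g z = z') → (∀ g, ρ g z = z ↔ g ∈ Y) → Ind ρ β π → Perm.sign π = 1 → β ∈ U ⊔ V

/-- totally singular -/
def Ts (D : Submodule F₃ V₃) : Prop := ∀ w ∈ D, Q₃ w = 0

/-- nondegenerate -/
def Nd (D : Submodule F₃ V₃) : Prop := ∀ d ∈ D, (∀ d' ∈ D, polar Q₃ d d' = 0) → d = 0

/-- the stabiliser of a set of vectors in `Ω` -/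
def SO (Z : Set V₃) : Subgroup (Om F₃) where
  carrier := {y | ∀ w, w ∈ Z ↔ ln y w ∈ Z}
  one_mem' := fun w => by rw [ln_one]
  mul_mem' := fun {a b} ha hb w => by rw [ln_mul]; exact (hb w).trans (ha _)
  inv_mem' := fun {a} ha w => by
    have h := ha (ln a⁻¹ w)
    rw [ln_apply_inv] at h
    exact h.symm

/-- an orthogonal frame of `v^⊥`; all vectors have the norm of `v` -/
structure Fr (v : V₃) (e : Fin 7 → V₃) : Prop where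
  nv : Q₃ v ≠ 0
  nrm : ∀ i, Q₃ (e i) = Q₃ v
  ov : ∀ i, polar Q₃ v (e i) = 0
  oe : ∀ i j, i ≠ j → polar Q₃ (e i) (e j) = 0

/-- the stabiliser of `⟨v⟩` and of the frame (`2⁶ : A₇`, order 161280) -/
def FS (v : V₃) (e : Fin 7 → V₃) : Subgroup G₃ := pt v ⊓ (SO {w | ∃ i, w = e i ∨ w = -e i}).map (mk8 F₃)

/-- the geometric classes in which the elements of order five have no common fixed vector -/
def Geo (R : Subgroup G₃) : Prop :=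
  ¬ 3 ^ 5 ∣ Nat.card R ∧ ¬ 13 ∣ Nat.card R ∧ (25 ∣ Nat.card R → ¬ 7 ∣ Nat.card R) ∧ ∀ v, Q₃ v ≠ 0 → ¬ Tr (pre Q₃ R) v

/-- the orders for which the residual class is listed -/
def Big (n : ℕ) : Prop := (5 ∣ n ∧ (27 ∣ n ∨ 25 ∣ n ∨ 13 ∣ n)) ∨ 13 * 3 ^ 7 ∣ n

/-- `A₉` or `Sp₆(2)`, `n` the order of the group with this socle -/
def Sm (S : Type) [Group S] (n : ℕ) : Prop :=
  (Nonempty (S ≃* alternatingGroup (Fin 9)) ∧ n ∣ 362880) ∨ (Nonempty (S ≃* PSp 3 (ZMod 2)) ∧ n = 1451520)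

/-- the elements of order five fix no vector -/
def Fpf (X : Subgroup G₃) : Prop := ∀ y : Om F₃, mk8 F₃ y ∈ X → y ^ 5 = 1 → ∀ w, w ≠ 0 → ln y w = w → y = 1

/-- an intermediate result -/
def S36 : Prop := ∀ R : Subgroup G₃, R ≠ ⊤ → 3 ^ 6 * 5 ∣ Nat.card R → SR 5 R ∨ 4585351680 ∣ Nat.card R

/-! ### the boxes -/

/-- (1) the geometric classes, prime 5 -/
def BoxSp : Prop := ∀ R : Subgroup G₃, R ≠ ⊤ → 5 ∣ Nat.card R → SR 5 R ∨ InOrthogonalResidualClass (pre Q₃ R) ∨ Geo R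

/-- (2) residual class, own characteristic -/
def BoxOwn : Prop := ∀ (R : Subgroup G₃) (S : Subgroup R) (P : Subgroup (GL I8 F₃)), Rs R S P →
  IsLieTypeChar 3 (H915.LD.Soc P) → Big (Nat.card R) → Sp6 3 1 S

/-- (3) residual class, cross characteristic -/
def BoxCross : Prop := ∀ (R : Subgroup G₃) (S : Subgroup R) (P : Subgroup (GL I8 F₃)), Rs R S P →
  ¬ IsLieTypeChar 3 (H915.LD.Soc P) → IsKnownSimple' (H915.LD.Soc P) → Big (Nat.card R) →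
    Nonempty (S ≃* alternatingGroup (Fin 10)) ∨ IsOP 4 2 S ∨ Sm S (Nat.card R)

/-- (4a) an element of order five fixes a vector in one of the modules -/
def BoxTy : Prop := ∀ z : G₃, orderOf z = 5 → SR 5 (Subgroup.zpowers z)

/-- (4b) fusion in the Sylow 5-subgroup: no `A₁₀`, no `Ω⁺₈(2).3` -/
def BoxFive : Prop := (∀ L : Subgroup G₃, ¬ Nonempty (L ≃* alternatingGroup (Fin 10))) ∧
  ∀ (R : Subgroup G₃) (S : Subgroup R), S.Normal → Subgroup.centralizer (S : Set R) = ⊥ → IsOP 4 2 S →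
    Nat.card R = 174182400

/-- (5) the maximal subgroups of `Ω₇(3) = pt v` -/
def BoxM7 : Prop := ∀ v, Q₃ v ≠ 0 → ∀ R : Subgroup G₃, R ⋖ pt v →
  (∃ D : Submodule F₃ V₃, D ≠ ⊥ ∧ finrank F₃ D ≤ 3 ∧ (∀ d ∈ D, polar Q₃ v d = 0) ∧ (Ts D ∨ Nd D) ∧ R = pt v ⊓ St D) ∨
    (∃ e, Fr v e ∧ R = FS v e) ∨ (181440 ∣ Nat.card R ∧ Nat.card R ∣ 362880) ∨
    (IsSimpleGroup R ∧ Nat.card R = 1451520) ∨ (4245696 ∣ Nat.card R ∧ ¬ 5 ∣ Nat.card R ∧ ¬ 3 ^ 7 ∣ Nat.card R)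

/-- (6a) `Ω₇(3)` fixes a point in one of the modules -/
def BoxSpin : Prop := ∀ (R : Subgroup G₃) (S : Subgroup R), S.Normal → ∀ (K : Type) [Field K] [Fintype K],
  Fintype.card K = 3 → Nonempty (S ≃* POmega K (quadFormOdd 3 K)) → SR 5 R

/-- (6b) no `PSp₆(3)` -/
def BoxNoSp : Prop := ∀ (L : Subgroup G₃) (K : Type) [Field K] [Fintype K], Fintype.card K = 3 → ¬ Nonempty (L ≃* PSp 3 K)

/-- (7) orders -/
structure BoxOrd : Prop where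
  card : Nat.card G₃ = 4952179814400
  ns : ∀ v, Q₃ v ≠ 0 → Nat.card (pt v) = 4585351680 ∧ (pt v).index = 1080
  sg : ∀ u, u ≠ 0 → Q₃ u = 0 → (pt u).index = 1120
  two : ∀ u u', Q₃ u = 0 → Q₃ u' = 0 → polar Q₃ u u' ≠ 0 → Nat.card ↥(pt u ⊓ pt u') ∣ 6065280
  simple : ∀ u, u ≠ 0 → Q₃ u = 0 → ∀ R ≤ pt u, IsSimpleGroup R → ¬ IsMulCommutative R → Nat.card R ∣ 6065280
  hyp : ∀ D : Submodule F₃ V₃, Nd D → finrank F₃ D = 2 → ¬ An D → Nat.card (St D) ∣ 12130560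
  ani : ∀ D : Submodule F₃ V₃, finrank F₃ D = 2 → An D → 94770 ∣ (St D).index
  three : ∀ D : Submodule F₃ V₃, Nd D → finrank F₃ D = 3 → ¬ 7 ∣ Nat.card (St D) ∧ ¬ 13 ∣ Nat.card (St D)
  n25 : ∀ R : Subgroup G₃, SR 5 R → ¬ 25 ∣ Nat.card R

/-- (8) outer automorphisms, and the simple groups of order `2^a 3^b 5^c` -/
structure BoxOut : Prop where
  o7 : ∀ (X : Subgroup G₃) (α : MulAut G₃) (v : V₃), Q₃ v ≠ 0 → im α X = pt v → Nat.card (Out X) ∣ 2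
  o8 : ∀ X : Subgroup G₃, IsOP 4 2 X → ¬ 4 ∣ Nat.card (Out X)
  k3 : ∀ X : Subgroup G₃, IsSimpleGroup X → 25 ∣ Nat.card X → 7 ∣ Nat.card X ∨ 13 ∣ Nat.card X

/-- (9) the geometric classes, prime 13 -/
def BoxG13 : Prop := ∀ R : Subgroup G₃, R ≠ ⊤ → 13 * 3 ^ 7 ∣ Nat.card R → ¬ 5 ∣ Nat.card R →
  InOrthogonalResidualClass (pre Q₃ R) ∨ ∃ (α : MulAut G₃) (u : V₃), u ≠ 0 ∧ Q₃ u = 0 ∧ im α R ≤ pt u

/-- (10) the parabolic second factor -/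
def BoxHex : Prop := ∀ (X Y : Subgroup G₃) (U V : Subgroup (MulAut G₃)), Cf X Y U V → 13 * 3 ^ 7 ∣ Nat.card Y →
  (∃ (α : MulAut G₃) (u : V₃), u ≠ 0 ∧ Q₃ u = 0 ∧ im α Y ≤ pt u) →
    ∃ (α : MulAut G₃) (D : Submodule F₃ V₃), im α Y = St D ∧ Ts D ∧ (finrank F₃ D = 1 ∨ finrank F₃ D = 3)

/-- (11) all semisimilarities keep the class of the second factor -/
def BoxD8 : Prop := ∀ (X : Subgroup G₃) (D : Submodule F₃ V₃) (U V : Subgroup (MulAut G₃)), Cg X (St D) U V →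
  (Ts D ∧ (finrank F₃ D = 1 ∨ finrank F₃ D = 3)) ∨ (Nd D ∧ finrank F₃ D = 2) → 4 ∣ Nat.card (Out X)

/-- (12) a reflection acts as an even permutation on the 1120 singular points and on the 1080 points of its own type -/
def BoxPar : Prop := ∀ (X : Subgroup G₃) (w : V₃) (U V : Subgroup (MulAut G₃)), w ≠ 0 → Cg X (pt w) U V →
  ∃ M : Γ₃, kp F₃ M = -1 ∧ ph F₃ M ∈ U ⊔ V

/-- (13) no class-exchanging semisimilarity -/
def BoxK1 : Prop := ∀ (X Y : Subgroup G₃) (U V : Subgroup (MulAut G₃)), Cg X Y U V → 5 ∣ Nat.card X → ¬ 25 ∣ Nat.card X →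
  Fpf X → ∀ M : Γ₃, kp F₃ M = -1 → ph F₃ M ∉ U ⊔ V

/-- (14) the diagonal automorphism `r_a r_b` is not an isometry of the other modules -/
def BoxDM : Prop := ∀ α : MulAut G₃, ¬ Nt α → ∀ (a b : V₃) (ha : Q₃ a ≠ 0) (hb : Q₃ b ≠ 0), Q₃ a * Q₃ b = -1 →
  ∀ M : Γ₃, ph F₃ M = α * ph F₃ (rf a ha * rf b hb) * α⁻¹ → ∃ x, Q₃ (M.1 x) ≠ Q₃ x

/-- (15a) automorphisms which keep `pt v` -/
def BoxNp : Prop := ∀ v, Q₃ v ≠ 0 → ∀ β : MulAut G₃, (∀ x ∈ pt v, β x ∈ pt v) →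
  ∃ M : Γ₃, ph F₃ M = β ∧ (M.1 v = v ∨ M.1 v = -v) ∧ (∀ x, Q₃ (M.1 x) = Q₃ x) ∧ ∀ (c : F₃) x, M.1 (c • x) = c • M.1 x

/-- (15b) the first factor with a canonical subspace -/
def BoxCanX : Prop := ∀ (X Y : Subgroup G₃) (U V : Subgroup (MulAut G₃)), Cf X Y U V → 5 ∣ Nat.card X → Fx 5 X ≠ ⊥ →
  (∃ v, Q₃ v ≠ 0 ∧ X = pt v) ∨ ∃ u u', Q₃ u = 0 ∧ Q₃ u' = 0 ∧ polar Q₃ u u' ≠ 0 ∧ X ≤ pt u ⊓ pt u'

/-- (15c) the second factor with a canonical subspace -/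
def BoxCanY : Prop := ∀ (X Y : Subgroup G₃) (U V : Subgroup (MulAut G₃)), Cf X Y U V → 5 ∣ Nat.card Y → Fx 5 Y ≠ ⊥ →
  (∃ w, w ≠ 0 ∧ Y = pt w) ∨ ∃ D, Nd D ∧ (finrank F₃ D = 2 ∨ finrank F₃ D = 3) ∧ Y = St D

/-- (16a) subgroups of order 161280 of `pt v` -/
def BoxFr : Prop := ∀ v, Q₃ v ≠ 0 → ∀ A ≤ pt v, Nat.card A = 161280 →
  (∃ w, Q₃ w = Q₃ v ∧ polar Q₃ v w = 0 ∧ A ≤ pt w) ∨ ∃ e, Fr v e ∧ A = FS v e

/-- (16b) the same for the first factor `pt v` -/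
def BoxFrX : Prop := ∀ (v : V₃) (Y : Subgroup G₃) (U V : Subgroup (MulAut G₃)), Q₃ v ≠ 0 → Cf (pt v) Y U V →
  Nat.card ↥(pt v ⊓ Y) = 161280 → ∃ e, Fr v e ∧ pt v ⊓ Y = FS v e

/-- (17) `Ω⁺₈(2)` is not primitive on 1080 points -/
def BoxB2 : Prop := ∀ (X : Subgroup G₃) (v : V₃) (U V : Subgroup (MulAut G₃)), Q₃ v ≠ 0 → Cf X (pt v) U V →
  Nat.card X ≠ 174182400

/-- (18) `A₉`, `Sp₆(2)` are not the socle of the second factor -/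
def BoxA9 : Prop := ∀ (v : V₃) (Y : Subgroup G₃) (U V : Subgroup (MulAut G₃)) (S : Subgroup Y) (P : Subgroup (GL I8 F₃)),
  Q₃ v ≠ 0 → Cg (pt v) Y U V → Rs Y S P → ¬ Sm S (Nat.card Y)

/-- (19) the count -/
def BoxCnt : Prop := ∀ (v : V₃) (e : Fin 7 → V₃), Fr v e →
  {Y : Subgroup G₃ | IsSimpleGroup Y ∧ Nat.card Y = 174182400 ∧ Pd (pt v) Y ∧ pt v ⊓ Y = FS v e}.ncard ≤ 4

/-- (20) the second factor is not the stabiliser of a nondegenerate 3-space -/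
def BoxE3 : Prop := ∀ (X : Subgroup G₃) (D : Submodule F₃ V₃) (U V : Subgroup (MulAut G₃)), Cg X (St D) U V → Nd D →
  finrank F₃ D = 3 → ∀ (α : MulAut G₃) (v : V₃), Q₃ v ≠ 0 → im α X ≠ pt v

end Cfsg.Agent.SM.O8.T3
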