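import Cfsg.Agent.SM.O8.Three.Defs
import Cfsg.Agent.SM.O8.GP

/-!
# SM (S3570), socle `PΩ⁺₈(3)`: orders (helper87)

* `Ord.pp5`, `Ord.pp7`, `Ord.pp13` : the primitive prime divisors;
* `Ord.card_mul_dvd` : a subgroup of `pt u` which meets the Siegel group trivially;
* `Ord.pow_five` : no element of order 25;
* `boxOrd`.
-/

set_option autoImplicit false
set_option linter.unusedSectionVars false

namespace Cfsg.Agent.SM.O8.T3

open Module QuadraticMap Cfsg Cfsg.Geo Cfsg.Agent.LieClassical.OrthCore Cfsg.Agent.LieClassical.OrthTrans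
open Cfsg.Agent.H951 (fx cm Inv)
open Cfsg.Agent.H884.El (pre lin PP Iso)
open Cfsg.Agent.H708.O8 (I8 T8)
open Cfsg.Agent.H823.O8S (mk8 gl8 mk8_eq_one mk8_eq)
open Cfsg.Agent.H198.Carriers (plusQ)
open Cfsg.Agent.H955 (res nondeg_res_iff)
open Cfsg.Agent.H886.O8R (Xw om card_orbit card_stab)
open Cfsg.Agent.SM.O8.Can (Sg exE dim8)

namespace Ord

theorem cF : Nat.card F₃ = 3 := Nat.card_zmod 3

theorem pp5 : PP (Nat.card F₃) 4 5 := by
  rw [cF]
  exact ⟨by norm_num, (orderOf_eq_iff (by norm_num)).2 (by decide)⟩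

theorem pp7 : PP (Nat.card F₃) 6 7 := by
  rw [cF]
  exact ⟨by norm_num, (orderOf_eq_iff (by norm_num)).2 (by decide)⟩

theorem pp13 : PP (Nat.card F₃) 3 13 := by
  rw [cF]
  exact ⟨by norm_num, (orderOf_eq_iff (by norm_num)).2 (by decide)⟩

theorem card_G : Nat.card G₃ = 4952179814400 := by
  have h := Cfsg.Agent.S0293.result (F := F₃) (q := 3) (ZMod.card 3) 4 le_rfl
  simp only [Finset.prod_range_succ, Finset.prod_range_zero] at h
  norm_num at h
  change 4 * Nat.card G₃ = _ at h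
  omega

theorem ns {v : V₃} (hv : Q₃ v ≠ 0) : Nat.card (pt v) = 4585351680 ∧ (pt v).index = 1080 := by
  have h1 := index_pt hv
  rw [cF] at h1
  norm_num at h1
  have h2 : (pt v).index = 1080 := by omega
  have h3 := (pt v).card_mul_index
  rw [h2, card_G] at h3
  exact ⟨by omega, h2⟩

theorem index_Xw {u : V₃} (hu0 : u ≠ 0) (hu : Q₃ u = 0) : (Xw u).index = 2240 := by
  classical
  have h1 := card_orbit (⊤ : Subgroup (Om F₃)) u
  rw [top_inf_eq, Subgroup.card_top, ← (Xw u).card_mul_index, mul_comm] at h1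
  have h2 := Nat.eq_of_mul_eq_mul_left Nat.card_pos h1
  have h4 : Nat.card {v : V₃ // ∃ x ∈ (⊤ : Subgroup (Om F₃)), om F₃ x u = v} + 1 = Nat.card {v : V₃ // Q₃ v = 0} := by
    have e : {v : V₃ | Q₃ v = 0} = insert 0 {v : V₃ | ∃ x ∈ (⊤ : Subgroup (Om F₃)), om F₃ x u = v} := by
      ext v
      constructor
      · intro hv
        by_cases h0 : v = 0
        · exact Or.inl h0
        · obtain ⟨y, hy⟩ := exists_ln_map hu0 h0 (hu.trans hv.symm)
          exact Or.inr ⟨y, trivial, hy⟩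
      · rintro (rfl | ⟨x, -, rfl⟩)
        · exact (plusQ 4 F₃).map_zero
        · exact (Q_ln x u).trans hu
    have e2 : (0 : V₃) ∉ {v : V₃ | ∃ x ∈ (⊤ : Subgroup (Om F₃)), om F₃ x u = v} := by
      rintro ⟨x, -, hx⟩
      exact hu0 (ln_injective x (hx.trans (map_zero _).symm))
    change Set.ncard {v : V₃ | ∃ x ∈ (⊤ : Subgroup (Om F₃)), om F₃ x u = v} + 1 = Set.ncard {v : V₃ | Q₃ v = 0}
    rw [e, Set.ncard_insert_of_notMem e2]
  have h5 := LieClassical.QuadCount.card_plus (F := F₃) 4 0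
  rw [if_pos rfl, ← h4, h2, ZMod.card] at h5
  omega

theorem sgn {c : F₃} (hc : c ≠ 0) : c = 1 ∨ c = -1 := by
  revert c
  decide

theorem sg {u : V₃} (hu0 : u ≠ 0) (hu : Q₃ u = 0) : (pt u).index = 1120 := by
  have h1 := card_orbit ((pt u).comap (mk8 F₃)) u
  have h2 : Xw u ≤ (pt u).comap (mk8 F₃) := fun x hx => mem_pt.2 ⟨1, by rw [one_smul]; exact hx⟩
  have h3 : {v : V₃ | ∃ x ∈ (pt u).comap (mk8 F₃), om F₃ x u = v} = {u, -u} := by
    ext v
    constructor
    · rintro ⟨x, hx, rfl⟩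
      obtain ⟨c, hc⟩ := mem_pt.1 hx
      have h0 : c ≠ 0 := fun e => hu0 (ln_injective x (by rw [hc, e, zero_smul, map_zero]))
      change ln x u = u ∨ ln x u = -u
      rcases sgn h0 with e | e
      · exact Or.inl (by rw [hc, e, one_smul])
      · exact Or.inr (by rw [hc, e, neg_one_smul])
    · rintro (rfl | rfl)
      · exact ⟨1, one_mem _, ln_one _⟩
      · obtain ⟨z, -, hz⟩ := Ext.exists_neg F₃
        exact ⟨z, mem_pt.2 ⟨-1, by rw [neg_one_smul]; exact hz u⟩, hz u⟩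
  have h4 : u ≠ -u := fun e => hu0 (by
    have h5 : (2 : F₃) • u = 0 := by rw [two_smul]; exact add_eq_zero_iff_eq_neg.2 e
    exact (smul_eq_zero.1 h5).resolve_left (by decide))
  have h5 : Nat.card {v : V₃ // ∃ x ∈ (pt u).comap (mk8 F₃), om F₃ x u = v} = 2 := by
    change Set.ncard {v : V₃ | ∃ x ∈ (pt u).comap (mk8 F₃), om F₃ x u = v} = 2
    rw [h3, Set.ncard_pair h4]
  rw [h5, inf_eq_right.2 h2] at h1
  have h6 := ((pt u).comap (mk8 F₃)).card_mul_index
  rw [← (Xw u).card_mul_index, index_Xw hu0 hu, ← h1, Subgroup.index_comap_of_surjective _ mk8_surjective,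
    mul_comm 2, mul_assoc] at h6
  have h7 := Nat.eq_of_mul_eq_mul_left Nat.card_pos h6
  omega

theorem card_sg {u : V₃} (hu0 : u ≠ 0) (hu : Q₃ u = 0) : Nat.card (pt u) = 729 * 6065280 := by
  have h3 := (pt u).card_mul_index
  rw [sg hu0 hu, card_G] at h3
  omega

section gen

variable {F : Type} [Field F] [Fintype F] {u : I8 → F}

/-- the Siegel group -/
def Sn (hu : plusQ 4 F u = 0) : Subgroup (T8 F) := (Sg hu).map (mk8 F)

theorem sg_fix (hu : plusQ 4 F u = 0) {y : Om F} (hy : y ∈ Sg hu) : ln y u = u := by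
  obtain ⟨w, hw, h⟩ := hy
  rw [h, siegelLin_apply, polar_self_of_sing hu, polar_comm _ w u, hw]
  simp

theorem Sn_le (hu : plusQ 4 F u = 0) : Sn hu ≤ pt u := by
  rintro _ ⟨y, hy, rfl⟩
  exact mem_pt.2 ⟨1, by rw [one_smul]; exact sg_fix hu hy⟩

theorem Sn_comm (hu : plusQ 4 F u = 0) {a b : T8 F} (ha : a ∈ Sn hu) (hb : b ∈ Sn hu) : a * b = b * a := by
  obtain ⟨y, ⟨w, hw, hy⟩, rfl⟩ := ha
  obtain ⟨y', ⟨w', hw', hy'⟩, rfl⟩ := hb
  rw [← map_mul, ← map_mul]
  refine congrArg _ (om_ext fun v => ?_)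
  rw [ln_mul, ln_mul, hy, hy', hy, hy', siegelLin_comp hu hw hw', siegelLin_comp hu hw' hw, add_comm]

theorem Sn_conj (hu0 : u ≠ 0) (hu : plusQ 4 F u = 0) {x a : T8 F} (hx : x ∈ pt u) (ha : a ∈ Sn hu) :
    x * a * x⁻¹ ∈ Sn hu := by
  obtain ⟨g, rfl⟩ := mk8_surjective x
  obtain ⟨y, ⟨w, hw, hy⟩, rfl⟩ := ha
  obtain ⟨c, h4⟩ := mem_pt.1 hx
  have h0 : c ≠ 0 := fun e => hu0 (ln_injective g (by rw [h4, e, zero_smul, map_zero]))
  have h2 : ∀ a b, polar (plusQ 4 F) (ln g a) (ln g b) = polar (plusQ 4 F) a b := polar_ln g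
  have h3 : plusQ 4 F (ln g w) = plusQ 4 F w := Q_ln g w
  have h7 : polar (plusQ 4 F) u (ln g w) = 0 := by
    have h8 := h2 u w
    rw [h4, hw, polar_smul_left, smul_eq_mul] at h8
    exact (mul_eq_zero.1 h8).resolve_left h0
  refine ⟨g * y * g⁻¹, ⟨c • ln g w, by rw [polar_smul_right, h7, smul_zero], fun v => ?_⟩,
    by rw [map_mul, map_mul, map_inv]⟩
  have h5 : polar (plusQ 4 F) u (ln g⁻¹ v) = c * polar (plusQ 4 F) u v := by
    rw [← h2, h4, ln_apply_inv, polar_smul_left, smul_eq_mul]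
  have h6 : polar (plusQ 4 F) w (ln g⁻¹ v) = polar (plusQ 4 F) (ln g w) v := by rw [← h2, ln_apply_inv]
  rw [ln_mul, ln_mul, hy, siegelLin_apply, siegelLin_apply, h5, h6, QuadraticMap.map_smul, h3, polar_smul_left]
  simp only [map_add, map_sub, map_smul, h4, ln_apply_inv, smul_eq_mul]
  module

/-- a Siegel element which keeps a point not perpendicular to `u` -/
theorem sg_eq (hu : plusQ 4 F u = 0) {u' w : I8 → F} (h : polar (plusQ 4 F) u u' ≠ 0) (hw : polar (plusQ 4 F) u w = 0)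
    {c : F} (e : siegelLin (plusQ 4 F) u w u' = c • u') : ∃ t : F, w = t • u := by
  have h1 := congrArg (polar (plusQ 4 F) u) e
  rw [siegelLin_apply] at h1 e
  simp only [polar_sub_right, polar_add_right, polar_smul_right, polar_self_of_sing hu, hw, smul_eq_mul] at h1
  have h2 : c = 1 := mul_right_cancel₀ h (by linear_combination -h1)
  rw [h2, one_smul] at e
  refine ⟨(polar (plusQ 4 F) u u')⁻¹ * (polar (plusQ 4 F) w u' + plusQ 4 F w * polar (plusQ 4 F) u u'), ?_⟩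
  rw [mul_smul, eq_inv_smul_iff₀ h, add_smul]
  linear_combination (exp := 1) e

theorem Sn_inf (hu : plusQ 4 F u = 0) {u' : I8 → F} (h : polar (plusQ 4 F) u u' ≠ 0) {a : T8 F} (ha : a ∈ Sn hu)
    (ha' : a ∈ pt u') : a = 1 := by
  obtain ⟨y, ⟨w, hw, hy⟩, rfl⟩ := ha
  obtain ⟨c, hc⟩ := mem_pt.1 ha'
  obtain ⟨t, rfl⟩ := sg_eq hu h hw ((hy u').symm.trans hc)
  have h1 : y = 1 := om_ext fun v => by
    rw [hy, ln_one, siegelLin_apply, QuadraticMap.map_smul, hu, polar_smul_left]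
    simp only [smul_eq_mul, mul_zero, zero_mul, zero_smul, sub_zero]
    module
  rw [h1, map_one]

theorem dvd_card_Sn (hu0 : u ≠ 0) (hu : plusQ 4 F u = 0) : Nat.card F ^ 6 ∣ Nat.card (Sn hu) := by
  obtain ⟨u', h⟩ := exists_hyp good8.nondeg hu hu0
  let W : Submodule F (I8 → F) := LinearMap.ker ((polarBilin (plusQ 4 F) u).prod (polarBilin (plusQ 4 F) u'))
  have hW : ∀ w : W, polar (plusQ 4 F) u w = 0 ∧ polar (plusQ 4 F) u' w = 0 := fun w => Prod.ext_iff.1 w.2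
  have h6 : finrank F W = 6 := by
    have h1 := LinearMap.finrank_range_add_finrank_ker ((polarBilin (plusQ 4 F) u).prod (polarBilin (plusQ 4 F) u'))
    have h2 : LinearMap.range ((polarBilin (plusQ 4 F) u).prod (polarBilin (plusQ 4 F) u')) = ⊤ :=
      LinearMap.range_eq_top.2 fun p => ⟨p.2 • u + p.1 • u', Prod.ext
        (by simp [polar_add_right, polar_smul_right, h.polar_left, h.pair])
        (by simp [polar_add_right, polar_smul_right, h.polar_right, h.pair'])⟩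
    rw [h2, finrank_top, dim8, finrank_prod, finrank_self] at h1
    change _ + finrank F W = _ at h1
    omega
  choose f hf using fun w : W => exE (siegel_mem_E hu (hW w).1)
  have hf' : ∀ (w : W) v, ln (f w) v = siegelLin (plusQ 4 F) u w v := hf
  let φ : Multiplicative W →* Sn hu := MonoidHom.mk'
    (fun w => ⟨mk8 F (f w.toAdd), f w.toAdd, ⟨_, (hW _).1, hf' _⟩, rfl⟩) fun a b => Subtype.ext (by
      change mk8 F _ = mk8 F _ * mk8 F _
      rw [← map_mul]
      refine congrArg _ (om_ext fun v => ?_)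
      rw [ln_mul, hf', hf', hf', siegelLin_comp hu (hW _).1 (hW _).1]
      rfl)
  have hφ : Function.Injective φ := (injective_iff_map_eq_one φ).2 fun w hw => by
    obtain ⟨c, hc⟩ := mk8_eq_one (show mk8 F (f w.toAdd) = 1 from congrArg Subtype.val hw)
    obtain ⟨t, ht⟩ := sg_eq hu (by rw [h.pair]; exact one_ne_zero) (hW _).1 ((hf' _ u').symm.trans (hc u'))
    have h1 := (hW w.toAdd).2
    rw [ht, polar_smul_right, h.pair', smul_eq_mul, mul_one] at h1
    rw [h1, zero_smul] at ht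
    exact Multiplicative.toAdd.injective (Subtype.ext ht)
  have h7 := Subgroup.card_dvd_of_injective φ hφ
  rwa [Nat.card_congr Multiplicative.toAdd, Module.natCard_eq_pow_finrank (K := F), h6] at h7

/-- a subgroup of `pt u` which meets the Siegel group trivially -/
theorem card_mul_dvd (hu0 : u ≠ 0) (hu : plusQ 4 F u = 0) {R : Subgroup (T8 F)} (hR : R ≤ pt u)
    (h : ∀ a ∈ R, a ∈ Sn hu → a = 1) : Nat.card F ^ 6 * Nat.card R ∣ Nat.card (pt u) := by
  have hN : ((Sn hu).subgroupOf (pt u)).Normal := ⟨fun a ha x => Sn_conj hu0 hu x.2 ha⟩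
  have h1 : Function.Injective ((QuotientGroup.mk' ((Sn hu).subgroupOf (pt u))).comp (Subgroup.inclusion hR)) :=
    (injective_iff_map_eq_one _).2 fun a ha =>
      Subtype.ext (h a a.2 ((QuotientGroup.eq_one_iff (N := (Sn hu).subgroupOf (pt u)) (Subgroup.inclusion hR a)).1 ha))
  have h2 := Subgroup.card_dvd_of_injective _ h1
  rw [Subgroup.card_eq_card_quotient_mul_card_subgroup ((Sn hu).subgroupOf (pt u)), mul_comm,
    Nat.card_congr (Subgroup.subgroupOfEquivOfLe (Sn_le hu)).toEquiv]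
  exact mul_dvd_mul h2 (dvd_card_Sn hu0 hu)

end gen

theorem dvd_of {u : V₃} (hu0 : u ≠ 0) (hu : Q₃ u = 0) {R : Subgroup G₃} (hR : R ≤ pt u)
    (h : ∀ a ∈ R, a ∈ Sn hu → a = 1) : Nat.card R ∣ 6065280 := by
  have h1 := card_mul_dvd hu0 hu hR h
  rw [card_sg hu0 hu, cF] at h1
  exact Nat.dvd_of_mul_dvd_mul_left (by norm_num) h1

theorem two {u u' : V₃} (hu : Q₃ u = 0) (h : polar Q₃ u u' ≠ 0) : Nat.card ↥(pt u ⊓ pt u') ∣ 6065280 :=
  dvd_of (fun e => h (by rw [e]; exact polar_zero_left (plusQ 4 F₃) u')) hu inf_le_left fun _ ha k => Sn_inf hu h k ha.2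

theorem simple {u : V₃} (hu0 : u ≠ 0) (hu : Q₃ u = 0) {R : Subgroup G₃} (hR : R ≤ pt u) (hs : IsSimpleGroup R)
    (hn : ¬ IsMulCommutative R) : Nat.card R ∣ 6065280 := by
  have hN : ((Sn hu).subgroupOf R).Normal := ⟨fun a ha x => Sn_conj hu0 hu (hR x.2) ha⟩
  rcases hN.eq_bot_or_eq_top with e | e
  · refine dvd_of hu0 hu hR fun a ha k => ?_
    have h1 : (⟨a, ha⟩ : R) ∈ (Sn hu).subgroupOf R := k
    rw [e] at h1
    exact congrArg Subtype.val (Subgroup.mem_bot.1 h1)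
  · exact absurd ⟨⟨fun a b => Subtype.ext (Sn_comm hu (e.ge (Subgroup.mem_top a)) (e.ge (Subgroup.mem_top b)))⟩⟩ hn

theorem hyp {D : Submodule F₃ V₃} (hD : Nd D) (h2 : finrank F₃ D = 2) (hA : ¬ An D) : Nat.card (St D) ∣ 12130560 := by
  unfold An at hA
  push Not at hA
  obtain ⟨u, huD, hu, hu0⟩ := hA
  obtain ⟨d, hdD, hd⟩ : ∃ d ∈ D, polar (plusQ 4 F₃) u d ≠ 0 := by
    by_contra hc
    push Not at hc
    exact hu0 (hD u huD hc)
  have hu1 : plusQ 4 F₃ u = 0 := hu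
  obtain ⟨u', hu'D, hu', hp⟩ : ∃ u' ∈ D, plusQ 4 F₃ u' = 0 ∧ polar (plusQ 4 F₃) u u' ≠ 0 := by
    refine ⟨d + (-(plusQ 4 F₃ d / polar (plusQ 4 F₃) u d)) • u, D.add_mem hdD (D.smul_mem _ huD), ?_, ?_⟩
    · rw [Q_add, QuadraticMap.map_smul, hu1, polar_smul_right, polar_comm _ d u]
      simp only [smul_eq_mul]
      field_simp
      ring
    · rwa [polar_add_right, polar_smul_right, polar_self_of_sing hu1, smul_zero, add_zero]
  have hli : LinearIndependent F₃ ![u, u'] := LinearIndependent.pair_iff.2 fun s t e => by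
    have h3 := congrArg (polar (plusQ 4 F₃) u) e
    rw [polar_add_right, polar_smul_right, polar_smul_right, polar_self_of_sing hu1, polar_zero_right, smul_zero, zero_add,
      smul_eq_mul] at h3
    have h4 := (mul_eq_zero.1 h3).resolve_right hp
    rw [h4, zero_smul, add_zero] at e
    exact ⟨(smul_eq_zero.1 e).resolve_right hu0, h4⟩
  have hsp : Submodule.span F₃ {u, u'} = D := by
    refine Submodule.eq_of_le_of_finrank_eq (Submodule.span_le.2 ?_) ?_
    · rintro _ (rfl | rfl) <;> assumption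
    · have h3 := finrank_span_eq_card hli
      rw [Matrix.range_cons_cons_empty] at h3
      rw [h2, h3]
      rfl
  have hs : ∀ x ∈ D, plusQ 4 F₃ x = 0 → (∃ c : F₃, x = c • u) ∨ ∃ c : F₃, x = c • u' := fun x hx h0 => by
    rw [← hsp] at hx
    obtain ⟨a, b, rfl⟩ := Submodule.mem_span_pair.1 hx
    rw [Q_add, QuadraticMap.map_smul, QuadraticMap.map_smul, hu1, hu', polar_smul_left, polar_smul_right] at h0
    simp only [smul_eq_mul, mul_zero, zero_add, mul_eq_zero] at h0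
    rcases h0 with h0 | h0 | h0
    · exact Or.inr ⟨b, by rw [h0, zero_smul, zero_add]⟩
    · exact Or.inl ⟨a, by rw [h0, zero_smul, add_zero]⟩
    · exact absurd h0 hp
  have ht : ∀ y : Om F₃, mk8 F₃ y ∈ St D → ((∃ c : F₃, ln y u = c • u) ∧ ∃ c : F₃, ln y u' = c • u') ∨
      ((∃ c : F₃, ln y u = c • u') ∧ ∃ c : F₃, ln y u' = c • u) := fun y hy => by
    have h3 : polar (plusQ 4 F₃) (ln y u) (ln y u') ≠ 0 := fun e => hp ((polar_ln y u u').symm.trans e)
    rcases hs _ (mem_St.1 hy u huD) ((Q_ln y u).trans hu) with ⟨a, ha⟩ | ⟨a, ha⟩ <;>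
      rcases hs _ (mem_St.1 hy u' hu'D) ((Q_ln y u').trans hu') with ⟨b, hb⟩ | ⟨b, hb⟩
    · exact absurd (by rw [ha, hb, polar_smul_left, polar_smul_right, polar_self_of_sing hu1, smul_zero, smul_zero]) h3
    · exact Or.inl ⟨⟨a, ha⟩, b, hb⟩
    · exact Or.inr ⟨⟨a, ha⟩, b, hb⟩
    · exact absurd (by rw [ha, hb, polar_smul_left, polar_smul_right, polar_self_of_sing hu', smul_zero, smul_zero]) h3
  have hi : ((pt u ⊓ pt u').subgroupOf (St D)).index ∣ 2 := by
    rw [Subgroup.index_dvd_two_iff]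
    by_cases hc : ∀ b : St D, b ∈ (pt u ⊓ pt u').subgroupOf (St D)
    · exact ⟨1, fun b => Or.inr (hc b)⟩
    push Not at hc
    obtain ⟨⟨a, ha⟩, hna⟩ := hc
    obtain ⟨x, rfl⟩ := mk8_surjective a
    obtain ⟨⟨c, hc⟩, c', hc'⟩ := (ht x ha).resolve_left fun k => hna ⟨mem_pt.2 k.1, mem_pt.2 k.2⟩
    refine ⟨⟨_, ha⟩, fun ⟨b, hb⟩ => ?_⟩
    obtain ⟨y, rfl⟩ := mk8_surjective b
    rcases ht y hb with k | ⟨⟨e, he⟩, e', he'⟩
    · exact Or.inr ⟨mem_pt.2 k.1, mem_pt.2 k.2⟩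
    · refine Or.inl (show mk8 F₃ y * mk8 F₃ x ∈ pt u ⊓ pt u' from ?_)
      rw [← map_mul]
      exact ⟨mem_pt.2 ⟨c * e', by rw [ln_mul, hc, map_smul, he', smul_smul]⟩,
        mem_pt.2 ⟨c' * e, by rw [ln_mul, hc', map_smul, he, smul_smul]⟩⟩
  have h5 : Nat.card ((pt u ⊓ pt u').subgroupOf (St D)) ∣ 6065280 :=
    (Subgroup.card_comap_dvd_of_injective _ _ (St D).subtype_injective).trans (two hu hp)
  rw [← ((pt u ⊓ pt u').subgroupOf (St D)).card_mul_index]
  exact mul_dvd_mul h5 hi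

theorem ani {D : Submodule F₃ V₃} (h2 : finrank F₃ D = 2) (hA : An D) : 94770 ∣ (St D).index := by
  have h1 := G4.index_plane (p := 3) (a := 1) cF h2 hA
  norm_num at h1
  obtain ⟨v, hvD, hv0⟩ := (Submodule.ne_bot_iff D).1 fun e => by
    rw [e, finrank_bot] at h2
    omega
  have hv : Q₃ v ≠ 0 := fun e => hv0 (hA v hvD e)
  have h3 := card_orbit ((St D).comap (mk8 F₃)) v
  have h4 := card_stab hv
  have h5 := ((St D).comap (mk8 F₃)).card_mul_index
  obtain ⟨b, hb⟩ := Subgroup.card_dvd_of_le (inf_le_right : (St D).comap (mk8 F₃) ⊓ Xw v ≤ Xw v)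
  rw [Subgroup.index_comap_of_surjective _ mk8_surjective, ← h3, ← h4, hb, ZMod.card] at h5
  have h6 : Nat.card {w : V₃ // ∃ x ∈ (St D).comap (mk8 F₃), om F₃ x v = w} ≤ 9 := by
    have h7 : Nat.card D = 9 := by rw [Module.natCard_eq_pow_finrank (K := F₃), h2, cF]; rfl
    rw [← h7]
    exact Nat.card_le_card_of_injective (fun w => (⟨w.1, by
      obtain ⟨x, hx, e⟩ := w.2
      exact e ▸ mem_St.1 hx v hvD⟩ : D)) fun a b e => Subtype.ext (congrArg (fun z : D => (z : V₃)) e)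
  have h8 : 0 < Nat.card {w : V₃ // ∃ x ∈ (St D).comap (mk8 F₃), om F₃ x v = w} :=
    @Nat.card_pos _ ⟨⟨v, 1, one_mem _, ln_one v⟩⟩ _
  generalize Nat.card {w : V₃ // ∃ x ∈ (St D).comap (mk8 F₃), om F₃ x v = w} = o at h5 h6 h8
  have h9 : o * (St D).index = 2160 * b := Nat.eq_of_mul_eq_mul_left
    (Nat.card_pos (α := ↥((St D).comap (mk8 F₃) ⊓ Xw v))) (by
      rw [show 3 ^ 7 - 3 ^ 3 = 2160 from rfl] at h5
      linarith)
  generalize (St D).index = i at h1 h9
  interval_cases o <;> omega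

theorem three_gen {F : Type} [Field F] [Fintype F] {D : Submodule F (I8 → F)}
    (hD : ∀ d ∈ D, (∀ d' ∈ D, polar (quadFormPlus 4 F) d d' = 0) → d = 0) (h3 : finrank F D = 3) {e r : ℕ}
    (hr : PP (Nat.card F) e r) (he : e = 6 ∨ e = 3) : ¬ r ∣ Nat.card (St D) := fun hd => by
  have he2 : 2 ≤ e := by omega
  obtain ⟨y, hy, k1, h2⟩ := exists_elt hr.prime (hr.odd he2) hd
  have h : Iso (plusQ 4 F) (ln y) r := Iso.mk' hr he2 (by rw [← Can.ln_pow, k1]; exact LinearMap.ext ln_one) (Q_ln y)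
  have h1 : ln y ≠ 1 := fun k => h2 (by rw [show y = 1 from om_ext fun v => by rw [k, ln_one]; rfl, map_one])
  have hW : Inv (ln y) D := mem_St.1 hy
  have h5 : finrank F (fx (ln y)) + finrank F (cm (ln y)) = 8 := h.finrank_add.trans dim8
  rcases he with rfl | rfl
  · have h4 : finrank F (cm (ln y)) = 6 := (h.even_case good8.nondeg h1 hr (by decide) (by rw [dim8]; norm_num)).1
    have h6 : 3 ≤ finrank F (fx (ln y)) :=
      h3.ge.trans (Submodule.finrank_mono (h.le_fx hr hW (h3.le.trans_lt (by norm_num))))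
    omega
  · have h4 : finrank F (cm (ln y)) = 2 * 3 := (h.odd_case good8.nondeg h1 hr (by decide) (by rw [dim8]; norm_num)).1
    obtain ⟨k, hk⟩ : Even (finrank F ↥(D ⊓ cm (ln y))) := h.even_inf hW (nondeg_res_iff.2 fun x hx k => hD x hx k)
    obtain ⟨l, hl⟩ : 3 ∣ finrank F ↥(D ⊓ cm (ln y)) := h.dvd hr hW
    have h7 : finrank F ↥(D ⊓ cm (ln y)) ≤ 3 := (Submodule.finrank_mono (inf_le_left : D ⊓ cm (ln y) ≤ D)).trans h3.le
    have h6 : finrank F ↥(D ⊓ fx (ln y)) + finrank F ↥(D ⊓ cm (ln y)) = 3 :=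
      (H951.finrank_inf_add h.ne0 h.pow hW).trans h3
    have h8 : finrank F ↥(D ⊓ fx (ln y)) ≤ finrank F (fx (ln y)) := Submodule.finrank_mono inf_le_right
    omega

theorem three {D : Submodule F₃ V₃} (hD : Nd D) (h3 : finrank F₃ D = 3) :
    ¬ 7 ∣ Nat.card (St D) ∧ ¬ 13 ∣ Nat.card (St D) :=
  ⟨three_gen hD h3 pp7 (Or.inl rfl), three_gen hD h3 pp13 (Or.inr rfl)⟩

open Polynomial in
/-- no element of order 25 -/
theorem pow_five {y : Om F₃} (hy : y ^ 25 = 1) : y ^ 5 = 1 := by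
  have : Fact (Nat.Prime 5) := ⟨by norm_num⟩
  have h1 : minpoly F₃ (ln y) ∣ cyclotomic (5 ^ (1 + 1)) F₃ * (X ^ 5 ^ 1 - 1) := by
    rw [cyclotomic_prime_pow_mul_X_pow_sub_one]
    refine minpoly.dvd _ _ ?_
    rw [map_sub, map_pow, aeval_X, map_one, ← Can.ln_pow, sub_eq_zero]
    exact LinearMap.ext fun v => by rw [show y ^ 5 ^ (1 + 1) = 1 from hy]; exact ln_one v
  have h0 : minpoly F₃ (ln y) ≠ 0 := minpoly.ne_zero_of_finite _ _
  have h2 : IsCoprime (minpoly F₃ (ln y)) (cyclotomic (5 ^ (1 + 1)) F₃) := by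
    refine isCoprime_of_irreducible_dvd (fun k => h0 k.1) fun P hP k1 k2 => ?_
    have h3 := natDegree_of_dvd_cyclotomic_of_irreducible (p := 3) (f := 1) (ZMod.card 3) (by norm_num) k2 hP
    have h4 : orderOf ((3 ^ 1 : ℕ) : ZMod (5 ^ (1 + 1))) = 20 := (orderOf_eq_iff (by norm_num)).2 (by decide)
    rw [← orderOf_units, ZMod.coe_unitOfCoprime, h4] at h3
    have h5 := natDegree_le_of_dvd (k1.trans (LinearMap.minpoly_dvd_charpoly (ln y))) (LinearMap.charpoly_monic _).ne_zero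
    rw [LinearMap.charpoly_natDegree, dim8] at h5
    omega
  obtain ⟨P, hP⟩ := h2.dvd_of_dvd_mul_left h1
  have h3 := congrArg (aeval (ln y)) hP
  rw [map_mul, minpoly.aeval, zero_mul, map_sub, map_pow, aeval_X, map_one, ← Can.ln_pow, sub_eq_zero] at h3
  exact om_ext fun v => by rw [ln_one]; exact LinearMap.congr_fun h3 v

theorem not_dvd_pt {w : V₃} (hw : w ≠ 0) : ¬ 25 ∣ Nat.card (pt w) := by
  by_cases h : Q₃ w = 0
  · rw [card_sg hw h]
    norm_num
  · rw [(ns h).1]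
    norm_num

theorem n25 {R : Subgroup G₃} (h : SR 5 R) : ¬ 25 ∣ Nat.card R := fun hd => by
  have : Fact (Nat.Prime 5) := ⟨by norm_num⟩
  obtain ⟨α, hα⟩ := h
  rw [← card_im α] at hd
  obtain ⟨w, hw, hw0⟩ := (Submodule.ne_bot_iff _).1 hα
  obtain ⟨P, hP⟩ := Sylow.exists_subgroup_card_pow_prime (G := im α R) 5 (n := 2) hd
  refine not_dvd_pt hw0 ?_
  have h1 : P.map (im α R).subtype ≤ pt w := by
    rintro _ ⟨x, hx, rfl⟩
    have h2 : (x : G₃) ^ 25 = 1 := by
      have h3 : (⟨x, hx⟩ : P) ^ Nat.card P = 1 := pow_card_eq_one'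
      rw [hP] at h3
      exact congrArg (fun z : P => ((z : im α R) : G₃)) h3
    obtain ⟨y, e, hy⟩ := lift_odd (by decide) h2
    change (x : G₃) ∈ pt w
    rw [← e]
    exact mem_pt.2 ⟨1, by rw [one_smul]; exact mem_Fx.1 hw y (e ▸ x.2) (pow_five hy)⟩
  have h4 := Subgroup.card_dvd_of_le h1
  rwa [Subgroup.card_map_of_injective (im α R).subtype_injective, hP] at h4

end Ord

/-- **(7)** -/
theorem boxOrd : BoxOrd where
  card := Ord.card_G
  ns := fun _ => Ord.ns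
  sg := fun _ => Ord.sg
  two := fun _ _ hu _ => Ord.two hu
  simple := fun _ hu0 hu _ => Ord.simple hu0 hu
  hyp := fun _ => Ord.hyp
  ani := fun _ => Ord.ani
  three := fun _ => Ord.three
  n25 := fun _ => Ord.n25

end Cfsg.Agent.SM.O8.T3
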