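import Cfsg.Agent.SM.O8.Three.Ty
import Cfsg.Agent.SM.O8.Three.Ord
import Cfsg.Agent.SM.O8.Two.Tri
import Cfsg.Agent.H245.O8Refl

/-!
# SM, `S = PΩ⁺₈(3)`: fusion in the Sylow 5-subgroup (helper8)
-/

set_option autoImplicit false

namespace Cfsg.Agent.SM.O8.T3

open Module QuadraticMap Cfsg Cfsg.Geo Subgroup
open Cfsg.Agent.H951 (fx mem_fx)
open Cfsg.Agent.H708.O8 (I8 T8)
open Cfsg.Agent.H823.O8S (mk8 gl8)

namespace Five

theorem zero_of {v : V₃} {a b : G₃} (ha : a ∈ pt v) (hb : b ∈ pt v) (oa : orderOf a = 5) (ob : orderOf b = 5)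
    (h : Commute a b) (hn : b ∉ zpowers a) : v = 0 := by
  by_contra hv
  have : Fact (Nat.Prime 5) := ⟨by norm_num⟩
  have h1 : IsPGroup 5 (zpowers a) := IsPGroup.of_card (n := 1) (by rw [Nat.card_zpowers, oa, pow_one])
  have h2 : IsPGroup 5 (zpowers b) := IsPGroup.of_card (n := 1) (by rw [Nat.card_zpowers, ob, pow_one])
  obtain ⟨k, hk⟩ := (IsPGroup.to_sup_of_normal_right' h2 h1 (zpowers_le.2 (centralizer_le_normalizer _ (by
    rintro _ ⟨n, rfl⟩
    exact (h.zpow_left n).eq)))).exists_card_eq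
  have h3 : Nat.card (zpowers a) < Nat.card ↥(zpowers b ⊔ zpowers a) :=
    lt_of_le_of_ne (card_le_of_le le_sup_right) fun e =>
      hn ((eq_of_le_of_card_ge le_sup_right e.ge).ge (mem_sup_left (mem_zpowers b)))
  rw [hk, Nat.card_zpowers, oa] at h3
  have h4 : 1 < k := (Nat.pow_lt_pow_iff_right (a := 5) (by norm_num)).1 h3
  refine Ord.not_dvd_pt hv (Dvd.dvd.trans ?_ (card_dvd_of_le (sup_le (zpowers_le.2 hb) (zpowers_le.2 ha))))
  rw [hk]
  exact pow_dvd_pow 5 h4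

/-- the fixed space -/
abbrev W (z : G₃) : Submodule F₃ V₃ := Fx 5 (zpowers z)

theorem exists_lift {z : G₃} (oz : orderOf z = 5) : ∃ y : Om F₃, mk8 F₃ y = z ∧ y ^ 5 = 1 :=
  lift_odd (by decide) (oz ▸ pow_orderOf_eq_one z)

theorem mem_pt_of {z : G₃} (oz : orderOf z = 5) {v : V₃} (hv : v ∈ W z) : z ∈ pt v := by
  obtain ⟨y, rfl, hy⟩ := exists_lift oz
  exact mem_pt.2 ⟨1, (mem_Fx.1 hv y (mem_zpowers _) hy).trans (one_smul _ _).symm⟩

theorem dim_W {z : G₃} (oz : orderOf z = 5) (h : W z ≠ ⊥) : finrank F₃ (W z) = 4 := by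
  obtain ⟨y, rfl, hy⟩ := exists_lift oz
  have h1 : W (mk8 F₃ y) = fx (ln y) := by
    refine le_antisymm (Can.Fx_le (mem_zpowers _) hy) fun v hv => ?_
    refine le_Fx pp5 (W := Submodule.span F₃ {v}) ((finrank_span_le_card _).trans (by simp))
      (fun g hg _ => le_St.1 (zpowers_le.2 (mem_pt.2 ⟨1, ?_⟩)) hg) (Submodule.mem_span_singleton_self v)
    exact (mem_fx.1 hv).trans (one_smul _ _).symm
  rw [h1] at h ⊢
  refine (Can.fx_four pp5 hy ?_ h).1
  rintro rfl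
  rw [map_one, orderOf_one] at oz
  omega

theorem mem_St_W {z x : G₃} (h : Commute z x) : x ∈ St (W z) := by
  obtain ⟨y, rfl⟩ := mk8_surjective x
  refine mem_St.2 fun w hw => Fx_inv (M := og F₃ y) ?_ hw
  rintro _ ⟨n, rfl⟩
  rw [ph_og, MulAut.conj_apply, ← (h.zpow_left n).eq, mul_inv_cancel_right]
  exact ⟨n, rfl⟩

theorem W_conj {z : G₃} (h : W z ≠ ⊥) (g : G₃) : W (g * z * g⁻¹) ≠ ⊥ := by
  obtain ⟨y, rfl⟩ := mk8_surjective g
  have h1 := Fx_im 5 (og F₃ y) (zpowers z)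
  rw [im, MonoidHom.map_zpowers, ph_og] at h1
  exact fun e => h (gm_eq_bot.1 (h1.symm.trans e))

theorem three_W {a b c : G₃} (oa : orderOf a = 5) (ob : orderOf b = 5) (oc : orderOf c = 5) (ha : W a ≠ ⊥)
    (hb : W b ≠ ⊥) (hc : W c ≠ ⊥) (c1 : Commute a b) (c2 : Commute a c) (c3 : Commute b c) (n1 : b ∉ zpowers a)
    (n2 : c ∉ zpowers a) (n3 : c ∉ zpowers b) : False := by
  have h1 : W a ⊓ W b = ⊥ := (Submodule.eq_bot_iff _).2 fun v hv =>
    zero_of (mem_pt_of oa hv.1) (mem_pt_of ob hv.2) oa ob c1 n1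
  have h2 : W a ⊔ W b = ⊤ := Submodule.eq_top_of_finrank_eq (by
    have h3 := Submodule.finrank_sup_add_finrank_inf_eq (W a) (W b)
    rw [h1, finrank_bot, dim_W oa ha, dim_W ob hb] at h3
    rw [Can.dim8]
    omega)
  obtain ⟨v, hv, h0⟩ := (Submodule.ne_bot_iff _).1 hc
  obtain ⟨u, hu, w, hw, rfl⟩ := Submodule.mem_sup.1 (h2.ge (Submodule.mem_top (x := v)))
  obtain ⟨y, rfl, hy⟩ := exists_lift oc
  have h3 := mem_Fx.1 hv y (mem_zpowers _) hy
  rw [map_add] at h3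
  have h4 : ln y u - u = w - ln y w := by rw [sub_eq_sub_iff_add_eq_add, h3, add_comm]
  have h5 : ln y u - u = 0 := (Submodule.eq_bot_iff _).1 h1 _ ⟨sub_mem (mem_St.1 (mem_St_W c2) u hu) hu,
    h4 ▸ sub_mem hw (mem_St.1 (mem_St_W c3) w hw)⟩
  have h6 := zero_of (mem_pt_of oa hu) (mem_pt.2 ⟨1, (sub_eq_zero.1 h5).trans (one_smul _ _).symm⟩) oa oc c2 n2
  have h7 := zero_of (mem_pt_of ob hw) (mem_pt.2 ⟨1, (sub_eq_zero.1 (h4.symm.trans h5)).symm.trans
    (one_smul _ _).symm⟩) ob oc c3 n3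
  exact h0 (by rw [h6, h7, add_zero])

/-- **three conjugate commuting subgroups of order five do not exist** -/
theorem three {L : Type} [Group L] (ι : L →* G₃) (hι : Function.Injective ι) {a b c g h : L} (oa : orderOf a = 5)
    (hb : b = g * a * g⁻¹) (hc : c = h * a * h⁻¹) (c1 : Commute a b) (c2 : Commute a c) (c3 : Commute b c)
    (n1 : b ∉ zpowers a) (n2 : c ∉ zpowers a) (n3 : c ∉ zpowers b) : False := by
  obtain ⟨α, hα⟩ := boxTy (ι a) ((orderOf_injective ι hι a).trans oa)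
  let κ : L →* G₃ := α.toMonoidHom.comp ι
  have hκ : Function.Injective κ := α.injective.comp hι
  rw [im, MonoidHom.map_zpowers] at hα
  have ho : ∀ x : L, orderOf (κ (x * a * x⁻¹)) = 5 := fun x =>
    (orderOf_injective κ hκ _).trans (((MulAut.conj x).orderOf_eq a).trans oa)
  have hW : ∀ x : L, W (κ (x * a * x⁻¹)) ≠ ⊥ := fun x => by
    rw [map_mul, map_mul, map_inv]
    exact W_conj hα _
  have hn : ∀ {x y : L}, x ∉ zpowers y → κ x ∉ zpowers (κ y) := fun {x y} k e => k (by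
    rwa [← MonoidHom.map_zpowers, mem_map_iff_mem hκ] at e)
  subst hb hc
  exact three_W ((orderOf_injective κ hκ a).trans oa) (ho g) (ho h) hα (hW g) (hW h) (c1.map κ) (c2.map κ) (c3.map κ)
    (hn n1) (hn n2) (hn n3)

theorem not_zp {L : Type} [Group L] {a b : L} (ha : a ^ 5 = 1) (h : ∀ k < 5, a ^ k ≠ b) : b ∉ zpowers a := by
  rintro ⟨n, rfl⟩
  have h1 : a ^ (5 : ℤ) = 1 := by exact_mod_cast ha
  refine h (n % 5).toNat (by omega) ?_
  rw [← zpow_natCast, Int.toNat_of_nonneg (by omega), ← zpow_eq_zpow_emod n h1]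

/-- a permutation from two lists -/
def pm (f g : Fin 10 → Fin 10) (h : (∀ i, g (f i) = i) ∧ ∀ i, f (g i) = i) : Equiv.Perm (Fin 10) := ⟨f, g, h.1, h.2⟩

/-- two 5-cycles -/
def pa : Equiv.Perm (Fin 10) := pm ![1, 2, 3, 4, 0, 6, 7, 8, 9, 5] ![4, 0, 1, 2, 3, 9, 5, 6, 7, 8] (by decide)

/-- inverts the second cycle -/
def pg : Equiv.Perm (Fin 10) := Equiv.swap 6 9 * Equiv.swap 7 8

/-- an even permutation in the normaliser of the Sylow subgroup -/
def ph' : Equiv.Perm (Fin 10) := Equiv.swap 1 2 * (Equiv.swap 1 4 * (Equiv.swap 1 3 * (Equiv.swap 0 5 * (Equiv.swap 1 6 *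
  (Equiv.swap 2 7 * (Equiv.swap 3 8 * Equiv.swap 4 9))))))

theorem no_ten (L : Subgroup G₃) : ¬ Nonempty (L ≃* alternatingGroup (Fin 10)) := by
  rintro ⟨e⟩
  have : Fact (Nat.Prime 5) := ⟨by norm_num⟩
  have h5 : pa ^ 5 = 1 := by decide
  have ha : pa ∈ alternatingGroup (Fin 10) := by
    have h := congrArg Equiv.Perm.sign h5
    rw [map_pow, map_one] at h
    exact (Int.units_eq_one_or _).resolve_right fun k => by rw [k] at h; exact absurd h (by decide)
  have hg : pg ∈ alternatingGroup (Fin 10) := by simp [pg]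
  have hh : ph' ∈ alternatingGroup (Fin 10) := by simp [ph']
  let a : alternatingGroup (Fin 10) := ⟨pa, ha⟩
  let g : alternatingGroup (Fin 10) := ⟨pg, hg⟩
  let h : alternatingGroup (Fin 10) := ⟨ph', hh⟩
  have h6 : a ^ 5 = 1 := Subtype.ext h5
  refine three (L.subtype.comp e.symm.toMonoidHom) (L.subtype_injective.comp e.symm.injective) (a := a) (g := g) (h := h)
    (orderOf_eq_prime h6 fun k => (show pa ≠ 1 by decide) (congrArg Subtype.val k)) rfl rfl
    (Subtype.ext (show pa * (pg * pa * pg⁻¹) = pg * pa * pg⁻¹ * pa by decide))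
    (Subtype.ext (show pa * (ph' * pa * ph'⁻¹) = ph' * pa * ph'⁻¹ * pa by decide))
    (Subtype.ext (show pg * pa * pg⁻¹ * (ph' * pa * ph'⁻¹) = ph' * pa * ph'⁻¹ * (pg * pa * pg⁻¹) by decide))
    (not_zp h6 fun k hk e => ?_) (not_zp h6 fun k hk e => ?_)
    (not_zp (by rw [conj_pow, h6, mul_one, mul_inv_cancel]) fun k hk e => ?_)
  · exact (show ∀ k < 5, pa ^ k ≠ pg * pa * pg⁻¹ by decide) k hk (congrArg Subtype.val e)
  · exact (show ∀ k < 5, pa ^ k ≠ ph' * pa * ph'⁻¹ by decide) k hk (congrArg Subtype.val e)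
  · exact (show ∀ k < 5, (pg * pa * pg⁻¹) ^ k ≠ ph' * pa * ph'⁻¹ by decide) k hk (congrArg Subtype.val e)

open StdO8.Aut (cj) in
theorem eq_top {R : Type} [Group R] (ι : R →* G₃) (hι : Function.Injective ι) (S : Subgroup R) (hS : S.Normal)
    (hC : centralizer (S : Set R) = ⊥) (φ : S ≃* StdO8.Model.Om) (h2 : Odd S.index) : S = ⊤ := by
  have : Fact (Nat.Prime 5) := ⟨by norm_num⟩
  have hsq : ∀ x : R, x * x ∈ S → x ∈ S := fun x hx => by
    obtain ⟨k, hk⟩ := h2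
    have h3 := S.pow_index_mem x
    rw [hk, pow_succ, pow_mul, pow_two] at h3
    exact (mul_mem_cancel_left (pow_mem hx k)).1 h3
  obtain ⟨act, hact⟩ : ∃ act : R →* MulAut StdO8.Model.Om,
      ∀ (x : R) (s : StdO8.Model.Om), (φ.symm (act x s) : R) = x * φ.symm s * x⁻¹ :=
    ⟨(MulAut.congr φ).toMonoidHom.comp MulAut.conjNormal, fun x s =>
      congrArg Subtype.val (φ.symm_apply_apply (MulAut.conjNormal x (φ.symm s)))⟩
  have hinn : ∀ (x : R) (s : StdO8.Model.Om), act x = MulAut.conj s → x ∈ S := fun x s k => by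
    have h3 : (φ.symm s : R)⁻¹ * x ∈ centralizer (S : Set R) := fun y hy => by
      have h4 := hact x (φ ⟨y, hy⟩)
      rw [k, MulAut.conj_apply, map_mul, map_mul, map_inv, φ.symm_apply_apply] at h4
      have h5 : (φ.symm s : R) * y * (φ.symm s : R)⁻¹ = x * y * x⁻¹ := h4
      calc y * ((φ.symm s : R)⁻¹ * x) = (φ.symm s : R)⁻¹ * ((φ.symm s : R) * y * (φ.symm s : R)⁻¹) * x := by group
        _ = _ := by rw [h5]; group
    rw [hC, mem_bot, inv_mul_eq_one] at h3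
    exact h3 ▸ (φ.symm s).2
  have key : ∀ x : R, act x ∈ cj.range → x ∈ S := by
    rintro x ⟨M, hM⟩
    obtain ⟨s, k | k⟩ := Two.Tri.cj_cases M
    · exact hinn x s (hM.symm.trans k)
    · refine hsq x (hinn _ (cj Two.Tri.ka s * s) ?_)
      rw [map_mul, ← hM, k, map_mul, ← Two.Tri.conj_conj, inv_eq_of_mul_eq_one_right Two.Tri.ka_ka]
      simp only [mul_assoc]
  obtain ⟨f₀, hf₀⟩ := exists_prime_orderOf_dvd_card' (G := StdO8.Model.Om) 5 (by rw [H245.O8Refl.card_Om]; norm_num)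
  obtain ⟨α, v, v0, hv⟩ := Two.boxNt.1 f₀ hf₀
  have of : orderOf (α f₀) = 5 := (α.orderOf_eq f₀).trans hf₀
  generalize α f₀ = f at hv of
  have nn : ∀ x : R, x * φ.symm f * x⁻¹ ∈ zpowers (φ.symm f : R) → x ∈ S := by
    rintro x ⟨n, hn⟩
    refine key x (Two.boxNt.2.1 _ f of ⟨v, v0, hv⟩ ⟨v, v0, ?_⟩)
    have h3 : act x f = f ^ n := φ.symm.injective (Subtype.ext (by rw [hact, map_zpow]; exact hn.symm))
    rw [h3]
    exact zpow_mem (K := (MulAction.stabilizer _ v).comap StdO8.Model.Om.subtype) (x := f) hv n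
  obtain ⟨P, hP⟩ := (IsPGroup.of_card (p := 5) (G := zpowers f) (n := 1)
    (by rw [Nat.card_zpowers, of, pow_one])).exists_le_sylow
  have h3 : Nat.card P = 5 ^ 2 := by
    rw [P.card_eq_multiplicity, H245.O8Refl.card_Om]
    congr 1
    rw [show (174182400 : ℕ) = 5 ^ 2 * 6967296 by norm_num,
      Nat.factorization_mul (by norm_num) (by norm_num), Finsupp.add_apply, Nat.Prime.factorization_pow (by norm_num),
      Nat.factorization_eq_zero_of_not_dvd (by norm_num)]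
    simp
  have h4 : ∀ s ∈ P, ∀ t ∈ P, Commute (φ.symm s : R) (φ.symm t : R) := fun s hs t ht =>
    Commute.map (show Commute s t from congrArg Subtype.val
      ((IsPGroup.isMulCommutative_of_card_eq_prime_sq h3).is_comm.comm (⟨s, hs⟩ : P) ⟨t, ht⟩))
      (S.subtype.comp φ.symm.toMonoidHom)
  have h5 : ∀ x : R, ∃ s ∈ S, act (s * x) f ∈ P := fun x => by
    obtain ⟨Q, hQ⟩ := (IsPGroup.of_card (p := 5) (G := zpowers (act x f)) (n := 1)
      (by rw [Nat.card_zpowers, (act x).orderOf_eq, of, pow_one])).exists_le_sylow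
    obtain ⟨s, rfl⟩ := MulAction.exists_smul_eq StdO8.Model.Om Q P
    refine ⟨_, (φ.symm s).2, act x f, hQ (mem_zpowers _), φ.symm.injective (Subtype.ext ?_)⟩
    rw [map_mul, MulAut.mul_apply, hact]
    exact congrArg Subtype.val (show φ.symm (s * act x f * s⁻¹) = _ by rw [map_mul, map_mul, map_inv])
  refine (eq_top_iff' S).2 fun g => by_contra fun hg => ?_
  obtain ⟨s, hs, k1⟩ := h5 g
  obtain ⟨t, ht, k2⟩ := h5 (g * g)
  have k0 : f ∈ P := hP (mem_zpowers f)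
  refine three ι hι (a := φ.symm f) (g := s * g) (h := t * (g * g))
    (by rw [orderOf_coe, φ.symm.orderOf_eq, of]) (hact _ f) (hact _ f) (h4 _ k0 _ k1) (h4 _ k0 _ k2) (h4 _ k1 _ k2)
    (fun k => hg ((mul_mem_cancel_left hs).1 (nn _ (hact _ f ▸ k))))
    (fun k => hg (hsq g ((mul_mem_cancel_left ht).1 (nn _ (hact _ f ▸ k))))) ?_
  rintro ⟨n, hn⟩
  have h6 := nn ((s * g)⁻¹ * (t * (g * g))) ⟨n, by
    have h7 : (s * g * φ.symm f * (s * g)⁻¹) ^ n = t * (g * g) * φ.symm f * (t * (g * g))⁻¹ := by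
      rw [← hact, ← hact]
      exact hn
    rw [conj_zpow] at h7
    calc (φ.symm f : R) ^ n = (s * g)⁻¹ * (s * g * (φ.symm f : R) ^ n * (s * g)⁻¹) * (s * g) := by group
      _ = _ := by rw [h7]; group⟩
  rw [show (s * g)⁻¹ * (t * (g * g)) = g⁻¹ * (s⁻¹ * t) * g⁻¹⁻¹ * g by group] at h6
  exact hg ((mul_mem_cancel_left (hS.conj_mem _ (mul_mem (inv_mem hs) ht) _)).1 h6)

theorem card_eq (R : Subgroup G₃) (S : Subgroup R) (hS : S.Normal) (hC : centralizer (S : Set R) = ⊥)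
    (h : H912.Bd.IsOP 4 2 S) : Nat.card R = 174182400 := by
  have hc := card_op h
  obtain ⟨K, _, _, hK, ⟨e₁⟩⟩ := h
  obtain ⟨e₂⟩ := StdO8.Model.exists_equiv hK
  have h1 := S.index_mul_card
  rw [hc] at h1
  have h3 := R.card_subgroup_dvd_card
  rw [boxOrd.card, ← h1, show 4952179814400 = 28431 * 174182400 by norm_num] at h3
  rw [← hc, eq_top R.subtype R.subtype_injective S hS hC (e₁.trans e₂)
    (Odd.of_dvd_nat (by decide) (Nat.dvd_of_mul_dvd_mul_right (by norm_num) h3)), card_top]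

end Five

theorem boxFive : BoxFive := ⟨Five.no_ten, Five.card_eq⟩

end Cfsg.Agent.SM.O8.T3
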