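import Cfsg.Agent.SM.O8.Three.Defs
import Cfsg.Agent.S0493

/-!
# SM (S3570), socle `PΩ⁺₈(3)`: the subgroups of order 161280 of `Ω₇(3)` (helper18)
-/

set_option autoImplicit false

namespace Cfsg.Agent.SM.O8.T3

open Module QuadraticMap Cfsg Cfsg.Geo
open Cfsg.Agent.LieClassical.OmegaReindex
open Cfsg.Agent.H951 (fx cm Inv mem_fx)
open Cfsg.Agent.H884.El (pre lin PP)
open Cfsg.Agent.H708.O8 (I8 T8)
open Cfsg.Agent.H823.O8S (mk8 gl8)
open Cfsg.Agent.H823.O8R (Six)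
open Cfsg.Agent.SM.Ex78 (Pd)

namespace FrL

theorem pp7 : PP (Nat.card F₃) 6 7 := by
  rw [Nat.card_zmod]
  refine ⟨by norm_num, ?_⟩
  rw [orderOf_eq_iff (by norm_num)]
  refine ⟨by decide, fun m h1 h2 => ?_⟩
  interval_cases m <;> decide

theorem six {y : Om F₃} (h7 : y ^ 7 = 1) (h1 : mk8 F₃ y ≠ 1) : Six (gl8 F₃ y) 7 :=
  ⟨pp7, by rw [← map_pow, h7, map_one], fun h => h1 (by rw [gl8_injective (h.trans (map_one _).symm), map_one]), Q_ln y⟩

/-- elements of order seven fix the vectors of the points they fix -/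
theorem fix7 {y : Om F₃} (h7 : y ^ 7 = 1) (h1 : mk8 F₃ y ≠ 1) {W : Submodule F₃ V₃} (hd : finrank F₃ W < 6)
    (h : mk8 F₃ y ∈ St W) : W ≤ fx (ln y) :=
  (H823.O8R.Six.isoQ (six h7 h1)).le_fx pp7 (mem_St.1 h) hd

theorem fix7' {y : Om F₃} (h7 : y ^ 7 = 1) {v : V₃} (hv : v ≠ 0) (h : mk8 F₃ y ∈ pt v) : ln y v = v := by
  obtain ⟨c, hc⟩ := mem_pt.1 h
  have h1 : ∀ n : ℕ, ln (y ^ n) v = c ^ n • v := fun n => by
    induction n with
    | zero => rw [pow_zero, pow_zero, ln_one, one_smul]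
    | succ n ih => rw [pow_succ', ln_mul, ih, map_smul, hc, smul_smul, pow_succ]
  have h2 := h1 7
  rw [h7, ln_one] at h2
  have h3 : c ^ 7 = 1 := smul_left_injective F₃ hv (by
    change c ^ 7 • v = (1 : F₃) • v
    rw [one_smul, ← h2])
  have h4 : ∀ c : F₃, c ^ 7 = 1 → c = 1 := by decide
  rw [hc, h4 c h3, one_smul]

theorem Q_add (u w : V₃) : Q₃ (u + w) = Q₃ u + Q₃ w + polar Q₃ u w := by
  unfold QuadraticMap.polar
  ring

theorem Q_sub (u w : V₃) : Q₃ (u - w) = Q₃ u + Q₃ w - polar Q₃ u w := by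
  rw [sub_eq_add_neg, Q_add, ← coe_quadPlus, QuadraticMap.map_neg, polar_neg_right, sub_eq_add_neg]

theorem polar_self' (u : V₃) : polar Q₃ u u = 2 * Q₃ u := by
  rw [← coe_quadPlus, polar_self, two_smul, two_mul]

theorem polar_neg' (u w : V₃) : polar Q₃ u (-w) = - polar Q₃ u w := by
  rw [← coe_quadPlus, polar_neg_right]

/-- orthogonal vectors in an anisotropic space -/
theorem norm_eq {P : Submodule F₃ V₃} (hP : An P) {v d : V₃} (hv : v ∈ P) (hQ : Q₃ v ≠ 0) (hd : d ∈ P) (h0 : d ≠ 0)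
    (ho : polar Q₃ v d = 0) : Q₃ d = Q₃ v := by
  have h1 : Q₃ d ≠ 0 := fun h => h0 (hP d hd h)
  have h2 : Q₃ (v + d) ≠ 0 := fun h => by
    have h3 : d = -v := eq_neg_of_add_eq_zero_right (hP _ (P.add_mem hv hd) h)
    rw [h3, polar_neg', polar_self'] at ho
    have h4 : ∀ a : F₃, -(2 * a) = 0 → a = 0 := by decide
    exact hQ (h4 _ ho)
  rw [Q_add, ho, add_zero] at h2
  have h5 : ∀ a b : F₃, a ≠ 0 → b ≠ 0 → a + b ≠ 0 → b = a := by decide
  exact h5 _ _ hQ h1 h2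

theorem line {D : Submodule F₃ V₃} {c : F₃} (hc : c ≠ 0) (h : ∀ d ∈ D, d ≠ 0 → Q₃ d = c) {w d : V₃} (hw : w ∈ D)
    (hw0 : w ≠ 0) (hd : d ∈ D) : ∃ e : F₃, d = e • w := by
  by_cases h0 : d = 0
  · exact ⟨0, by rw [h0, zero_smul]⟩
  by_cases h1 : d + w = 0
  · exact ⟨-1, by rw [neg_one_smul]; exact eq_neg_of_add_eq_zero_left h1⟩
  by_cases h2 : d - w = 0
  · exact ⟨1, by rw [one_smul]; exact sub_eq_zero.1 h2⟩
  exfalso
  have h3 := h _ (D.add_mem hd hw) h1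
  have h4 := h _ (D.sub_mem hd hw) h2
  rw [Q_add, h d hd h0, h w hw hw0] at h3
  rw [Q_sub, h d hd h0, h w hw hw0] at h4
  have h5 : ∀ a b : F₃, a + a + b = a → a + a - b = a → a = 0 := by decide
  exact hc (h5 _ _ h3 h4)

end FrL

open FrL in
/-- **box (16a)** -/
theorem boxFr_of (hFS : ∀ v e, Fr v e → Nat.card (FS v e) ∣ 161280) (hO : BoxOrd) (hM : BoxM7) : BoxFr := by
  intro v hv A hA hc
  have hne : A ≠ pt v := fun h => by
    have h1 := (hO.ns v hv).1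
    rw [← h, hc] at h1
    exact absurd h1 (by norm_num)
  obtain ⟨R, hAR, hR⟩ := exists_le_covBy_of_lt (lt_of_le_of_ne hA hne)
  have hd : 161280 ∣ Nat.card R := by
    rw [← hc]
    exact Subgroup.card_dvd_of_le hAR
  rcases hM v hv R hR with ⟨D, hD0, hD3, hDv, -, rfl⟩ | ⟨e, he, rfl⟩ | ⟨-, h1⟩ | ⟨h1, h2⟩ | ⟨-, h1, -⟩
  · left
    obtain ⟨y, hy, h7, h1⟩ := exists_elt (r := 7) (by norm_num) (by decide) (R := A) (by rw [hc]; norm_num)
    have hP : An (fx (ln y)) := (H823.O8R.Six.plane (six h7 h1)).2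
    have hDf : D ≤ fx (ln y) := fix7 h7 h1 (hD3.trans_lt (by norm_num)) (hAR hy).2
    have hvf : v ∈ fx (ln y) := mem_fx.2 (fix7' h7 (ne_zero_of_Q hv) (hA hy))
    have hn : ∀ d ∈ D, d ≠ 0 → Q₃ d = Q₃ v := fun d hd h0 => norm_eq hP hvf hv (hDf hd) h0 (hDv d hd)
    obtain ⟨w, hw, hw0⟩ := Submodule.exists_mem_ne_zero_of_ne_bot hD0
    refine ⟨w, hn w hw hw0, hDv w hw, fun x hx => ?_⟩
    obtain ⟨z, rfl⟩ := mk8_surjective x
    exact mem_pt.2 (line hv hn hw hw0 (mem_St.1 (hAR hx).2 w hw))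
  · right
    refine ⟨e, he, Subgroup.eq_of_le_of_card_ge hAR ?_⟩
    rw [hc]
    exact Nat.le_of_dvd (by norm_num) (hFS v e he)
  · exact absurd (hd.trans h1) (by norm_num)
  · exfalso
    have h3 : Nat.card (A.subgroupOf R) = 161280 := by
      rw [← hc]
      exact Nat.card_congr (Subgroup.subgroupOfEquivOfLe hAR).toEquiv
    have h4 := (A.subgroupOf R).card_mul_index
    rw [h3, h2] at h4
    have h5 : (A.subgroupOf R).index = 9 := by omega
    have h6 := S0493.card_dvd_factorial (A.subgroupOf R) (fun h => by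
      rw [h, Subgroup.index_top] at h5
      exact absurd h5 (by norm_num))
    rw [h5, h2] at h6
    exact absurd h6 (by decide)
  · exact absurd (Dvd.dvd.trans (by norm_num) hd) h1

open FrL in
/-- **box (16b)** -/
theorem boxFrX_of (hO : BoxOrd) (hN : BoxNp) (hF : BoxFr) : BoxFrX := by
  intro v Y U V hv c hc
  rcases hF v hv (pt v ⊓ Y) inf_le_left hc with ⟨w, hw, hvw, hA⟩ | h
  swap
  · exact h
  exfalso
  have hw' : Q₃ w ≠ 0 := by rw [hw]; exact hv
  have hv0 := ne_zero_of_Q hv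
  have hw0 := ne_zero_of_Q hw'
  obtain ⟨y, hy, h7, h1⟩ := exists_elt (r := 7) (by norm_num) (by decide) (R := pt v ⊓ Y) (by rw [hc]; norm_num)
  obtain ⟨h2, hP⟩ := H823.O8R.Six.plane (six h7 h1)
  obtain ⟨D, hD⟩ : ∃ D, D = Fx 7 (pt v ⊓ Y) := ⟨_, rfl⟩
  have hDf : D ≤ fx (ln y) := by rw [hD]; exact fun u hu => mem_fx.2 (mem_Fx.1 hu y hy h7)
  have hvD : v ∈ D := by
    rw [hD]
    exact mem_Fx.2 fun z hz hz7 => fix7' hz7 hv0 hz.1
  have hwD : w ∈ D := by
    rw [hD]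
    exact mem_Fx.2 fun z hz hz7 => fix7' hz7 hw0 (hA hz)
  have hli : LinearIndependent F₃ ![v, w] := by
    rw [LinearIndependent.pair_iff' hv0]
    intro a ha
    rw [← ha, ← coe_quadPlus, polar_smul_right, coe_quadPlus, polar_self', smul_eq_mul] at hvw
    have h3 : ∀ a b : F₃, a * (2 * b) = 0 → b ≠ 0 → a = 0 := by decide
    rw [h3 _ _ hvw hv, zero_smul] at ha
    exact hw0 ha.symm
  have hsp : finrank F₃ (Submodule.span F₃ {v, w}) = 2 := by
    have h3 := finrank_span_eq_card hli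
    rw [Matrix.range_cons_cons_empty] at h3
    exact h3
  have hle : Submodule.span F₃ {v, w} ≤ D := by
    rw [Submodule.span_le]
    rintro x (rfl | rfl)
    · exact hvD
    · exact hwD
  have hDs : Submodule.span F₃ {v, w} = D :=
    Submodule.eq_of_le_of_finrank_le hle (by rw [hsp, ← h2]; exact Submodule.finrank_mono hDf)
  have hD2 : finrank F₃ D = 2 := by rw [← hDs, hsp]
  have hI : Iv (U ⊓ V) (pt v ⊓ St D) := fun β hβ x hx => by
    refine ⟨c.uX β hβ.1 x hx.1, ?_⟩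
    obtain ⟨M, rfl, -⟩ := hN v hv β (c.uX β hβ.1)
    refine ph_St (fun u hu => ?_) hx.2
    rw [hD] at hu ⊢
    exact Fx_inv (c.ivA _ hβ) hu
  rcases c.prim (pt v ⊓ St D) (le_inf inf_le_left (by rw [hD]; exact le_St_Fx 7 _)) inf_le_left hI with h3 | h3
  · have h4 : pt v ⊓ pt w ≤ pt v ⊓ Y := by
      rw [← h3]
      refine le_inf inf_le_left fun x hx => ?_
      obtain ⟨z, rfl⟩ := mk8_surjective x
      obtain ⟨a, ha⟩ := mem_pt.1 hx.1
      obtain ⟨b, hb⟩ := mem_pt.1 hx.2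
      refine mem_St.2 fun u hu => ?_
      rw [← hDs] at hu
      obtain ⟨s, t, rfl⟩ := Submodule.mem_span_pair.1 hu
      rw [map_add, map_smul, map_smul, ha, hb]
      exact D.add_mem (D.smul_mem _ (D.smul_mem _ hvD)) (D.smul_mem _ (D.smul_mem _ hwD))
    have h5 := Nat.le_of_dvd (Nat.pos_of_ne_zero Subgroup.index_ne_zero_of_finite) (Subgroup.index_dvd_of_le h4)
    have h6 : (pt v ⊓ pt w).index ≤ (pt v).index * (pt w).index := Subgroup.index_inf_le
    rw [(hO.ns v hv).2, (hO.ns w hw').2] at h6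
    have h8 := (pt v ⊓ Y).card_mul_index
    rw [hc, hO.card] at h8
    have h9 : (pt v ⊓ Y).index = 30705480 := Nat.eq_of_mul_eq_mul_left (by norm_num : 0 < 161280) (h8.trans (by norm_num))
    rw [h9] at h5
    exact absurd (h5.trans h6) (by norm_num)
  · have h4 : pt v ≤ St D := by
      rw [← h3]
      exact inf_le_right
    have h5 := (hO.ani D hD2 fun u hu => hP u (hDf hu)).trans (Subgroup.index_dvd_of_le h4)
    rw [(hO.ns v hv).2] at h5
    exact absurd h5 (by norm_num)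

end Cfsg.Agent.SM.O8.T3
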