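import Cfsg.Agent.SM.O8.Three.Defs

/-!
# SM, `S = PΩ⁺₈(3)`: frames (helper64)

* `co v e : W8 →ₗ V₃` : coordinates for the orthogonal basis `v, e₀, …, e₆` (`Fr.polar_co`, `Fr.Q_co`, `Fr.inj`, `Fr.surj`);
* `Rl v e g` : the map `g` of the coordinates is induced by an element of `Ω` (`Fr.rl_refl`, `Fr.rl_sgn`, `Fr.rl_perm`);
* `mem_FS`, `Fr.exists_perm` (the action on the seven points), `Fr.card_dvd`, `Fr.move`, `le_relIndex`.
-/

set_option autoImplicit false

namespace Cfsg.Agent.SM.O8.T3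

open Module QuadraticMap Cfsg Equiv Matrix Subgroup Cfsg.Agent.LieClassical.OrthCore Cfsg.Agent.LieClassical.OrthTrans
open Cfsg.Agent.H708.O8 (I8 T8)
open Cfsg.Agent.H823.O8S (mk8 gl8 mk8_eq mk8_eq_one)
open Cfsg.Agent.H198.Carriers (plusQ)

/-- the coordinates -/
abbrev W8 : Type := Fin 8 → F₃

/-- the basis -/
def bs (v : V₃) (e : Fin 7 → V₃) : Fin 8 → V₃ := Fin.cons v e

/-- the vector with given coordinates -/
def co (v : V₃) (e : Fin 7 → V₃) : W8 →ₗ[F₃] V₃ := Fintype.linearCombination F₃ (bs v e)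

variable {v : V₃} {e : Fin 7 → V₃}

theorem co_single (i : Fin 8) : co v e (Pi.single i 1) = bs v e i := by
  rw [co, Fintype.linearCombination_apply_single, one_smul]

theorem co_zero : co v e (Pi.single 0 1) = v := co_single 0

theorem co_succ (i : Fin 7) : co v e (Pi.single i.succ 1) = e i := co_single _

theorem polar_self' (x : V₃) : polar Q₃ x x = 2 * Q₃ x := (polar_self (plusQ 4 F₃) x).trans (by rw [two_smul, two_mul]; rfl)

theorem two_ne : (2 : F₃) ≠ 0 := by decide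

theorem Fr.polar_bs (h : Fr v e) (i j : Fin 8) : polar Q₃ (bs v e i) (bs v e j) = if i = j then 2 * Q₃ v else 0 := by
  refine Fin.cases ?_ (fun i => ?_) i <;> refine Fin.cases ?_ (fun j => ?_) j
  · exact (polar_self' v).trans (if_pos rfl).symm
  · exact (h.ov j).trans (if_neg (Fin.succ_ne_zero j).symm).symm
  · exact ((polar_comm _ _ _).trans (h.ov i)).trans (if_neg (Fin.succ_ne_zero i)).symm
  · by_cases k : i = j
    · rw [k, if_pos rfl]
      exact (polar_self' _).trans (congrArg _ (h.nrm j))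
    · exact (h.oe i j k).trans (if_neg fun k' => k (Fin.succ_injective _ k')).symm

theorem Fr.polar_co (h : Fr v e) (x y : W8) : polar Q₃ (co v e x) (co v e y) = 2 * Q₃ v * (x ⬝ᵥ y) := by
  show polarBilin (plusQ 4 F₃) (co v e x) (co v e y) = _
  simp only [co, Fintype.linearCombination_apply, map_sum, LinearMap.sum_apply, map_smul, LinearMap.smul_apply,
    polarBilin_apply_apply, smul_eq_mul]
  rw [dotProduct, Finset.mul_sum]
  refine Finset.sum_congr rfl fun i _ => ?_
  rw [Finset.sum_eq_single i (fun j _ k => ?_) fun k => absurd (Finset.mem_univ i) k]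
  · rw [show polar (plusQ 4 F₃) (bs v e i) (bs v e i) = _ from h.polar_bs i i, if_pos rfl]
    ring
  · rw [show polar (plusQ 4 F₃) (bs v e j) (bs v e i) = _ from h.polar_bs j i, if_neg k]
    simp only [mul_zero]

theorem Fr.Q_co (h : Fr v e) (x : W8) : Q₃ (co v e x) = Q₃ v * (x ⬝ᵥ x) :=
  mul_left_cancel₀ two_ne (by rw [← polar_self', h.polar_co, mul_assoc])

theorem Fr.polar_eq_zero (h : Fr v e) {x y : W8} : polar Q₃ (co v e x) (co v e y) = 0 ↔ x ⬝ᵥ y = 0 := by
  rw [h.polar_co, mul_eq_zero, or_iff_right (mul_ne_zero two_ne h.nv)]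

theorem Fr.Q_eq (h : Fr v e) {x : W8} : Q₃ (co v e x) = Q₃ v ↔ x ⬝ᵥ x = 1 := by
  rw [h.Q_co, mul_eq_left₀ h.nv]

theorem Fr.inj (h : Fr v e) : Function.Injective (co v e) := (injective_iff_map_eq_zero _).2 fun x hx => funext fun i => by
  have h1 := (h.polar_eq_zero (x := x) (y := Pi.single i 1)).1 (by rw [hx]; exact polar_zero_left (plusQ 4 F₃) _)
  rwa [dotProduct_single_one] at h1

theorem Fr.surj (h : Fr v e) : Function.Surjective (co v e) :=
  (LinearMap.injective_iff_surjective_of_finrank_eq_finrank (by simp)).1 h.inj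

/-- two elements of `Ω` which agree on the basis -/
theorem Fr.ext (h : Fr v e) {y y' : Om F₃} (h0 : ln y v = ln y' v) (h1 : ∀ i, ln y (e i) = ln y' (e i)) : y = y' :=
  om_ext fun w => by
    obtain ⟨x, rfl⟩ := h.surj w
    simp only [co, Fintype.linearCombination_apply, map_sum, map_smul]
    exact Finset.sum_congr rfl fun i _ => congrArg _ (Fin.cases h0 h1 i)

/-! ### elements of `Ω` in coordinates -/

/-- `g` is induced by an element of `Ω` -/
def Rl (v : V₃) (e : Fin 7 → V₃) (g : W8 → W8) : Prop := ∃ y : Om F₃, ∀ x, ln y (co v e x) = co v e (g x)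

theorem Rl.id : Rl v e id := ⟨1, fun _ => ln_one _⟩

theorem Rl.comp {g g' : W8 → W8} (h : Rl v e g) (h' : Rl v e g') : Rl v e (g ∘ g') := by
  obtain ⟨y, hy⟩ := h
  obtain ⟨y', hy'⟩ := h'
  exact ⟨y * y', fun x => by rw [ln_mul, hy', hy]; rfl⟩

/-- the reflection in `a` -/
def rfl8 (a x : W8) : W8 := x + (a ⬝ᵥ a * (a ⬝ᵥ x)) • a

theorem Fr.refl_co (h : Fr v e) {a : W8} (ha : plusQ 4 F₃ (co v e a) ≠ 0) (x : W8) :
    refl (plusQ 4 F₃) (co v e a) ha (co v e x) = co v e (rfl8 a x) := by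
  have h1 : Q₃ v * (a ⬝ᵥ a) ≠ 0 := by rw [← h.Q_co]; exact ha
  rw [LieClassical.OrthCore.refl_apply, rfl8, map_add, map_smul, sub_eq_add_neg, ← neg_smul,
    show polar (plusQ 4 F₃) (co v e a) (co v e x) = _ from h.polar_co a x, show plusQ 4 F₃ (co v e a) = _ from h.Q_co a]
  congr 2
  revert h1
  generalize Q₃ v = k
  generalize a ⬝ᵥ a = n
  generalize a ⬝ᵥ x = m
  revert k n m
  decide +kernel

/-- products of two reflections of the same norm -/
theorem Fr.rl_refl (h : Fr v e) {a b : W8} (ha : a ⬝ᵥ a ≠ 0) (hab : a ⬝ᵥ a = b ⬝ᵥ b) : Rl v e (rfl8 b ∘ rfl8 a) := by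
  have h1 : plusQ 4 F₃ (co v e a) ≠ 0 := (h.Q_co a).trans_ne (mul_ne_zero h.nv ha)
  have h2 : plusQ 4 F₃ (co v e a) = plusQ 4 F₃ (co v e b) := (h.Q_co a).trans (hab ▸ (h.Q_co b).symm)
  obtain ⟨y, hy⟩ := exists_ln (good8.refl_mul_refl_mem h1 (h2 ▸ h1) h2)
  exact ⟨y, fun x => by rw [hy, LinearEquiv.mul_apply, h.refl_co, h.refl_co]; rfl⟩

theorem rfl8_single (i : Fin 8) (x : W8) : rfl8 (Pi.single i 1) x = Function.update (1 : W8) i (-1) * x := funext fun j => by
  rw [rfl8, single_one_dotProduct, single_one_dotProduct, Pi.single_eq_same, Pi.add_apply, Pi.smul_apply, Pi.mul_apply]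
  by_cases k : j = i
  · rw [k, Pi.single_eq_same, Function.update_self]
    generalize x i = t
    revert t
    decide
  · rw [Pi.single_eq_of_ne k, Function.update_of_ne k]
    simp

theorem Fr.rl_pair (h : Fr v e) (i j : Fin 8) :
    Rl v e fun x => (Function.update (1 : W8) i (-1) * Function.update (1 : W8) j (-1) : W8) * x := by
  have h1 := h.rl_refl (a := Pi.single j 1) (b := Pi.single i 1) (by simp) (by simp)
  rwa [show rfl8 (Pi.single i 1) ∘ rfl8 (Pi.single j 1) = _ from funext fun x => by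
    rw [Function.comp_apply, rfl8_single, rfl8_single, ← mul_assoc]] at h1

/-- **even sign changes** -/
theorem Fr.rl_sgn (h : Fr v e) {d : W8} (h1 : ∀ i, d i = 1 ∨ d i = -1) (h2 : ∏ i, d i = 1) : Rl v e fun x => d * x := by
  have h3 : ∀ s : Finset (Fin 8), Rl v e fun x =>
      (∏ i ∈ s, (Function.update (1 : W8) i (d i) * Function.update (1 : W8) 0 (d i) : W8)) * x := fun s => by
    refine Finset.prod_induction _ (fun c : W8 => Rl v e fun x => c * x) (fun a b ha hb => ?_) ?_ fun i _ => ?_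
    · simp only [mul_assoc]
      exact ha.comp hb
    · simp only [one_mul]
      exact Rl.id
    · rcases h1 i with k | k <;> rw [k]
      · simp only [show ∀ j, Function.update (1 : W8) j 1 = 1 from fun j => Function.update_eq_self j _, one_mul]
        exact Rl.id
      · exact h.rl_pair i 0
  have h4 := h3 Finset.univ
  rwa [show (∏ i, (Function.update (1 : W8) i (d i) * Function.update (1 : W8) 0 (d i) : W8)) = d from funext fun j => by
    rw [Finset.prod_mul_distrib, Pi.mul_apply, Finset.prod_apply, Finset.prod_apply,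
      Finset.prod_eq_single j (fun i _ k => by rw [Function.update_of_ne k.symm]; rfl) fun k => absurd (Finset.mem_univ j) k,
      Function.update_self]
    by_cases k : j = 0
    · simp only [k, Function.update_self, h2, mul_one]
    · simp only [Function.update_of_ne k, Pi.one_apply, Finset.prod_const_one, mul_one]] at h4

theorem rfl8_swap {i j : Fin 8} (hij : i ≠ j) (x : W8) : rfl8 (Pi.single i 1 - Pi.single j 1) x = x ∘ swap i j :=
  funext fun k => by
    simp only [rfl8, sub_dotProduct, single_one_dotProduct, Pi.sub_apply, Pi.single_eq_same, Pi.single_eq_of_ne hij,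
      Pi.single_eq_of_ne hij.symm, Pi.add_apply, Pi.smul_apply, Function.comp_apply, smul_eq_mul]
    by_cases k1 : k = i
    · rw [k1, swap_apply_left, Pi.single_eq_same, Pi.single_eq_of_ne hij]
      generalize x i = s
      generalize x j = t
      revert s t
      decide
    by_cases k2 : k = j
    · rw [k2, swap_apply_right, Pi.single_eq_same, Pi.single_eq_of_ne hij.symm]
      generalize x i = s
      generalize x j = t
      revert s t
      decide
    · rw [swap_apply_of_ne_of_ne k1 k2, Pi.single_eq_of_ne k1, Pi.single_eq_of_ne k2]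
      simp

theorem Fr.rl_swap (h : Fr v e) {i j k l : Fin 8} (hij : i ≠ j) (hkl : k ≠ l) :
    Rl v e fun x => x ∘ ⇑(swap i j * swap k l) := by
  have h0 : ∀ {i j : Fin 8}, i ≠ j → (Pi.single i 1 - Pi.single j 1 : W8) ⬝ᵥ (Pi.single i 1 - Pi.single j 1) = 2 :=
    fun {i j} hij => by
      simp only [sub_dotProduct, single_one_dotProduct, Pi.sub_apply, Pi.single_eq_same, Pi.single_eq_of_ne hij,
        Pi.single_eq_of_ne hij.symm]
      decide
  have h1 := h.rl_refl ((h0 hij).trans_ne two_ne) ((h0 hij).trans (h0 hkl).symm)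
  rwa [show rfl8 _ ∘ rfl8 _ = _ from funext fun x => by rw [Function.comp_apply, rfl8_swap hij, rfl8_swap hkl]] at h1

/-- **even permutations** -/
theorem Fr.rl_perm (h : Fr v e) {σ : Perm (Fin 8)} (hσ : Perm.sign σ = 1) : Rl v e fun x => x ∘ σ := by
  have h0 : (0 : Fin 8) ≠ 1 := by decide
  have h1 : ∀ σ : Perm (Fin 8), (Perm.sign σ = 1 → Rl v e fun x => x ∘ σ) ∧
      (Perm.sign σ = -1 → Rl v e fun x => x ∘ ⇑(swap 0 1 * σ : Perm (Fin 8))) := fun σ => by
    induction σ using Perm.swap_induction_on with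
    | one => exact ⟨fun _ => Rl.id, fun k => absurd k (by decide)⟩
    | swap_mul f i j hij ih =>
      rw [map_mul, Perm.sign_swap hij, neg_one_mul]
      refine ⟨fun k => ?_, fun k => ?_⟩
      · rw [show swap i j * f = swap i j * swap 0 1 * (swap 0 1 * f) by rw [mul_assoc, swap_mul_self_mul]]
        exact (ih.2 (neg_eq_iff_eq_neg.1 k)).comp (h.rl_swap hij h0)
      · rw [← mul_assoc]
        exact (ih.1 (neg_injective k)).comp (h.rl_swap h0 hij)
  exact (h1 σ).1 hσ

/-! ### the frame stabiliser -/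

theorem sign_of (y y' : Om F₃) (h : mk8 F₃ y = mk8 F₃ y') : (∀ w, ln y w = ln y' w) ∨ ∀ w, ln y w = -ln y' w := by
  obtain ⟨c, hc⟩ := mk8_eq h
  rcases (by decide : ∀ c : F₃, c = 0 ∨ c = 1 ∨ c = -1) c with rfl | rfl | rfl
  · exact absurd (ln_injective y ((hc (fun _ => 1)).trans ((zero_smul _ _).trans (map_zero (ln y)).symm)))
      fun k => absurd (congrFun k (.inl 0)) (by decide)
  · exact .inl fun w => (hc w).trans (one_smul _ _)
  · exact .inr fun w => (hc w).trans (neg_one_smul _ _)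

theorem mem_SO {Z : Set V₃} {y : Om F₃} : y ∈ SO Z ↔ ∀ w ∈ Z, ln y w ∈ Z :=
  ⟨fun h w => (h w).1, fun h w => ⟨h w, fun k => by
    obtain ⟨w', h1, h2⟩ := (((Set.toFinite Z).injOn_iff_bijOn_of_mapsTo h).1 (ln_injective y).injOn).surjOn k
    exact ln_injective y h2 ▸ h1⟩⟩

theorem mk_mem_SO {Z : Set V₃} (hZ : ∀ w ∈ Z, -w ∈ Z) {y : Om F₃} :
    mk8 F₃ y ∈ (SO Z).map (mk8 F₃) ↔ ∀ w ∈ Z, ln y w ∈ Z := by
  refine ⟨fun ⟨y', h1, h2⟩ w hw => ?_, fun h => ⟨y, mem_SO.2 h, rfl⟩⟩
  rcases sign_of y y' h2.symm with k | k <;> rw [k]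
  exacts [mem_SO.1 h1 w hw, hZ _ (mem_SO.1 h1 w hw)]

theorem mem_FS {y : Om F₃} :
    mk8 F₃ y ∈ FS v e ↔ mk8 F₃ y ∈ pt v ∧ ∀ i, ∃ j, ln y (e i) = e j ∨ ln y (e i) = -e j := by
  refine and_congr_right fun _ => (mk_mem_SO ?_).trans ⟨fun h i => h _ ⟨i, .inl rfl⟩, ?_⟩
  · rintro _ ⟨i, rfl | rfl⟩
    exacts [⟨i, .inr rfl⟩, ⟨i, .inl (neg_neg _)⟩]
  · rintro h _ ⟨i, rfl | rfl⟩
    · exact h i
    · obtain ⟨j, k | k⟩ := h i
      exacts [⟨j, .inr (by rw [map_neg, k])⟩, ⟨j, .inl (by rw [map_neg, k, neg_neg])⟩]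

theorem Fr.eq_of (h : Fr v e) {i j : Fin 7} (k : e i = e j ∨ e i = -e j) : i = j := by
  by_contra k0
  have h1 := h.oe i j k0
  have h2 : polar Q₃ (e j) (e j) ≠ 0 := by rw [polar_self', h.nrm]; exact mul_ne_zero two_ne h.nv
  rcases k with k | k <;> rw [k] at h1
  · exact h2 h1
  · exact h2 (neg_eq_zero.1 ((polar_neg_left (plusQ 4 F₃) _ _).symm.trans h1))

/-- **the action on the seven points** -/
theorem Fr.exists_perm (h : Fr v e) : ∃ σ : (FS v e).comap (mk8 F₃) →* Perm (Fin 7),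
    ∀ y i, ln y.1 (e i) = e (σ y i) ∨ ln y.1 (e i) = -e (σ y i) := by
  choose s hs using fun (y : (FS v e).comap (mk8 F₃)) => (mem_FS.1 y.2).2
  refine ⟨MonoidHom.toHomPerm (G := (FS v e).comap (mk8 F₃)) ⟨⟨s, funext fun i => h.eq_of ?_⟩,
    fun a b => funext fun i => h.eq_of ?_⟩, hs⟩
  · have h1 := hs 1 i
    rw [OneMemClass.coe_one, ln_one] at h1
    exact h1.imp Eq.symm fun k => by rw [← neg_eq_iff_eq_neg]; exact k.symm
  · have h1 := hs (a * b) i
    rw [MulMemClass.coe_mul, ln_mul] at h1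
    show e (s (a * b) i) = e (s a (s b i)) ∨ e (s (a * b) i) = -e (s a (s b i))
    rcases hs b i with k | k <;> rcases hs a (s b i) with k' | k' <;> simp only [k, map_neg, k', neg_neg] at h1 <;>
      rcases h1 with h1 | h1 <;> first
        | exact .inl h1.symm | exact .inr h1.symm | exact .inr (neg_eq_iff_eq_neg.1 h1.symm) | exact .inl (neg_injective h1).symm

theorem finite_Om : Finite (Om F₃) := Finite.of_injective _ gl8_injective

theorem Fr.card_dvd (h : Fr v e) (ho : Nat.card (pt v) = 4585351680) : Nat.card (FS v e) ∣ 161280 := by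
  have := finite_Om
  obtain ⟨σ, hσ⟩ := h.exists_perm
  have h1 : IsPGroup 2 σ.ker := fun ⟨y, hy⟩ => ⟨1, Subtype.ext (Subtype.ext (h.ext ?_ fun i => ?_))⟩
  · obtain ⟨k, hk⟩ := IsPGroup.iff_card.1 h1
    have h2 : Nat.card (FS v e) ∣ 2 ^ k * 5040 := by
      refine (card_dvd_of_surjective ((mk8 F₃).subgroupComap (FS v e))
        ((mk8 F₃).subgroupComap_surjective_of_surjective _ mk8_surjective)).trans ?_
      rw [← σ.ker.card_mul_index, hk, index_ker]
      refine Nat.mul_dvd_mul_left _ ((card_subgroup_dvd_card _).trans ?_)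
      rw [Nat.card_perm, Nat.card_fin]
      decide
    have h3 : Nat.card (FS v e) ∣ 2 ^ 9 * (3 ^ 7 * 13 * 315) := (card_dvd_of_le inf_le_left).trans (by rw [ho]; norm_num)
    obtain ⟨a, b, ha, hb, hab⟩ := (Nat.dvd_mul ..).1 h3
    rw [← hab] at h2 ⊢
    refine Nat.mul_dvd_mul ha (show b ∣ 315 from Nat.Coprime.dvd_of_dvd_mul_left (m := 2 ^ k * 2 ^ 4) ?_ ?_)
    · rw [← pow_add]
      exact Nat.Coprime.pow_right _ (Nat.Coprime.coprime_dvd_left hb (by norm_num))
    · rw [mul_assoc]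
      exact (Dvd.intro_left a rfl).trans h2
  · show ln (y.1 ^ 2 ^ 1) v = ln 1 v
    rw [pow_one, pow_two, ln_mul, ln_one]
    rcases (mem_pt' h.nv).1 y.2.1 with k | k <;> simp only [k, map_neg, neg_neg]
  · show ln (y.1 ^ 2 ^ 1) (e i) = ln 1 (e i)
    have h2 := hσ y i
    rw [show σ y = 1 from hy, Perm.one_apply] at h2
    rw [pow_one, pow_two, ln_mul, ln_one]
    rcases h2 with k | k <;> simp only [k, map_neg, neg_neg]

theorem Fr.mem_perm (h : Fr v e) {σ : Perm (Fin 8)} (hσ : σ 0 = 0) {y : Om F₃} (hy : ∀ x, ln y (co v e x) = co v e (x ∘ σ)) :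
    mk8 F₃ y ∈ FS v e := by
  have h1 : ∀ i, ln y (bs v e i) = bs v e (σ.symm i) := fun i => by
    rw [← co_single, hy, ← co_single]
    exact congrArg _ (funext fun j => by simp only [Function.comp_apply, Pi.single_apply, eq_symm_apply])
  refine mem_FS.2 ⟨(mem_pt' h.nv).2 (.inl ((h1 0).trans (by rw [σ.symm_apply_eq.2 hσ.symm]; rfl))), fun i => ?_⟩
  obtain ⟨j, hj⟩ := Fin.exists_succ_eq.2 (show σ.symm i.succ ≠ 0 from fun k =>
    Fin.succ_ne_zero i ((σ.symm_apply_eq.1 k).trans hσ))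
  exact ⟨j, .inl ((h1 i.succ).trans (by rw [← hj]; rfl))⟩

theorem Fr.sgn_bs {d : W8} (h1 : ∀ i, d i = 1 ∨ d i = -1) {y : Om F₃} (hy : ∀ x, ln y (co v e x) = co v e (d * x))
    (i : Fin 8) : ln y (bs v e i) = bs v e i ∨ ln y (bs v e i) = -bs v e i := by
  have h2 : ln y (bs v e i) = d i • bs v e i := by
    rw [← co_single, hy, ← map_smul]
    exact congrArg _ (funext fun j => by
      by_cases k : j = i
      · rw [k]; rfl
      · simp [Pi.single_eq_of_ne k])
  rcases h1 i with k | k <;> rw [h2, k]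
  exacts [.inl (one_smul _ _), .inr (neg_one_smul _ _)]

theorem Fr.mem_sgn (h : Fr v e) {d : W8} (h1 : ∀ i, d i = 1 ∨ d i = -1) {y : Om F₃}
    (hy : ∀ x, ln y (co v e x) = co v e (d * x)) : mk8 F₃ y ∈ FS v e :=
  mem_FS.2 ⟨(mem_pt' h.nv).2 (Fr.sgn_bs h1 hy 0), fun i => ⟨i, Fr.sgn_bs h1 hy i.succ⟩⟩

theorem ln_pow_perm {σ : Perm (Fin 8)} {y : Om F₃} (hy : ∀ x, ln y (co v e x) = co v e (x ∘ σ)) :
    ∀ (n : ℕ) x, ln (y ^ n) (co v e x) = co v e (x ∘ ⇑(σ ^ n))
  | 0, x => ln_one _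
  | n + 1, x => by rw [pow_succ, ln_mul, hy, ln_pow_perm hy n, pow_succ']; rfl

theorem sign_of_odd {α : Type} [Fintype α] [DecidableEq α] {σ : Perm α} {n : ℕ} (hn : Odd n) (h : σ ^ n = 1) :
    Perm.sign σ = 1 := by
  have h1 := congrArg Perm.sign h
  rw [map_pow, map_one] at h1
  rcases Int.units_eq_one_or (Perm.sign σ) with k | k
  · exact k
  · rw [k, hn.neg_one_pow] at h1
    exact absurd h1 (by decide)

/-- equal up to sign -/
def Pm (a b : V₃) : Prop := a = b ∨ a = -b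

theorem Pm.symm {a b : V₃} (h : Pm a b) : Pm b a := h.imp Eq.symm fun k => by rw [k, neg_neg]

theorem Pm.trans {a b c : V₃} (h : Pm a b) (k : Pm b c) : Pm a c := by
  rcases h with rfl | rfl <;> rcases k with rfl | rfl
  exacts [.inl rfl, .inr rfl, .inr rfl, .inl (neg_neg _)]

theorem Pm.ln {a b : V₃} (h : Pm a b) (y : Om F₃) : Pm (ln y a) (ln y b) := by
  rcases h with rfl | rfl
  exacts [.inl rfl, .inr (map_neg _ _)]

theorem Pm.polar {a a' b b' : V₃} (h : Pm a a') (k : Pm b b') (h0 : polar Q₃ a' b' = 0) : polar Q₃ a b = 0 := by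
  have h1 : ∀ x y, QuadraticMap.polar Q₃ (-x) y = -QuadraticMap.polar Q₃ x y := polar_neg_left (plusQ 4 F₃)
  have h2 : ∀ x y, QuadraticMap.polar Q₃ x (-y) = -QuadraticMap.polar Q₃ x y := polar_neg_right (plusQ 4 F₃)
  rcases h with rfl | rfl <;> rcases k with rfl | rfl <;> simp only [h1, h2, h0, neg_zero]

theorem Pm.pt {a b : V₃} (h : Pm a b) : pt a = pt b := by
  rcases h with rfl | rfl
  exacts [rfl, by rw [← neg_one_smul F₃ b, pt_smul (by decide)]]

theorem Fr.pm (h : Fr v e) {x y : W8} : Pm (co v e x) (co v e y) ↔ x = y ∨ x = -y := by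
  rw [Pm, ← map_neg, h.inj.eq_iff, h.inj.eq_iff]

/-- the image of a frame -/
theorem Fr.move (h : Fr v e) (y : Om F₃) : Fr (ln y v) fun i => ln y (e i) :=
  ⟨by rw [Q_ln]; exact h.nv, fun i => by rw [Q_ln, Q_ln, h.nrm], fun i => by rw [polar_ln, h.ov],
    fun i j k => by rw [polar_ln, h.oe i j k]⟩

theorem conj_mem_FS {y g : Om F₃} : mk8 F₃ g ∈ FS (ln y v) (fun i => ln y (e i)) ↔ mk8 F₃ (y⁻¹ * g * y) ∈ FS v e := by
  have h : ∀ a b, ln (y⁻¹ * g * y) a = b ↔ ln g (ln y a) = ln y b := fun a b => by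
    rw [ln_mul, ln_mul, ← (ln_injective y).eq_iff, ln_apply_inv]
  simp only [mem_FS, mem_pt, h, map_smul, map_neg]

/-- lower bounds for the orbit of a point -/
theorem le_relIndex {x : V₃} (hx : Q₃ x ≠ 0) {K : Subgroup G₃} {ι : Type} (y : ι → Om F₃) (hy : ∀ i, mk8 F₃ (y i) ∈ K)
    (h : ∀ i j, ln (y i) x = ln (y j) x ∨ ln (y i) x = -ln (y j) x → i = j) : Nat.card ι ≤ (pt x).relIndex K := by
  have := finite_Om
  have : Finite G₃ := Finite.of_surjective _ mk8_surjective
  refine Nat.card_le_card_of_injective (fun i => (QuotientGroup.mk ⟨_, hy i⟩ : K ⧸ (pt x).subgroupOf K)) fun i j k => ?_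
  have h1 : mk8 F₃ ((y j)⁻¹ * y i) ∈ pt x := by
    rw [map_mul, map_inv]
    exact mem_subgroupOf.1 (QuotientGroup.eq.1 k.symm)
  rw [mem_pt' hx, ln_mul, ← (ln_injective (y j)).eq_iff, ← (ln_injective (y j)).eq_iff (b := -x), ln_apply_inv, map_neg] at h1
  exact h i j h1

end Cfsg.Agent.SM.O8.T3
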