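import Cfsg.Agent.SM.O8.Three.Defs
import Cfsg.Agent.SM.O8.G34
import Cfsg.Agent.H708.O8.Par

/-!
# SM, `S = PΩ⁺₈(3)`: the geometric classes for the prime 13, `boxG13_of` (helper41)
-/

set_option autoImplicit false
set_option linter.unusedSectionVars false
set_option maxHeartbeats 400000

namespace Cfsg.Agent.SM.O8.T3

open Module QuadraticMap Cfsg Cfsg.Geo Cfsg.Agent.LieClassical.OrthCore Cfsg.Agent.H955 Cfsg.Agent.H954.TSing
open Cfsg.Agent.LieClassical.OmegaReindex
open Cfsg.Agent.H951 (fx cm Inv)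
open Cfsg.Agent.H884.El
open Cfsg.Agent.H708.O8 (I8 T8 XX tr ts_XX finrank_XX even_three even_of_omega tr_inf finrank_tr ts_tr)
open Cfsg.Agent.H683.O8R (inv_of_fix tensor_t)
open Cfsg.Agent.H823.O8S (mk8 gl8 SW)
open scoped MatrixGroups Matrix

namespace G13

section gen

variable {F : Type} [Field F] [Fintype F]

theorem qp (v : I8 → F) : quadPlus 4 F v = quadFormPlus 4 F v := congrFun (coe_quadPlus 4 F) v

theorem nd8 : Nondeg (quadPlus 4 F) := nondeg_iff.2 quadPlus_nondegenerate

/-- `Ω` keeps the family of a maximal totally singular subspace -/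
theorem even_inf {W : Submodule F (I8 → F)} (h4 : finrank F W = 4) (hW : ∀ w ∈ W, quadFormPlus 4 F w = 0) (y : Om F) :
    Even (finrank F ↥(W ⊓ tr (gl8 F y) W)) := by
  have hy : gl8 F y ∈ isometryGroup F (quadFormPlus 4 F) := (y : isometryGroup F (quadFormPlus 4 F)).2
  have ho : gl8 F y ∈ omegaGL (quadFormPlus 4 F) := ⟨y, y.2, rfl⟩
  have h1 := even_three (finrank_XX (F := F)) h4 ((finrank_tr (gl8 F y) W).trans h4) ts_XX hW (ts_tr hy hW)
  have h2 := even_three (finrank_XX (F := F)) ((finrank_tr (gl8 F y) _).trans finrank_XX) ((finrank_tr (gl8 F y) W).trans h4)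
    ts_XX (ts_tr hy ts_XX) (ts_tr hy hW)
  have h3 := even_of_omega ho
  rw [← tr_inf, finrank_tr] at h2
  obtain ⟨a, ha⟩ := h1
  obtain ⟨b, hb⟩ := h2
  obtain ⟨c, hc⟩ := h3
  exact ⟨a + c - b, by omega⟩

/-- a totally singular subspace lies in one of dimension four -/
theorem exists_four {U : Submodule F (I8 → F)} (h3 : finrank F U ≤ 4) (hU : ∀ w ∈ U, quadFormPlus 4 F w = 0) :
    ∃ W : Submodule F (I8 → F), U ≤ W ∧ finrank F W = 4 ∧ ∀ w ∈ W, quadFormPlus 4 F w = 0 := by
  obtain ⟨U', hU', hd⟩ : ∃ U' : Submodule F (I8 → F), U' ≤ XX F ∧ finrank F U' = finrank F U := by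
    obtain ⟨f, hf⟩ := exists_linearIndependent_of_le_finrank (R := F) (M := XX F) (n := finrank F U)
      (by rw [finrank_XX]; exact h3)
    have h1 := hf.map' (XX F).subtype (Submodule.ker_subtype _)
    refine ⟨Submodule.span F (Set.range _), Submodule.span_le.2 ?_, (finrank_span_eq_card h1).trans (Fintype.card_fin _)⟩
    rintro _ ⟨i, rfl⟩
    exact (f i).2
  let φ : U ≃ₗ[F] U' := LinearEquiv.ofFinrankEq _ _ hd.symm
  obtain ⟨g, hg, hgx⟩ := Cfsg.Agent.ClassicalGeometry.WittQuad.extend (quadPlus 4 F) quadPlus_nondegenerate U U' φ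
    (fun x => by rw [qp, qp, hU _ x.2, ts_XX _ (hU' (φ x).2)])
  refine ⟨(XX F).map (g.symm : (I8 → F) →ₗ[F] (I8 → F)), fun u hu => ⟨g u, ?_, g.symm_apply_apply u⟩,
    (LinearEquiv.finrank_map_eq g.symm _).trans finrank_XX, ?_⟩
  · have := hgx ⟨u, hu⟩
    change g u = _ at this
    rw [this]
    exact hU' (φ ⟨u, hu⟩).2
  · rintro _ ⟨x, hx, rfl⟩
    have := hg (g.symm x)
    rw [g.apply_symm_apply, qp, qp] at this
    exact this.symm.trans (ts_XX x hx)

theorem St_three {U : Submodule F (I8 → F)} (h3 : finrank F U = 3) (hU : ∀ w ∈ U, quadFormPlus 4 F w = 0) :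
    ∃ W : Submodule F (I8 → F), finrank F W = 4 ∧ (∀ w ∈ W, quadFormPlus 4 F w = 0) ∧ St U ≤ St W := by
  obtain ⟨W, hUW, h4, hW⟩ := exists_four (by omega) hU
  refine ⟨W, h4, hW, fun x hx => ?_⟩
  obtain ⟨y, rfl⟩ := mk8_surjective x
  have h1 : U.map (ln y) = U := by
    apply Submodule.eq_of_le_of_finrank_eq
    · rintro _ ⟨w, hw, rfl⟩
      exact mem_St.1 hx w hw
    · exact finrank_tr (gl8 F y) U
  have h2 : U ≤ W ⊓ tr (gl8 F y) W := le_inf hUW (by
    rw [← h1]
    exact Submodule.map_mono hUW)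
  have h5 := Submodule.finrank_mono h2
  have h6 := Submodule.finrank_mono (inf_le_right : W ⊓ tr (gl8 F y) W ≤ tr (gl8 F y) W)
  have h7 := finrank_tr (gl8 F y) W
  obtain ⟨c, hc⟩ := even_inf h4 hW y
  have h8 : W ⊓ tr (gl8 F y) W = tr (gl8 F y) W := Submodule.eq_of_le_of_finrank_eq inf_le_right (by omega)
  refine mem_St.2 fun w hw => ?_
  have h9 : ln y w ∈ tr (gl8 F y) W := ⟨w, hw, rfl⟩
  rw [← h8] at h9
  exact h9.1

/-- a group of odd order which keeps the pair of totally singular subspaces acts faithfully on one of them -/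
theorem card_dvd_of_pair {D : Fin 2 → Submodule F (I8 → F)} (hD : IsMDecomposition 4 D)
    (hs : ∀ i, ∀ w ∈ D i, quadPlus 4 F w = 0) {P : Subgroup (GL I8 F)} (hP : P ≤ isometryGroup F (quadPlus 4 F))
    (hi : ∀ g ∈ P, ∀ i, Inv (lin g) (D i)) : Nat.card P ∣ Nat.card (GL (Fin 4) F) := by
  let φ : P →* Module.End F (D 0) :=
    { toFun := fun g => (lin g.1).restrict (hi g.1 g.2 0)
      map_one' := by
        refine LinearMap.ext fun w => Subtype.ext ?_
        change lin (1 : GL I8 F) w = w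
        rw [lin_one]
        rfl
      map_mul' := fun g h => by
        refine LinearMap.ext fun w => Subtype.ext ?_
        exact H823.O8S.lin_mul_apply g.1 h.1 w }
  have hinj : Function.Injective φ.toHomUnits := by
    rw [injective_iff_map_eq_one]
    intro g hg
    have h1 : ∀ w ∈ D 0, lin g.1 w = w := fun w hw =>
      congrArg Subtype.val (LinearMap.congr_fun (congrArg Units.val hg) ⟨w, hw⟩)
    have hpol : ∀ u v, polar (quadPlus 4 F) (lin g.1 u) (lin g.1 v) = polar (quadPlus 4 F) u v := fun u v => by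
      simp only [polar, ← map_add, lin_iso hP g.2]
    have htop : D 0 ⊔ D 1 = ⊤ := by
      rw [← hD.iSup_eq_top]
      refine le_antisymm (sup_le (le_iSup D 0) (le_iSup D 1)) (iSup_le fun i => ?_)
      fin_cases i
      exacts [le_sup_left, le_sup_right]
    have h2 : ∀ w ∈ D 1, lin g.1 w = w := fun w hw => by
      refine sub_eq_zero.1 (nd8 _ fun v => ?_)
      obtain ⟨a, ha, b, hb, rfl⟩ := Submodule.mem_sup.1 (htop ▸ Submodule.mem_top : v ∈ D 0 ⊔ D 1)
      have h3 : lin g.1 w - w ∈ D 1 := (D 1).sub_mem (hi g.1 g.2 1 w hw) hw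
      have h4 := Q_add (Q := quadPlus 4 F) (lin g.1 w - w) b
      rw [hs 1 _ ((D 1).add_mem h3 hb), hs 1 _ h3, hs 1 _ hb] at h4
      have h5 := hpol w a
      rw [h1 a ha] at h5
      rw [polar_add_right, polar_sub_left, h5]
      linear_combination -h4
    refine Subtype.ext (lin_injective (LinearMap.ext fun v => ?_))
    obtain ⟨a, ha, b, hb, rfl⟩ := Submodule.mem_sup.1 (htop ▸ Submodule.mem_top : v ∈ D 0 ⊔ D 1)
    rw [map_add, h1 a ha, h2 b hb]
    change _ = lin (1 : GL I8 F) _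
    rw [lin_one]
    rfl
  have h3 := Subgroup.card_dvd_of_injective _ hinj
  let b : Basis (Fin 4) F (D 0) := Module.finBasisOfFinrankEq F (D 0) (hD.finrank_eq 0)
  rwa [Nat.card_congr (Matrix.GeneralLinearGroup.toLin' b).toEquiv]

end gen

theorem card3 : Nat.card F₃ = 3 := Nat.card_zmod 3

theorem pp13 : PP (Nat.card F₃) 3 13 := by
  rw [card3]
  refine ⟨by norm_num, ?_⟩
  have : Fact (Nat.Prime 3) := ⟨by norm_num⟩
  exact orderOf_eq_prime (by decide) (by decide)

/-- the conclusion -/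
def Cc (R : Subgroup G₃) : Prop := ∃ (α : MulAut G₃) (u : V₃), u ≠ 0 ∧ Q₃ u = 0 ∧ im α R ≤ pt u

variable {R : Subgroup G₃}

/-- an element of order 13 -/
theorem exists13 (h : 13 ∣ Nat.card R) : ∃ y : Om F₃, mk8 F₃ y ∈ R ∧ y ^ 13 = 1 ∧ Iso (quadPlus 4 F₃) (ln y) 13 ∧
    finrank F₃ (fx (ln y)) = 2 := by
  obtain ⟨y, hy, hy13, hy1⟩ := exists_elt (by norm_num) (by decide) h
  have hi : Iso (quadPlus 4 F₃) (ln y) 13 := Iso.mk' pp13 (by norm_num)
    (by rw [← Can.ln_pow, hy13]; exact LinearMap.ext ln_one) fun v => by rw [qp, qp]; exact Q_ln y v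
  have h1 : ln y ≠ 1 := fun e => hy1 (by
    rw [om_ext (x := y) (y := 1) fun v => by rw [e, ln_one]; rfl, map_one])
  have hfin : finrank F₃ V₃ = 8 := H886.O8R.finrank_I8'
  obtain ⟨h2, -, -⟩ := hi.odd_case nd8 h1 pp13 (by decide) (hfin.le.trans_lt (by norm_num))
  have h3 : finrank F₃ (fx (ln y)) + finrank F₃ (cm (ln y)) = 8 := hi.finrank_add.trans hfin
  have h4 : finrank F₃ (cm (ln y)) = 2 * 3 := h2
  exact ⟨y, hy, hy13, hi, by omega⟩

theorem of_ts (h : 13 ∣ Nat.card R) {W : Submodule F₃ V₃} (h0 : W ≠ ⊥) (hs : Ts W) (hR : R ≤ St W) : Cc R := by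
  have four : ∀ W : Submodule F₃ V₃, finrank F₃ W = 4 → Ts W → R ≤ St W → Cc R := fun W h4 hs hR => by
    obtain ⟨α, u, hu0, hu, hα⟩ := boxTW F₃ W h4 hs
    exact ⟨α, u, hu0, hu, hα ▸ Subgroup.map_mono hR⟩
  have hfin : finrank F₃ V₃ = 8 := H886.O8R.finrank_I8'
  have h1 : 2 * finrank F₃ W ≤ 8 :=
    (two_mul_finrank_le (nd8 (F := F₃)) (U := W) fun w hw => (qp w).trans (hs w hw)).trans hfin.le
  have h2 : finrank F₃ W ≠ 0 := fun e => h0 (Submodule.finrank_eq_zero.1 e)
  have h3 : finrank F₃ W = 1 ∨ finrank F₃ W = 2 ∨ finrank F₃ W = 3 ∨ finrank F₃ W = 4 := by omega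
  rcases h3 with h3 | h3 | h3 | h3
  · obtain ⟨u, hu, hu0⟩ := (Submodule.ne_bot_iff W).1 h0
    have h4 : Submodule.span F₃ {u} = W := Submodule.eq_of_le_of_finrank_eq
      ((Submodule.span_singleton_le_iff_mem u W).2 hu) (by rw [finrank_span_singleton hu0, h3])
    exact ⟨1, u, hu0, hs u hu, by rw [im_one, pt, h4]; exact hR⟩
  · exfalso
    obtain ⟨y, hy, -, hi, hf⟩ := exists13 h
    have h4 : W ≤ fx (ln y) := hi.le_fx pp13 (mem_St.1 (hR hy)) (h3.le.trans_lt (by norm_num))
    have h5 : W = fx (ln y) := Submodule.eq_of_le_of_finrank_eq h4 (h3.trans hf.symm)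
    have h6 := nondeg_res_iff.1 (nondeg_fx nd8 hi.iso hi.ne0 hi.pow)
    rw [← h5] at h6
    obtain ⟨u, hu, hu0⟩ := (Submodule.ne_bot_iff W).1 h0
    refine hu0 (h6 u hu fun v hv => ?_)
    have h7 := Q_add (Q := quadPlus 4 F₃) u v
    rw [qp, qp, qp, hs _ (W.add_mem hu hv), hs _ hu, hs _ hv] at h7
    simpa using h7.symm
  · obtain ⟨W', h4, hs', hle⟩ := St_three h3 hs
    exact four W' h4 hs' (hR.trans hle)
  · exact four W h3 hs hR

theorem not_two (hO : BoxOrd) (h : 13 * 3 ^ 7 ∣ Nat.card R) {D : Submodule F₃ V₃} (hn : Nd D) (h2 : finrank F₃ D = 2)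
    (hR : R ≤ St D) : False := by
  have h1 := h.trans (Subgroup.card_dvd_of_le hR)
  by_cases ha : An D
  · have h3 := Nat.mul_dvd_mul h1 (hO.ani D h2 ha)
    rw [Subgroup.card_mul_index, hO.card] at h3
    exact absurd h3 (by norm_num)
  · exact absurd (h1.trans (hO.hyp D hn h2 ha)) (by norm_num)

theorem not_three (hO : BoxOrd) (h : 13 * 3 ^ 7 ∣ Nat.card R) {D : Submodule F₃ V₃} (hn : Nd D) (h3 : finrank F₃ D = 3)
    (hR : R ≤ St D) : False :=
  (hO.three D hn h3).2 (((dvd_mul_right 13 _).trans h).trans (Subgroup.card_dvd_of_le hR))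

theorem polar_self3 (v : V₃) : polar Q₃ v v = 2 * Q₃ v := by
  rw [← coe_quadPlus, polar_self, two_nsmul, two_mul]

theorem two_ne : (2 : F₃) ≠ 0 := by decide

/-- two perpendicular nonsingular vectors -/
theorem not_pair (hO : BoxOrd) (h : 13 * 3 ^ 7 ∣ Nat.card R) {v w : V₃} (hv : Q₃ v ≠ 0) (hw : Q₃ w ≠ 0)
    (hvw : polar Q₃ v w = 0) (hR : R ≤ pt v ⊓ pt w) : False := by
  have hwv : polar Q₃ w v = 0 := by rw [polar_comm]; exact hvw
  have hp : ∀ a b : F₃, polar Q₃ (a • v + b • w) v = a * (2 * Q₃ v) ∧ polar Q₃ (a • v + b • w) w = b * (2 * Q₃ w) := by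
    intro a b
    rw [← polar_self3, ← polar_self3]
    rw [← coe_quadPlus] at hvw hwv ⊢
    simp only [polar_add_left, polar_smul_left, hvw, hwv, smul_eq_mul, mul_zero, add_zero, zero_add, and_self]
  have key : ∀ a b : F₃, polar Q₃ (a • v + b • w) v = 0 → polar Q₃ (a • v + b • w) w = 0 → a = 0 ∧ b = 0 := fun a b h1 h2 =>
    ⟨(mul_eq_zero.1 ((hp a b).1.symm.trans h1)).resolve_right (mul_ne_zero two_ne hv),
      (mul_eq_zero.1 ((hp a b).2.symm.trans h2)).resolve_right (mul_ne_zero two_ne hw)⟩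
  have hli : LinearIndependent F₃ ![v, w] := LinearIndependent.pair_iff.2 fun a b e =>
    key a b (by rw [e, ← coe_quadPlus, polar_zero_left]) (by rw [e, ← coe_quadPlus, polar_zero_left])
  refine not_two hO h (D := Submodule.span F₃ {v, w}) (fun d hd hd' => ?_) ?_ fun x hx => ?_
  · obtain ⟨a, b, rfl⟩ := Submodule.mem_span_pair.1 hd
    obtain ⟨rfl, rfl⟩ := key a b (hd' v (Submodule.subset_span (by simp))) (hd' w (Submodule.subset_span (by simp)))
    simp
  · have := finrank_span_eq_card hli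
    rwa [Matrix.range_cons_cons_empty, Fintype.card_fin] at this
  · obtain ⟨y, rfl⟩ := mk8_surjective x
    obtain ⟨c, hc⟩ := mem_pt.1 (hR hx).1
    obtain ⟨c', hc'⟩ := mem_pt.1 (hR hx).2
    refine mem_St.2 fun d hd => ?_
    obtain ⟨a, b, rfl⟩ := Submodule.mem_span_pair.1 hd
    rw [map_add, map_smul, map_smul, hc, hc', smul_smul, smul_smul]
    exact Submodule.mem_span_pair.2 ⟨_, _, rfl⟩

/-- an element of order 13 does not keep a frame -/
theorem not_frame {v : V₃} {e : Fin 7 → V₃} (hf : Fr v e) (h : 13 ∣ Nat.card R) (hR : R ≤ FS v e) : False := by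
  obtain ⟨y, hy, hy13, hi, hfx⟩ := exists13 h
  obtain ⟨y', hy', e1⟩ := (hR hy).2
  obtain ⟨c, hc⟩ := H823.O8S.mk8_eq (y := y) (y' := y') e1.symm
  let Z : Set V₃ := {w | ∃ i, w = e i ∨ w = -e i}
  have hc' : ∀ w, ln y w = c • ln y' w := hc
  have hneg : ∀ w ∈ Z, -w ∈ Z := by
    rintro _ ⟨i, rfl | rfl⟩
    exacts [⟨i, Or.inr rfl⟩, ⟨i, Or.inl (neg_neg _)⟩]
  have hc3 : c = 1 ∨ c = -1 := by
    have h0 : c ≠ 0 := by
      rintro rfl
      have h1 := Q_ln y v
      rw [hc', zero_smul, ← qp, map_zero] at h1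
      exact hf.nv h1.symm
    exact (by decide : ∀ c : F₃, c ≠ 0 → c = 1 ∨ c = -1) c h0
  have hZ : ∀ w ∈ Z, ln y w ∈ Z := fun w hw => by
    have h1 : ln y' w ∈ Z := (hy' w).1 hw
    rw [hc']
    rcases hc3 with rfl | rfl
    · rwa [one_smul]
    · rw [neg_one_smul]
      exact hneg _ h1
  have he0 : ∀ i, polar Q₃ (e i) (e i) ≠ 0 := fun i => by
    rw [polar_self3, hf.nrm]
    exact mul_ne_zero two_ne hf.nv
  -- the induced map on the indices
  have hex : ∀ i, ∃ j, ln y (e i) = e j ∨ ln y (e i) = -e j := fun i => hZ _ ⟨i, Or.inl rfl⟩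
  choose s hs using hex
  have hpow : ∀ n i, (ln y ^ n) (e i) = e (s^[n] i) ∨ (ln y ^ n) (e i) = -e (s^[n] i) := by
    intro n
    induction n with
    | zero => exact fun i => Or.inl rfl
    | succ n ih =>
      intro i
      rw [pow_succ', Module.End.mul_apply, Function.iterate_succ_apply']
      rcases ih i with k | k <;> rcases hs (s^[n] i) with k' | k'
      · exact Or.inl (by rw [k, k'])
      · exact Or.inr (by rw [k, k'])
      · exact Or.inr (by rw [k, map_neg, k'])
      · exact Or.inl (by rw [k, map_neg, k', neg_neg])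
  have huniq : ∀ i j, (e i = e j ∨ e i = -e j) → i = j := fun i j k => by
    by_contra hne
    have h1 := hf.oe i j hne
    apply he0 j
    rcases k with k | k
    · rwa [k] at h1
    · rw [k, ← coe_quadPlus, polar_neg_left, neg_eq_zero] at h1
      rwa [← coe_quadPlus]
  have h13 : ∀ i, s^[13] i = i := fun i => by
    have h1 := hpow 13 i
    rw [hi.pow] at h1
    exact (huniq _ _ h1).symm
  have hfix : ∀ i, s i = i := fun i => by
    have h1 : Function.IsPeriodicPt s 13 i := h13 i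
    have h2 := h1.minimalPeriod_dvd
    have h3 : Function.minimalPeriod s i ≤ 7 := by
      have := Function.minimalPeriod_le_card (f := s) (x := i)
      simpa using this
    have h4 : Function.minimalPeriod s i = 1 := by
      rcases (Nat.dvd_prime (by norm_num : Nat.Prime 13)).1 h2 with k | k
      · exact k
      · omega
    exact Function.minimalPeriod_eq_one_iff_isFixedPt.1 h4
  have hfe : ∀ i, e i ∈ fx (ln y) := fun i => by
    have h1 : Inv (ln y) (Submodule.span F₃ {e i}) := fun w hw => by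
      obtain ⟨a, rfl⟩ := Submodule.mem_span_singleton.1 hw
      rw [map_smul]
      refine Submodule.smul_mem _ _ ?_
      have h2 := hs i
      rw [hfix] at h2
      rcases h2 with k | k <;> rw [k]
      exacts [Submodule.mem_span_singleton_self _, Submodule.neg_mem _ (Submodule.mem_span_singleton_self _)]
    have h0 : e i ≠ 0 := fun k => he0 i (by rw [k, ← coe_quadPlus, polar_zero_left])
    exact hi.le_fx pp13 h1 (by rw [finrank_span_singleton h0]; norm_num) (Submodule.mem_span_singleton_self _)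
  have hli : LinearIndependent F₃ e := by
    refine LinearMap.linearIndependent_of_isOrthoᵢ (B := polarBilin (quadPlus 4 F₃)) (fun i j hij => ?_) fun i k => he0 i ?_
    · have := hf.oe i j hij
      rw [← coe_quadPlus] at this
      exact this
    · rw [← coe_quadPlus]
      exact k
  have h5 := finrank_span_eq_card hli
  have h6 : Submodule.span F₃ (Set.range e) ≤ fx (ln y) := Submodule.span_le.2 (by rintro _ ⟨i, rfl⟩; exact hfe i)
  have h7 := Submodule.finrank_mono h6
  rw [h5, Fintype.card_fin] at h7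
  omega

theorem of_pt (hO : BoxOrd) (h7 : BoxM7) (h : 13 * 3 ^ 7 ∣ Nat.card R) (h5 : ¬ 5 ∣ Nat.card R) {v : V₃} (hv : Q₃ v ≠ 0)
    (hR : R ≤ pt v) : Cc R := by
  have h13 : 13 ∣ Nat.card R := (dvd_mul_right 13 _).trans h
  have hlt : R < pt v := lt_of_le_of_ne hR fun e => h5 (by rw [e, (hO.ns v hv).1]; norm_num)
  obtain ⟨M, hRM, hM⟩ := exists_le_covBy_of_lt hlt
  have hd := h.trans (Subgroup.card_dvd_of_le hRM)
  rcases h7 v hv M hM with ⟨D, h0, h3, ho, hD, e⟩ | ⟨e, hf, he⟩ | ⟨-, k⟩ | ⟨-, k⟩ | ⟨-, -, k⟩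
  · have hRD : R ≤ St D := hRM.trans (e ▸ inf_le_right)
    rcases hD with hD | hD
    · exact of_ts h13 h0 hD hRD
    · exfalso
      have h2 : finrank F₃ D ≠ 0 := fun e => h0 (Submodule.finrank_eq_zero.1 e)
      have h4 : finrank F₃ D = 1 ∨ finrank F₃ D = 2 ∨ finrank F₃ D = 3 := by omega
      rcases h4 with h4 | h4 | h4
      · obtain ⟨w, hw, hw0⟩ := (Submodule.ne_bot_iff D).1 h0
        have h6 : Submodule.span F₃ {w} = D := Submodule.eq_of_le_of_finrank_eq
          ((Submodule.span_singleton_le_iff_mem w D).2 hw) (by rw [finrank_span_singleton hw0, h4])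
        refine not_pair hO h hv (w := w) (fun k => hw0 (hD w hw fun d hd => ?_)) (ho w hw) (le_inf hR (by rw [pt, h6]; exact hRD))
        rw [← h6] at hd
        obtain ⟨a, rfl⟩ := Submodule.mem_span_singleton.1 hd
        have h8 := polar_self3 w
        rw [k, mul_zero] at h8
        rw [← coe_quadPlus] at h8 ⊢
        rw [polar_smul_right, h8, smul_zero]
      · exact not_two hO h hD h4 hRD
      · exact not_three hO h hD h4 hRD
  · exact (not_frame hf h13 (he ▸ hRM)).elim
  · exact absurd (hd.trans k) (by norm_num)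
  · rw [k] at hd
    exact absurd hd (by norm_num)
  · exact absurd ((dvd_mul_left _ _).trans hd) k

end G13

open G13 in
/-- **(9)** -/
theorem boxG13_of (hO : BoxOrd) (h7 : BoxM7) : BoxG13 := by
  intro R _ h h5
  have h13 : 13 ∣ Nat.card R := (dvd_mul_right 13 _).trans h
  have hH : pre Q₃ R ≤ isometryGroup F₃ Q₃ := pre_le
  have hd : 13 * 3 ^ 7 ∣ Nat.card (pre Q₃ R) := h.trans card_dvd_pre
  have hSt : ∀ W : Submodule F₃ V₃, pre Q₃ R ≤ subspaceStabilizer W → R ≤ St W := fun W hW x hx => by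
    obtain ⟨y, rfl⟩ := mk8_surjective x
    exact mem_St.2 (inv_of_mem (hW (gl_mem_pre.2 hx)))
  have hts := fun W h0 hs hW => of_ts (R := R) h13 (W := W) h0 hs (hSt W hW)
  have hpt := fun v hv hW => of_pt hO h7 h h5 (v := v) hv (hSt _ hW)
  have h2' := fun W hn h2 hW => not_two hO h (D := W) hn h2 (hSt W hW)
  have h3' := fun W hn h3 hW => not_three hO h (D := W) hn h3 (hSt W hW)
  change InOrthogonalResidualClass (pre Q₃ R) ∨ Cc R
  generalize pre Q₃ R = H at hH hd hts hpt h2' h3' ⊢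
  have hr : 13 ∣ Nat.card H := (dvd_mul_right 13 _).trans hd
  have hQ : Nondeg (quadPlus 4 F₃) := nd8
  have hcoe : ⇑(quadPlus 4 F₃) = Q₃ := coe_quadPlus 4 F₃
  have hn : Fintype.card (Fin 4 ⊕ Fin 4) = 8 := by simp
  have hfin : finrank F₃ V₃ = 8 := H886.O8R.finrank_I8'
  have hH' := hH
  rw [← hcoe] at hH'
  have hP3 := pp13
  have hq := one_lt_q F₃
  by_cases hirr : ActsIrreducibly (matrixSet H)
  · rcases Cfsg.Agent.H925.orth_irreducible_fine (by omega) (Cfsg.Agent.H884.OddForm.isNondegenerate_of_nondeg _ hQ) hH' hirr with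
      ⟨t', k', D, htk, hD, hHD, -⟩ | ⟨k', D, hk', hD, hDs, hHD⟩ | ⟨s', K, hs', hsn, hK, hadj, hHK⟩ |
      ⟨n₁, n₂, e, P, -, -, -, h1, h1', h12, -, -, -, -, hHT⟩ | ⟨F₁, s', B, ζ, -, hs', hcard, hζ, hrat, hHF⟩ |
      ⟨s', m, E, hRH, -, hHR, habs, hR, hchar, hm, hsm, -, ht', -⟩ | ⟨k', t', e, P, E, hkt, hW⟩ | hS
    · exfalso
      have h2t := hD.decomp.decomp.two_le
      have hkpos := hD.decomp.decomp.pos
      rw [hn] at htk
      by_cases hk4 : k' < 3
      · have hrt := decomp_le hD.decomp.decomp hHD hP3 hk4 hr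
        have := Nat.mul_le_mul hrt hkpos
        omega
      · have ht2 : t' = 2 := by
          have h3 : t' < 3 := by
            by_contra hcon
            push Not at hcon
            have := Nat.mul_le_mul hcon (not_lt.1 hk4)
            omega
          omega
        subst ht2
        obtain rfl : k' = 4 := by omega
        refine G4.N4.kill hH hP3 hr ⟨D 0, nondeg_of_on (hD.decomp.nondegenerate 0),
          hD.decomp.decomp.finrank_eq 0, fun g hg => ?_, fun g hg m hm hgm => inv_of_fix hHD hg hm hgm 0⟩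
        obtain ⟨σ, hσ⟩ := hHD hg
        have h3 : ∀ w ∈ D 0, lin g w ∈ D (σ 0) := fun w hw => by
          rw [← hσ]
          exact Submodule.mem_map_of_mem hw
        by_cases h0 : σ 0 = 0
        · rw [h0] at h3
          exact Or.inl h3
        · exact Or.inr fun w hw u hu => hD.decomp.orthogonal 0 (σ 0) (Ne.symm h0) u hu _ (h3 w hw)
    · exfalso
      rw [hn] at hk'
      obtain rfl : k' = 4 := by omega
      have : Fact (Nat.Prime 3) := ⟨by norm_num⟩
      obtain ⟨P, hP⟩ := Sylow.exists_subgroup_card_pow_prime (G := H) 3 (n := 7) ((dvd_mul_left _ _).trans hd)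
      have h1 := card_dvd_of_pair hD hDs (P := P.map H.subtype) ((Subgroup.map_subtype_le P).trans hH') (by
        rintro _ ⟨g, hg, rfl⟩ i
        refine inv_of_fix hHD g.2 (r := 3 ^ 7) (by decide) ?_ i
        have h2 : (⟨g, hg⟩ : P) ^ 3 ^ 7 = 1 := by rw [← hP]; exact pow_card_eq_one'
        exact congrArg (fun x : P => ((x : H) : GL I8 F₃)) h2)
      rw [Subgroup.card_map_of_injective H.subtype_injective, hP, Matrix.card_GL_field, ZMod.card] at h1
      revert h1
      decide
    · exfalso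
      rw [hn] at hsn
      obtain rfl : s' = 2 := by
        have : s' ∣ 2 ^ 3 := hsn
        exact (Nat.prime_dvd_prime_iff_eq hs' Nat.prime_two).1 (hs'.dvd_of_dvd_pow this)
      exact no_quadratic_field hQ hH' hP3 (by decide) le_rfl (by rw [hn]; norm_num) hr hK hHK
    · exfalso
      obtain ⟨z, hzH, hziso, hzt, hz1⟩ := H884.El.exists_elt hH' hP3 (by omega) hr
      obtain ⟨J, c, d, hirr', hJ, hJz⟩ := tensor_t e P h1 h1' (by omega) (hHT hzH) hP3.prime hzt (H683.O8R.not_dvd_gl2 hP3)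
      have hJl : Matrix.toLin' J * Matrix.toLin' J = c • Matrix.toLin' J - d • (1 : Module.End F₃ V₃) := by
        apply LinearMap.ext
        intro v
        rw [Module.End.mul_apply, Matrix.toLin'_apply, Matrix.toLin'_apply, Matrix.mulVec_mulVec, hJ, Matrix.sub_mulVec,
          Matrix.smul_mulVec, Matrix.smul_mulVec, Matrix.one_mulVec]
        rfl
      refine hziso.no_quadratic hQ (lin_ne_one hz1) hP3 (by decide) le_rfl (hfin.le.trans_lt (by norm_num))
        (J := Matrix.toLin' J) ?_ (fun W hW => ?_)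
      · intro v
        rw [lin, Matrix.toLin'_apply, Matrix.toLin'_apply, Matrix.toLin'_apply, Matrix.toLin'_apply,
          Matrix.mulVec_mulVec, Matrix.mulVec_mulVec, hJz]
      · refine H823.O8R.even_of_irr (J := (Matrix.toLin' J).restrict hW) (c := c) (d := d) ?_ hirr'
        ext w : 2
        exact congrArg (fun g : Module.End F₃ V₃ => g w) hJl
    · exfalso
      rw [card3] at hcard
      have h1 := (Nat.Prime.eq_one_of_pow (hcard ▸ Nat.prime_three))
      exact hs'.one_lt.ne' h1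
    · exfalso
      have := symp_le hHR habs hR hm hsm ht' hP3 (by norm_num) hr
      rw [hn] at this
      omega
    · exfalso
      have h2k := hW.two_le_m
      have h2t := hW.two_le_t
      have hk3 : k' < 3 := by
        by_contra hcon
        push Not at hcon
        have h3 : 3 ^ 2 ≤ k' ^ t' := (Nat.pow_le_pow_left hcon 2).trans (Nat.pow_le_pow_right (by omega) h2t)
        omega
      have ht4 : t' < 4 := by
        by_contra hcon
        push Not at hcon
        have h3 : 2 ^ 4 ≤ k' ^ t' := (Nat.pow_le_pow_left h2k 4).trans (Nat.pow_le_pow_right (by omega) hcon)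
        omega
      rcases H251.GeoCard.wreath e P hP3.prime (hP3.not_dvd (by omega))
        (hr.trans (Subgroup.card_dvd_of_le hW.wreath)) with h | h
      · omega
      · have := le_of_div hP3 (one_lt_q F₃).le h
        omega
    · exact Or.inl hS
  · rcases Cfsg.Agent.H925.reducible_cases (Cfsg.Agent.H884.OddForm.isNondegenerate_of_nondeg _ hQ) hH' hirr with
      ⟨W, hW0, hWs, hHW⟩ | ⟨W, hW0, hWn, hd', hHW⟩ | ⟨h20, -⟩
    · exact Or.inr (hts W hW0 (fun w hw => (qp w).symm.trans (hWs w hw)) hHW)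
    · rw [hn] at hd'
      have hN : Nd W := by
        have := nondeg_res_iff.1 (nondeg_of_on hWn)
        rw [hcoe] at this
        exact this
      have h2 : finrank F₃ W ≠ 0 := fun e => hW0 (Submodule.finrank_eq_zero.1 e)
      have h4 : finrank F₃ W = 1 ∨ finrank F₃ W = 2 ∨ finrank F₃ W = 3 ∨ finrank F₃ W = 4 := by
        have : 2 * finrank F₃ W ≤ 8 := hd'
        omega
      rcases h4 with h4 | h4 | h4 | h4
      · obtain ⟨w, hw, hw0⟩ := (Submodule.ne_bot_iff W).1 hW0
        have h6 : Submodule.span F₃ {w} = W := Submodule.eq_of_le_of_finrank_eq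
          ((Submodule.span_singleton_le_iff_mem w W).2 hw) (by rw [finrank_span_singleton hw0, h4])
        refine Or.inr (hpt w (fun k => hw0 (hN w hw fun d hd => ?_)) (by rw [h6]; exact hHW))
        rw [← h6] at hd
        obtain ⟨a, rfl⟩ := Submodule.mem_span_singleton.1 hd
        have h8 := polar_self3 w
        rw [k, mul_zero] at h8
        rw [← coe_quadPlus] at h8 ⊢
        rw [polar_smul_right, h8, smul_zero]
      · exact (h2' W hN h4 hHW).elim
      · exact (h3' W hN h4 hHW).elim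
      · exact (G4.N4.kill hH hP3 hr ⟨W, nondeg_of_on hWn, h4, fun g hg => Or.inl (inv_of_mem (hHW hg)),
          fun g hg _ _ _ => inv_of_mem (hHW hg)⟩).elim
    · exact absurd h20 two_ne

end Cfsg.Agent.SM.O8.T3
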