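import Cfsg.Agent.SM.O8.Three.Defs

/-!
# SM (S3570), socle `PΩ⁺₈(3)`: box (10), the parabolic second factor (helper30)
-/

set_option autoImplicit false
set_option linter.unusedSectionVars false
set_option maxHeartbeats 200000

namespace Cfsg.Agent.SM.O8.T3

open Module QuadraticMap Cfsg Cfsg.Geo Cfsg.Agent.LieClassical.OrthCore Cfsg.Agent.LieClassical.OrthTrans
open Cfsg.Agent.H951 (fx cm mem_fx)
open Cfsg.Agent.H884.El (lin PP Iso)
open Cfsg.Agent.H708.O8 (I8 T8)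
open Cfsg.Agent.H823.O8S (mk8 gl8)
open Cfsg.Agent.H198.Carriers (plusQ neutral_plusQ)
open Cfsg.Agent.H198.Classes (Lag par par_mul kappa_eq img gamO polar_of_ts mem_of_orth finrank_le_of_ts lag_base base
  polarBilin_nondegenerate)
open Cfsg.Agent.H955 (perp res mem_perp mem_perp' nondeg_res_iff finrank_add_perp perp_perp)
open Cfsg.Agent.ClassicalGeometry.OrthSemi (Gam)

namespace Hex

section gen

variable {F : Type} [Field F] [Fintype F]

/-- totally singular 4-spaces -/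
abbrev L4 (W : Submodule F (I8 → F)) : Prop := Lag (plusQ 4 F) 4 W

theorem gm_img (M : Gam (plusQ 4 F)) (W : Submodule F (I8 → F)) : gm M W = img M W := by
  ext v
  exact ⟨fun h => ⟨_, h, gam_apply_inv M v⟩, fun ⟨u, hu, e⟩ => e ▸ apply_mem_gm.2 hu⟩

theorem l4_gm (M : Gam (plusQ 4 F)) {W : Submodule F (I8 → F)} (h : L4 W) : L4 (gm M W) :=
  gm_img M W ▸ H198.Classes.lag_img M h

theorem finrank_perp1 {a : I8 → F} (ha : a ≠ 0) : finrank F (perp (plusQ 4 F) (Submodule.span F {a})) = 7 := by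
  have h := finrank_add_perp (good8 (F := F)).nondeg (Submodule.span F {a})
  rw [finrank_span_singleton ha, Can.dim8] at h
  omega

theorem mem_perp1 {a w : I8 → F} : w ∈ perp (plusQ 4 F) (Submodule.span F {a}) ↔ polar (plusQ 4 F) a w = 0 := by
  refine ⟨fun h => mem_perp.1 h a (Submodule.mem_span_singleton_self a), fun h => mem_perp.2 fun x hx => ?_⟩
  obtain ⟨c, rfl⟩ := Submodule.mem_span_singleton.1 hx
  rw [polar_smul_left, h, smul_zero]

theorem inf_ge (A B : Submodule F (I8 → F)) : finrank F A + finrank F B ≤ finrank F ↥(A ⊓ B) + 8 := by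
  have h1 := Submodule.finrank_sup_add_finrank_inf_eq A B
  have h2 := Submodule.finrank_le (A ⊔ B)
  rw [Can.dim8] at h2
  omega

/-- Siegel elements -/
theorem sg {a w : I8 → F} (ha : plusQ 4 F a = 0) (hw : polar (plusQ 4 F) a w = 0) :
    ∃ y : Om F, (∀ W : Submodule F (I8 → F), (∀ x ∈ W, plusQ 4 F x = 0) → a ∈ W → mk8 F y ∈ St W) ∧ ∀ v, ln y v =
      v + polar (plusQ 4 F) a v • w - polar (plusQ 4 F) w v • a - (plusQ 4 F w * polar (plusQ 4 F) a v) • a := by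
  obtain ⟨y, hy⟩ := Can.exE (siegel_mem_E ha hw)
  refine ⟨y, fun W hW haW => mem_St.2 fun x hx => ?_, fun v => (hy v).trans (siegel_apply ha hw v)⟩
  rw [hy, siegel_apply, polar_of_ts hW haW hx, zero_smul, add_zero]
  exact W.sub_mem (W.sub_mem hx (W.smul_mem _ haW)) (W.smul_mem _ haW)

/-- a Siegel element which moves the point `u` -/
theorem mv {d u : I8 → F} (hd : plusQ 4 F d = 0) (hdu : polar (plusQ 4 F) d u = 0) (h : d ∉ Submodule.span F {u})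
    (hu : u ≠ 0) :
    ∃ y : Om F, (∀ W : Submodule F (I8 → F), (∀ x ∈ W, plusQ 4 F x = 0) → d ∈ W → mk8 F y ∈ St W) ∧ mk8 F y ∉ pt u := by
  obtain ⟨w, hw, hwu⟩ : ∃ w, polar (plusQ 4 F) d w = 0 ∧ polar (plusQ 4 F) w u ≠ 0 := by
    by_contra hc
    push Not at hc
    have h1 : u ∈ perp (plusQ 4 F) (perp (plusQ 4 F) (Submodule.span F {d})) := mem_perp.2 fun w hw => hc w (mem_perp1.1 hw)
    rw [perp_perp (good8 (F := F)).nondeg] at h1
    obtain ⟨c, rfl⟩ := Submodule.mem_span_singleton.1 h1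
    have hc0 : c ≠ 0 := fun k => hu (by rw [k, zero_smul])
    exact h (Submodule.mem_span_singleton.2 ⟨c⁻¹, by rw [smul_smul, inv_mul_cancel₀ hc0, one_smul]⟩)
  obtain ⟨y, h1, h2⟩ := sg hd hw
  refine ⟨y, h1, fun k => h ?_⟩
  have h3 := mem_St.1 k u (Submodule.mem_span_singleton_self u)
  rw [h2, hdu, zero_smul, add_zero, mul_zero, zero_smul, sub_zero] at h3
  have h4 := Submodule.sub_mem _ (Submodule.mem_span_singleton_self u) h3
  rw [sub_sub_cancel] at h4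
  exact (Submodule.smul_mem_iff _ hwu).1 h4

/-- a Siegel element which fixes `u` and moves the 4-space `W'` -/
theorem mvW {a u : I8 → F} (ha : plusQ 4 F a = 0) (hau : polar (plusQ 4 F) a u = 0) (hu : u ≠ 0)
    {W' : Submodule F (I8 → F)} (hW' : L4 W') (h : a ∉ W') :
    ∃ y : Om F, (∀ W : Submodule F (I8 → F), (∀ x ∈ W, plusQ 4 F x = 0) → a ∈ W → mk8 F y ∈ St W) ∧ mk8 F y ∈ pt u ∧
      mk8 F y ∉ St W' := by
  have ha0 : a ≠ 0 := fun k => h (k ▸ W'.zero_mem)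
  obtain ⟨x, hx, hax⟩ : ∃ x ∈ W', polar (plusQ 4 F) x a ≠ 0 := by
    by_contra hc
    push Not at hc
    exact h (mem_of_orth (neutral_plusQ 4 F) hW' hc)
  rw [polar_comm] at hax
  obtain ⟨w, hw, hw'⟩ : ∃ w ∈ perp (plusQ 4 F) (Submodule.span F {a}) ⊓ perp (plusQ 4 F) (Submodule.span F {u}),
      w ∉ W' ⊔ Submodule.span F {a} := by
    by_contra hc
    push Not at hc
    have h1 := Submodule.finrank_mono (show _ ≤ W' ⊔ Submodule.span F {a} from hc)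
    have h2 := inf_ge (perp (plusQ 4 F) (Submodule.span F {a})) (perp (plusQ 4 F) (Submodule.span F {u}))
    have h3 := Submodule.finrank_add_le_finrank_add_finrank W' (Submodule.span F {a})
    rw [finrank_perp1 ha0, finrank_perp1 hu] at h2
    rw [hW'.1, finrank_span_singleton ha0] at h3
    omega
  obtain ⟨y, h1, h2⟩ := sg ha (mem_perp1.1 hw.1)
  refine ⟨y, h1, mem_pt.2 ⟨1, ?_⟩, fun k => hw' ?_⟩
  · rw [h2, hau, polar_comm _ w u, mem_perp1.1 hw.2]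
    simp
  · have h3 := mem_St.1 k x hx
    rw [h2] at h3
    have h4 : a ∈ W' ⊔ Submodule.span F {a} := Submodule.mem_sup_right (Submodule.mem_span_singleton_self a)
    have h5 := Submodule.sub_mem _ (Submodule.add_mem _ (Submodule.add_mem _ (Submodule.mem_sup_left h3)
      (Submodule.smul_mem _ (plusQ 4 F w * polar (plusQ 4 F) a x) h4))
      (Submodule.smul_mem _ (polar (plusQ 4 F) w x) h4)) (Submodule.mem_sup_left hx)
    rw [sub_add_cancel, sub_add_cancel, add_sub_cancel_left] at h5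
    exact (Submodule.smul_mem_iff _ hax).1 h5

theorem St_inj {W W' : Submodule F (I8 → F)} (hW : L4 W) (hW' : L4 W') (h : St W ≤ St W') : W = W' := by
  refine Submodule.eq_of_le_of_finrank_eq (fun a ha => by_contra fun k => ?_) (hW.1.trans hW'.1.symm)
  have ha0 : a ≠ 0 := fun e => k (e ▸ W'.zero_mem)
  obtain ⟨y, h1, -, h2⟩ := mvW (hW.2 a ha) (polar_of_ts hW.2 ha ha) ha0 hW' k
  exact h2 (h (h1 W hW.2 ha))

theorem not_St_le {W : Submodule F (I8 → F)} (hW : L4 W) {u : I8 → F} (hu : u ≠ 0) : ¬ St W ≤ pt u := fun h => by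
  obtain ⟨d, hd, hd'⟩ : ∃ d ∈ W ⊓ perp (plusQ 4 F) (Submodule.span F {u}), d ∉ Submodule.span F {u} := by
    by_contra hc
    push Not at hc
    have h1 := Submodule.finrank_mono (show _ ≤ Submodule.span F {u} from hc)
    have h2 := inf_ge W (perp (plusQ 4 F) (Submodule.span F {u}))
    rw [finrank_perp1 hu, hW.1] at h2
    rw [finrank_span_singleton hu] at h1
    omega
  obtain ⟨y, h1, h2⟩ := mv (hW.2 d hd.1) (by rw [polar_comm]; exact mem_perp1.1 hd.2) hd' hu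
  exact h2 (h (h1 W hW.2 hd.1))

theorem nt_St {β : MulAut (T8 F)} (hβ : Nt β) {W : Submodule F (I8 → F)} (hW : L4 W) : ∃ W', L4 W' ∧ im β (St W) = St W' := by
  obtain ⟨M, rfl⟩ := hβ
  exact ⟨_, l4_gm M hW, im_St M W⟩

theorem exists_ns : ∃ v, quadFormPlus 4 F v ≠ 0 := by
  obtain ⟨x, y, h⟩ := (good8 (F := F)).exists_hyp
  obtain ⟨v, hv, -⟩ := exists_norm (F := F) h.left_ne 1 0
  exact ⟨v, by rw [hv]; exact one_ne_zero⟩

/-- **the converse of `boxTW`** -/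
theorem conv {α : MulAut (T8 F)} (hα : ¬ Nt α) {u : I8 → F} (hu0 : u ≠ 0) (hu : quadFormPlus 4 F u = 0) :
    ∃ W, L4 W ∧ im α (pt u) = St W := by
  have hb : L4 (base (neutral_plusQ 4 F)) := lag_base _
  obtain ⟨τ, u₀, h0, h1, h2⟩ := boxTW F _ hb.1 hb.2
  have h3 : im τ⁻¹ (pt u₀) = St (base (neutral_plusQ 4 F)) := by rw [← h2, im_inv_im]
  have h4 : ¬ Nt τ⁻¹ := by
    rintro ⟨M, hM⟩
    rw [← hM, im_pt] at h3
    exact not_St_le hb (fun k => h0 (gam_eq_zero.1 k)) h3.ge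
  have key : ∀ {β : MulAut (T8 F)}, Nt (β * τ) → ∀ {w}, w ≠ 0 → quadFormPlus 4 F w = 0 → ∃ W, L4 W ∧ im β (pt w) = St W := by
    intro β hβ w hw0 hw
    obtain ⟨y, hy⟩ := exists_ln_map h0 hw0 (h1.trans hw.symm)
    have h5 : Nt (β * MulAut.conj (mk8 F y) * τ) := by
      have h6 : β * MulAut.conj (mk8 F y) * τ = MulAut.conj (β (mk8 F y)) * (β * τ) := by
        ext x
        simp only [MulAut.mul_apply, MulAut.conj_apply, map_mul, map_inv]
      rw [h6]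
      exact (nt_conj _).mul hβ
    obtain ⟨W, hW, e⟩ := nt_St h5 hb
    exact ⟨W, hW, by rw [← hy, ← conj_pt, ← h2, im_im, im_im, ← e, mul_assoc]⟩
  obtain ⟨v, hv⟩ := exists_ns (F := F)
  rcases coset_rf hv hα h4 with h | h
  · exact key (by rwa [inv_inv] at h) hu0 hu
  · obtain ⟨W, hW, e⟩ := key (by rwa [inv_inv] at h) (w := (rf v hv)⁻¹.1 u) (fun k => hu0 (gam_eq_zero.1 k)) (Q_gam.2 hu)
    exact ⟨W, hW, by rw [← e, ← im_pt, im_im, map_inv, mul_inv_cancel_right]⟩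

/-- Witt: 4-spaces of the same class -/
theorem exists_kp {W W' : Submodule F (I8 → F)} (hW : L4 W) (hW' : L4 W') (h : par 4 W' W = 1) :
    ∃ M : Gam (plusQ 4 F), kp F M = 1 ∧ gm M W = W' := by
  let φ : W ≃ₗ[F] W' := LinearEquiv.ofFinrankEq _ _ (hW.1.trans hW'.1.symm)
  obtain ⟨g, hg, hgx⟩ := Cfsg.Agent.ClassicalGeometry.WittQuad.extend (plusQ 4 F)
    (polarBilin_nondegenerate (good8 (F := F)).nondeg) W W' φ fun x => by rw [hW.2 _ x.2, hW'.2 _ (φ x).2]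
  have h1 : gm (gamO _ ⟨g, hg⟩) W = W' := by
    refine Submodule.eq_of_le_of_finrank_eq ?_ ((finrank_gm _ W).trans (hW.1.trans hW'.1.symm))
    rw [gm_img]
    rintro _ ⟨x, hx, rfl⟩
    change g x ∈ _
    rw [hgx ⟨x, hx⟩]
    exact (φ ⟨x, hx⟩).2
  exact ⟨_, by rw [← kappa_eq _ _ hW, ← gm_img, h1, h], h1⟩

theorem le_im {Y P : Subgroup (T8 F)} {V : Subgroup (MulAut (T8 F))} (hV : Iv V Y) (h : Y ≤ P) {δ : MulAut (T8 F)}
    (hδ : δ ∈ V) : Y ≤ im δ P := fun x hx => mem_im'.2 (h (hV _ (inv_mem hδ) x hx))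

theorem im_mono (α : MulAut (T8 F)) {R R' : Subgroup (T8 F)} (h : R ≤ R') : im α R ≤ im α R' := Subgroup.map_mono h

end gen

theorem pp13 : PP (Nat.card F₃) 3 13 := ⟨by norm_num, by
  rw [Nat.card_zmod]
  exact (orderOf_eq_iff (by norm_num)).2 ⟨by decide, by decide⟩⟩

/-- the elements of order 13 -/
theorem el13 {R : Subgroup G₃} (hd : 13 * 3 ^ 7 ∣ Nat.card R) :
    ∃ y : Om F₃, mk8 F₃ y ∈ R ∧ Iso (plusQ 4 F₃) (ln y) 13 ∧ finrank F₃ (fx (ln y)) = 2 := by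
  obtain ⟨y, hy, h1, h2⟩ := exists_elt (r := 13) (by norm_num) (by decide) ((dvd_mul_right _ _).trans hd)
  have h : Iso (plusQ 4 F₃) (ln y) 13 := Iso.mk' pp13 (by norm_num)
    (by rw [← Can.ln_pow, h1]; exact LinearMap.ext ln_one) (Q_ln y)
  have h3 : finrank F₃ (cm (ln y)) = 2 * 3 := (h.odd_case good8.nondeg (fun k => h2 (by
    rw [show y = 1 from om_ext fun v => by rw [k, ln_one]; rfl, map_one])) pp13 (by decide) (by rw [Can.dim8]; norm_num)).1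
  have h4 : finrank F₃ (fx (ln y)) + finrank F₃ (cm (ln y)) = 8 := h.finrank_add.trans Can.dim8
  exact ⟨y, hy, h, by omega⟩

theorem fix13 {y : Om F₃} (h : Iso (plusQ 4 F₃) (ln y) 13) {u : V₃} (hu : u ≠ 0) (hy : mk8 F₃ y ∈ pt u) :
    Submodule.span F₃ {u} ≤ fx (ln y) :=
  h.le_fx pp13 (mem_St.1 hy) (by rw [finrank_span_singleton hu]; norm_num)

variable {R : Subgroup G₃}

/-- at most one singular point is fixed -/
theorem uq (ho : BoxOrd) (hd : 13 * 3 ^ 7 ∣ Nat.card R) {u u' : V₃} (h0 : u ≠ 0) (h0' : u' ≠ 0) (hu : Q₃ u = 0)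
    (hu' : Q₃ u' = 0) (h : R ≤ pt u) (h' : R ≤ pt u') : pt u' = pt u := by
  by_cases hp : polar Q₃ u u' = 0
  · obtain ⟨y, hy, h1, h2⟩ := el13 hd
    have h3 := fix13 h1 h0 (h hy)
    have h4 := fix13 h1 h0' (h' hy)
    by_cases hm : u' ∈ Submodule.span F₃ {u}
    · obtain ⟨c, rfl⟩ := Submodule.mem_span_singleton.1 hm
      exact pt_smul (fun k => h0' (by rw [k, zero_smul])) u
    · exfalso
      have h5 : Submodule.span F₃ {u} < Submodule.span F₃ {u} ⊔ Submodule.span F₃ {u'} :=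
        lt_of_le_of_ne le_sup_left fun e => hm (e ▸ Submodule.mem_sup_right (Submodule.mem_span_singleton_self u'))
      have h6 := Submodule.finrank_lt_finrank_of_lt h5
      rw [finrank_span_singleton h0] at h6
      have h7 : Submodule.span F₃ {u} ⊔ Submodule.span F₃ {u'} = fx (ln y) :=
        Submodule.eq_of_le_of_finrank_le (sup_le h3 h4) (by omega)
      refine h0 (nondeg_res_iff.1 (H954.TSing.nondeg_fx good8.nondeg h1.iso h1.ne0 h1.pow) u
        (h3 (Submodule.mem_span_singleton_self u)) fun x hx => mem_perp1.1 ?_)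
      rw [← h7] at hx
      refine sup_le ((Submodule.span_singleton_le_iff_mem _ _).2 (mem_perp1.2 ?_))
        ((Submodule.span_singleton_le_iff_mem _ _).2 (mem_perp1.2 hp)) hx
      rw [polar_self, show plusQ 4 F₃ u = 0 from hu, smul_zero]
  · have h1 := (hd.trans (Subgroup.card_dvd_of_le (le_inf h h'))).trans (ho.two u u' hu hu' hp)
    norm_num at h1

theorem uq_nt (ho : BoxOrd) (hd : 13 * 3 ^ 7 ∣ Nat.card R) {u : V₃} (h0 : u ≠ 0) (hu : Q₃ u = 0) (h : R ≤ pt u)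
    {β : MulAut G₃} (hβ : Nt β) (h' : R ≤ im β (pt u)) : im β (pt u) = pt u := by
  obtain ⟨M, rfl⟩ := hβ
  rw [im_pt] at h' ⊢
  exact uq ho hd h0 (fun k => h0 (gam_eq_zero.1 k)) hu (Q_gam.2 hu) h h'

/-- at most one 4-space of each class is fixed -/
theorem uqW (ho : BoxOrd) (hd : 13 * 3 ^ 7 ∣ Nat.card R) {W W' : Submodule F₃ V₃} (hW : L4 W) (hW' : L4 W')
    (h : R ≤ St W) (h' : R ≤ St W') (hp : par 4 W' W = 1) : W' = W := by
  obtain ⟨M, h1, h2⟩ := exists_kp hW hW' hp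
  obtain ⟨α, u, h0, hu, e⟩ := boxTW F₃ W hW.1 hW.2
  obtain ⟨M', -, h3⟩ := conj_kp α h1
  have h4 : im α (St W') = im (ph F₃ M') (pt u) := by
    rw [← h2, ← im_St, ← h3, ← e, im_im, im_im, inv_mul_cancel_right]
  have h5 := uq_nt ho (R := im α R) (by rwa [card_im]) h0 hu (e ▸ im_mono α h) (nt_ph M') (h4 ▸ im_mono α h')
  refine St_inj hW' hW (le_of_eq ?_)
  rw [← im_inv_im α (St W'), h4, h5, ← e, im_inv_im]

theorem par_ne (ho : BoxOrd) (hd : 13 * 3 ^ 7 ∣ Nat.card R) {W W' : Submodule F₃ V₃} (hW : L4 W) (hW' : L4 W')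
    (h : R ≤ St W) (h' : R ≤ St W') (hne : W ≠ W') : par 4 W W' = -1 :=
  (Int.units_eq_one_or _).resolve_left fun k => hne (uqW ho hd hW' hW h' h k)

theorem two (ho : BoxOrd) (hd : 13 * 3 ^ 7 ∣ Nat.card R) {W W' Z : Submodule F₃ V₃} (hW : L4 W) (hW' : L4 W')
    (h : R ≤ St W) (h' : R ≤ St W') (hne : W ≠ W') (hZ : L4 Z) (k : R ≤ St Z) : Z = W ∨ Z = W' := by
  by_cases e : Z = W
  · exact Or.inl e
  · refine Or.inr (uqW ho hd hW' hZ h' k ?_)
    rw [← par_mul (neutral_plusQ 4 F₃) hZ hW hW', par_ne ho hd hZ hW k h e, par_ne ho hd hW hW' h h' hne]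
    decide

theorem dim13 (ho : BoxOrd) (hd : 13 * 3 ^ 7 ∣ Nat.card R) {W W' : Submodule F₃ V₃} (hW : L4 W) (hW' : L4 W')
    (h : R ≤ St W) (h' : R ≤ St W') (hne : W ≠ W') : finrank F₃ ↥(W ⊓ W') = 1 ∨ finrank F₃ ↥(W ⊓ W') = 3 := by
  have h1 := par_ne ho hd hW hW' h h' hne
  have h2 : finrank F₃ ↥(W ⊓ W') ≤ 4 := (Submodule.finrank_mono inf_le_left).trans hW.1.le
  unfold par at h1
  generalize finrank F₃ ↥(W ⊓ W') = n at h1 h2
  interval_cases n <;> first | omega | exact absurd h1 (by decide)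

theorem St_inf {W W' : Submodule F₃ V₃} : St W ⊓ St W' ≤ St (W ⊓ W') := fun x hx => by
  obtain ⟨y, rfl⟩ := mk8_surjective x
  exact mem_St.2 fun w hw => ⟨mem_St.1 hx.1 w hw.1, mem_St.1 hx.2 w hw.2⟩

variable {X Y : Subgroup G₃} {U V : Subgroup (MulAut G₃)}

/-- two 4-spaces, only semisimilarities -/
theorem caseN (ho : BoxOrd) (c : Cf X Y U V) (hd : 13 * 3 ^ 7 ∣ Nat.card Y) (hV : ∀ β ∈ V, Nt β) {W W' : Submodule F₃ V₃}
    (hW : L4 W) (hW' : L4 W') (h : Y ≤ St W) (h' : Y ≤ St W') (hne : W ≠ W') : Y = St (W ⊓ W') := by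
  have h1 := dim13 ho hd hW hW' h h' hne
  refine le_antisymm ((le_inf h h').trans St_inf) (c.maxV _ (St_ne_top (fun e => ?_) fun e => ?_) fun β hβ x hx => ?_)
  · rw [e, finrank_bot] at h1
    omega
  · rw [e, finrank_top, Can.dim8] at h1
    omega
  · obtain ⟨M, rfl⟩ := hV β hβ
    have key : ∀ {Z : Submodule F₃ V₃}, L4 Z → Y ≤ St Z → ∀ d ∈ W ⊓ W', M.1 d ∈ Z := by
      intro Z hZ k d hd'
      have h2 := le_im c.vY k (inv_mem hβ)
      rw [← map_inv, im_St] at h2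
      have h3 : d ∈ gm M⁻¹ Z := by
        rcases two ho hd hW hW' h h' hne (l4_gm M⁻¹ hZ) h2 with e | e
        · exact e ▸ hd'.1
        · exact e ▸ hd'.2
      rwa [mem_gm, inv_inv] at h3
    exact ph_St (U := W ⊓ W') (fun d hd' => ⟨key hW h d hd', key hW' h' d hd'⟩) hx

theorem le_Y (c : Cf X Y U V) {P Z : Subgroup G₃} (hP : P ≠ ⊤) (h : ∀ δ ∈ V, Z ≤ im δ P) : Z ≤ Y := by
  refine (le_iInf fun δ : V => h δ δ.2).trans (c.maxV _ (fun e => hP (eq_top_iff.2 ?_)) fun β hβ x hx => ?_)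
  · have h1 := iInf_le (fun δ : V => im δ.1 P) 1
    rw [e] at h1
    exact h1.trans (im_one P).le
  · refine Subgroup.mem_iInf.2 fun δ => ?_
    have h1 := mem_im'.1 (Subgroup.mem_iInf.1 hx ⟨β⁻¹ * δ, mul_mem (inv_mem hβ) δ.2⟩)
    rw [mul_inv_rev, inv_inv] at h1
    exact mem_im'.2 h1

theorem pt_ne_top {u : V₃} (h0 : u ≠ 0) : pt u ≠ ⊤ := by
  refine St_ne_top (by rwa [Ne, Submodule.span_singleton_eq_bot]) fun e => ?_
  have h1 := finrank_span_singleton (K := F₃) h0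
  rw [e, finrank_top, Can.dim8] at h1
  omega

/-- three members in three modules -/
structure Tri (Y : Subgroup G₃) (V : Subgroup (MulAut G₃)) (u : V₃) (β β' : MulAut G₃) (W W' : Submodule F₃ V₃) : Prop where
  h0 : u ≠ 0
  hu : Q₃ u = 0
  le : Y ≤ pt u
  m : β ∈ V
  m' : β' ∈ V
  n : ¬ Nt β
  n' : ¬ Nt β'
  nn : ¬ Nt (β'⁻¹ * β)
  l : L4 W
  l' : L4 W'
  e : im β (pt u) = St W
  e' : im β' (pt u) = St W'

variable {u : V₃} {β β' : MulAut G₃} {W W' : Submodule F₃ V₃}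

theorem Tri.symm (t : Tri Y V u β β' W W') : Tri Y V u β' β W' W :=
  ⟨t.h0, t.hu, t.le, t.m', t.m, t.n', t.n, fun k => t.nn (by simpa only [mul_inv_rev, inv_inv] using k.inv), t.l', t.l, t.e',
    t.e⟩

theorem Tri.leW (t : Tri Y V u β β' W W') (c : Cf X Y U V) : Y ≤ St W := t.e ▸ le_im c.vY t.le t.m

theorem Tri.ne (t : Tri Y V u β β' W W') : W ≠ W' := fun k => by
  obtain ⟨Z, hZ, e⟩ := conv t.nn t.h0 t.hu
  rw [← im_im, t.e, k, ← t.e', im_inv_im] at e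
  exact not_St_le hZ t.h0 e.ge

theorem Tri.orb (t : Tri Y V u β β' W W') (ho : BoxOrd) (c : Cf X Y U V) (hd : 13 * 3 ^ 7 ∣ Nat.card Y) {δ : MulAut G₃}
    (hδ : δ ∈ V) (hn : ¬ Nt δ) : im δ (pt u) = St W ∨ im δ (pt u) = St W' := by
  obtain ⟨Z, hZ, e⟩ := conv hn t.h0 t.hu
  rcases two ho hd t.l t.l' (t.leW c) (t.symm.leW c) t.ne hZ (e ▸ le_im c.vY t.le hδ) with k | k
  · exact Or.inl (k ▸ e)
  · exact Or.inr (k ▸ e)

theorem Tri.inf (t : Tri Y V u β β' W W') (ho : BoxOrd) (c : Cf X Y U V) (hd : 13 * 3 ^ 7 ∣ Nat.card Y) {Z : Subgroup G₃}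
    (h1 : Z ≤ pt u) (h2 : Z ≤ St W) (h3 : Z ≤ St W') : Z ≤ Y := by
  refine le_Y c (pt_ne_top t.h0) fun δ hδ => ?_
  by_cases hn : Nt δ
  · rwa [uq_nt ho hd t.h0 t.hu t.le hn (le_im c.vY t.le hδ)]
  · rcases t.orb ho c hd hδ hn with k | k <;> rwa [k]

theorem Tri.mem (t : Tri Y V u β β' W W') (ho : BoxOrd) (c : Cf X Y U V) (hd : 13 * 3 ^ 7 ∣ Nat.card Y) : u ∈ W := by
  by_contra hm
  have hN := neutral_plusQ 4 F₃
  have h1 := inf_ge W (perp (plusQ 4 F₃) (Submodule.span F₃ {u}))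
  rw [finrank_perp1 t.h0, t.l.1] at h1
  set D := W ⊓ perp (plusQ 4 F₃) (Submodule.span F₃ {u}) with hD
  have h2 : ∀ x ∈ D ⊔ Submodule.span F₃ {u}, plusQ 4 F₃ x = 0 := fun x hx => by
    obtain ⟨d, hd', z, hz, rfl⟩ := Submodule.mem_sup.1 hx
    obtain ⟨a, rfl⟩ := Submodule.mem_span_singleton.1 hz
    rw [Q_add, QuadraticMap.map_smul, polar_smul_right, polar_comm _ d u, mem_perp1.1 hd'.2, t.l.2 d hd'.1,
      show plusQ 4 F₃ u = 0 from t.hu]
    simp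
  have h3 : D < D ⊔ Submodule.span F₃ {u} := lt_of_le_of_ne le_sup_left fun e =>
    hm (show u ∈ D from e ▸ Submodule.mem_sup_right (Submodule.mem_span_singleton_self u)).1
  have h4 : L4 (D ⊔ Submodule.span F₃ {u}) := ⟨le_antisymm (finrank_le_of_ts hN h2)
    (Nat.succ_le_of_lt (lt_of_le_of_lt (Nat.le_of_add_le_add_right (show 3 + 8 ≤ _ from h1))
      (Submodule.finrank_lt_finrank_of_lt h3))), h2⟩
  have h5 : pt u ⊓ St W ≤ St (D ⊔ Submodule.span F₃ {u}) := fun x hx => by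
    obtain ⟨y, rfl⟩ := mk8_surjective x
    refine mem_St.2 fun w hw => ?_
    obtain ⟨d, hd', z, hz, rfl⟩ := Submodule.mem_sup.1 hw
    rw [map_add]
    refine add_mem (Submodule.mem_sup_left ⟨mem_St.1 hx.2 d hd'.1, mem_perp.2 fun v hv => ?_⟩)
      (Submodule.mem_sup_right (mem_St.1 hx.1 z hz))
    have h6 : ln y⁻¹ v ∈ Submodule.span F₃ {u} := mem_St.1 (by rw [map_inv]; exact inv_mem hx.1) v hv
    rw [← ln_apply_inv y v]
    exact (polar_ln y _ _).trans (mem_perp.1 hd'.2 _ h6)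
  have h6 : D ⊔ Submodule.span F₃ {u} = W' :=
    (two ho hd t.l t.l' (t.leW c) (t.symm.leW c) t.ne h4 ((le_inf t.le (t.leW c)).trans h5)).resolve_left fun e =>
      hm (e ▸ Submodule.mem_sup_right (Submodule.mem_span_singleton_self u))
  have h7 : pt u ⊓ St W ≤ Y := t.inf ho c hd inf_le_left inf_le_right (h6 ▸ h5)
  have h8 : ∀ δ ∈ V, ¬ Nt δ → St W ⊓ St W' ≤ im δ (pt u) := fun δ hδ hn => by
    rcases t.orb ho c hd hδ hn with k | k
    · exact k ▸ inf_le_left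
    · exact k ▸ inf_le_right
  obtain ⟨d, hd', hd0⟩ : ∃ d ∈ D, d ≠ 0 := (Submodule.ne_bot_iff D).1 fun e => by
    rw [e, finrank_bot] at h1
    omega
  obtain ⟨y, h9, h10⟩ := mv (t.l.2 d hd'.1) (by rw [polar_comm]; exact mem_perp1.1 hd'.2) (fun k => by
    obtain ⟨a, rfl⟩ := Submodule.mem_span_singleton.1 k
    exact hm ((Submodule.smul_mem_iff _ fun e => hd0 (by rw [e, zero_smul])).1 hd'.1)) t.h0
  have h11 : mk8 F₃ y ∈ St W ⊓ St W' := ⟨h9 W t.l.2 hd'.1, h9 W' t.l'.2 (h6 ▸ Submodule.mem_sup_left hd')⟩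
  have h12 := mem_im'.1 (h8 _ (inv_mem t.m') (fun k => t.n' (by simpa only [inv_inv] using k.inv)) h11)
  have h13 := h8 _ (mul_mem (inv_mem t.m') t.m) t.nn h11
  rw [← im_im, t.e, mem_im'] at h13
  have h14 := c.vY _ (inv_mem t.m') _ (h7 ⟨h12, h13⟩)
  rw [inv_inv, MulAut.inv_apply_self] at h14
  exact h10 (t.le h14)

theorem not_le3 (h0 : u ≠ 0) (hW : L4 W) (hW' : L4 W') (hne : W ≠ W') (hu : u ∈ W) : ¬ pt u ⊓ St W ≤ St W' := fun h => by
  obtain ⟨a, ha, ha'⟩ : ∃ a ∈ W, a ∉ W' := by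
    by_contra hc
    push Not at hc
    exact hne (Submodule.eq_of_le_of_finrank_eq hc (hW.1.trans hW'.1.symm))
  obtain ⟨y, h1, h2, h3⟩ := mvW (hW.2 a ha) (polar_of_ts hW.2 ha hu) h0 hW' ha'
  exact h3 (h ⟨h2, h1 W hW.2 ha⟩)

theorem Tri.false (t : Tri Y V u β β' W W') (ho : BoxOrd) (c : Cf X Y U V) (hd : 13 * 3 ^ 7 ∣ Nat.card Y) : False := by
  have h1 := t.mem ho c hd
  have h2 := t.symm.mem ho c hd
  have h3 : Submodule.span F₃ {u} ≤ W ⊓ W' := (Submodule.span_singleton_le_iff_mem _ _).2 ⟨h1, h2⟩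
  rcases dim13 ho hd t.l t.l' (t.leW c) (t.symm.leW c) t.ne with h | h
  · have h4 : Submodule.span F₃ {u} = W ⊓ W' :=
      Submodule.eq_of_le_of_finrank_eq h3 ((finrank_span_singleton t.h0).trans h.symm)
    have h5 : St W ⊓ St W' ≤ Y := t.inf ho c hd (by rw [pt, h4]; exact St_inf) inf_le_left inf_le_right
    have h6 : pt u ⊓ im (β⁻¹ * β') (pt u) ≤ Y := fun x hx => by
      have h7 : β x ∈ St W := t.e ▸ mem_im.2 hx.1
      have h8 : β x ∈ St W' := by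
        have h9 : x ∈ im (β⁻¹ * β') (pt u) := hx.2
        rwa [← im_im, t.e', mem_im', inv_inv] at h9
      have h9 := c.vY _ (inv_mem t.m) _ (h5 ⟨h7, h8⟩)
      rwa [MulAut.inv_apply_self] at h9
    rcases t.orb ho c hd (mul_mem (inv_mem t.m) t.m') t.symm.nn with k | k
    · exact not_le3 t.h0 t.l t.l' t.ne h1 (k ▸ h6.trans (t.symm.leW c))
    · exact not_le3 t.h0 t.l' t.l t.ne.symm h2 (k ▸ h6.trans (t.leW c))
  · obtain ⟨y, hy, h4, h5⟩ := el13 hd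
    have h6 : H951.Inv (ln y) (W ⊓ W') := mem_St.1 (St_inf ⟨t.leW c hy, t.symm.leW c hy⟩)
    have h7 : finrank F₃ ↥(W ⊓ W' ⊓ fx (ln y)) + finrank F₃ ↥(W ⊓ W' ⊓ cm (ln y)) = 3 :=
      (H951.finrank_inf_add h4.ne0 h4.pow h6).trans h
    have h8 : 3 ∣ finrank F₃ ↥(W ⊓ W' ⊓ cm (ln y)) := h4.dvd pp13 h6
    have h9 : 1 ≤ finrank F₃ ↥(W ⊓ W' ⊓ fx (ln y)) :=
      (finrank_span_singleton t.h0).ge.trans (Submodule.finrank_mono (le_inf h3 (fix13 h4 t.h0 (t.le hy))))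
    have h10 : finrank F₃ ↥(W ⊓ W' ⊓ fx (ln y)) ≤ 2 := (Submodule.finrank_mono inf_le_right).trans h5.le
    omega

theorem main (ho : BoxOrd) (c : Cf X Y U V) (hd : 13 * 3 ^ 7 ∣ Nat.card Y) (h0 : u ≠ 0) (hu : Q₃ u = 0) (h : Y ≤ pt u) :
    ∃ (α : MulAut G₃) (D : Submodule F₃ V₃), im α Y = St D ∧ Ts D ∧ (finrank F₃ D = 1 ∨ finrank F₃ D = 3) := by
  by_cases hA : ∀ β ∈ V, Nt β
  · refine ⟨1, Submodule.span F₃ {u}, (im_one Y).trans (le_antisymm h (le_Y c (pt_ne_top h0) fun δ hδ => ?_)), fun w hw => ?_,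
      Or.inl (finrank_span_singleton h0)⟩
    · exact (uq_nt ho hd h0 hu h (hA δ hδ) (le_im c.vY h hδ)).ge
    · obtain ⟨a, rfl⟩ := Submodule.mem_span_singleton.1 hw
      rw [Q_smul, hu, mul_zero]
  push Not at hA
  obtain ⟨β, hβ, hn⟩ := hA
  have hB : ∀ γ ∈ V, Nt γ ∨ Nt (γ⁻¹ * β) := fun γ hγ => by
    by_contra hc
    push Not at hc
    obtain ⟨W, hW, e⟩ := conv hn h0 hu
    obtain ⟨W', hW', e'⟩ := conv hc.1 h0 hu
    exact Tri.false ⟨h0, hu, h, hβ, hγ, hn, hc.1, hc.2, hW, hW', e, e'⟩ ho c hd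
  obtain ⟨v, hv⟩ := exists_ns (F := F₃)
  have hn' : ¬ Nt β⁻¹ := fun k => hn (by simpa only [inv_inv] using k.inv)
  obtain ⟨τ, t1, t2⟩ : ∃ τ : MulAut G₃, ¬ Nt τ ∧ ¬ Nt (τ * β) :=
    ⟨β⁻¹ * ph F₃ (rf v hv), fun k => hn' (by simpa only [mul_inv_cancel_right] using k.mul (nt_ph (rf v hv)).inv),
      by simpa only [inv_inv] using not_nt_conj hn' (kp_rf hv)⟩
  have h1 : ∀ δ ∈ V, ¬ Nt (τ * δ) := fun δ hδ k => by
    rcases hB δ hδ with e | e
    · exact t1 (by simpa only [mul_inv_cancel_right] using k.mul e.inv)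
    · exact t2 (by simpa only [mul_assoc, mul_inv_cancel_left] using k.mul e)
  obtain ⟨W, hW, e⟩ := conv t1 h0 hu
  obtain ⟨W', hW', e'⟩ := conv t2 h0 hu
  have hne : W ≠ W' := fun k => by
    obtain ⟨Z, hZ, e2⟩ := conv hn h0 hu
    have h2 : im β (pt u) = pt u := by rw [← im_inv_im τ (im β (pt u)), im_im β τ, e', ← k, ← e, im_inv_im]
    exact not_St_le hZ h0 (e2.symm.trans h2).le
  have hd' : 13 * 3 ^ 7 ∣ Nat.card (im τ Y) := by rwa [card_im]
  have k1 : im τ Y ≤ St W := e ▸ im_mono τ h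
  have k2 : im τ Y ≤ St W' := by
    rw [← e', ← im_im]
    exact im_mono τ (le_im c.vY h hβ)
  refine ⟨τ, W ⊓ W', caseN ho (c.map τ) hd' ?_ hW hW' k1 k2 hne, fun w hw => hW.2 w hw.1, dim13 ho hd' hW hW' k1 k2 hne⟩
  rintro _ ⟨γ, hγ, rfl⟩
  rcases three_cosets t1 hn' (h1 γ hγ) (by rwa [inv_inv]) with k | k
  · have h2 := k.inv
    rw [mul_inv_rev, inv_inv] at h2
    exact h2
  · have h2 := k.inv
    rw [mul_inv_rev, inv_inv, inv_inv, mul_assoc] at h2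
    exact absurd h2 (h1 _ (mul_mem hγ hβ))

end Hex

/-- **box (10)** -/
theorem boxHex_of (ho : BoxOrd) : BoxHex := by
  rintro X Y U V c hd ⟨α, u, h0, hu, h⟩
  obtain ⟨β, D, h1, h2⟩ := Hex.main ho (c.map α) (by rwa [card_im]) h0 hu h
  exact ⟨β * α, D, by rw [← im_im]; exact h1, h2⟩

end Cfsg.Agent.SM.O8.T3
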