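import Cfsg.Agent.SM.O8.Three.Cg
import Cfsg.Agent.H75.WittE
import Cfsg.Agent.H329.O8Seven

/-!
# SM (S3570), socle `PΩ⁺₈(3)`: no class-exchanging semisimilarity; no nondegenerate 3-space (helper88)
-/

set_option autoImplicit false

namespace Cfsg.Agent.SM.O8.T3

open Module QuadraticMap Cfsg Cfsg.Geo Subgroup
open Cfsg.Agent.H884.El (PP)
open Cfsg.Agent.H708.O8 (I8 T8)
open Cfsg.Agent.H823.O8S (mk8)
open Cfsg.Agent.H198.Carriers (plusQ)

namespace K1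

theorem pp5 : PP (Nat.card F₃) 4 5 := by
  rw [Nat.card_zmod]
  exact ⟨by norm_num, orderOf_eq_prime_pow (p := 2) (n := 1) (by decide) (by decide)⟩

theorem conj_conj (α : MulAut G₃) (g : G₃) : α * MulAut.conj g * α⁻¹ = MulAut.conj (α g) := by
  ext1 x
  rw [MulAut.mul_apply, MulAut.mul_apply, MulAut.conj_apply, MulAut.conj_apply, map_mul, map_mul, map_inv,
    MulAut.apply_inv_self]

theorem kp_og (y : Om F₃) : kp F₃ (og F₃ y) = 1 := by
  rcases Int.units_eq_one_or (kp F₃ (og F₃ y)) with h | h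
  · exact h
  · obtain ⟨ρ, -, h1, -⟩ := exists_tri (F := F₃)
    refine absurd ?_ (not_nt_conj h1 h)
    rw [ph_og, conj_conj]
    exact nt_conj _

theorem exists_perp {D : Submodule F₃ V₃} (h : finrank F₃ D = 3) (c : F₃) : ∃ z, Q₃ z = c ∧ ∀ d ∈ D, polar Q₃ d z = 0 := by
  obtain ⟨z, h1, h2⟩ := H75.OrthIdx.exists_norm_perp (good8 (F := F₃)).nondeg D (Or.inl (by rw [h, Can.dim8])) c
  exact ⟨z, h2, h1⟩

theorem kp_rf' {D : Submodule F₃ V₃} {a : V₃} (ha : Q₃ a ≠ 0) (h : ∀ d ∈ D, polar Q₃ d a = 0) :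
    Kp (St D) (ph F₃ (rf a ha)) := Kp.of_mem fun _ hy => ph_St (fun u hu => by
  have h1 : polar Q₃ a u = 0 := (polar_comm (plusQ 4 F₃) a u).trans (h u hu)
  rwa [rf_apply, h1, mul_zero, zero_smul, sub_zero]) hy

end K1

open K1

theorem boxK1_of (hT : BoxTy) : BoxK1 := by
  intro X Y U V c h5 h25 hF M hM hW
  have p5 : Nat.Prime 5 := by norm_num
  have : Fact (Nat.Prime 5) := ⟨p5⟩
  obtain ⟨γ, hγ, s, e⟩ := c.decW _ hW
  obtain ⟨y, rfl⟩ := mk8_surjective s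
  have e1 : ph F₃ (M * (og F₃ y)⁻¹) = γ := by rw [map_mul, map_inv, ph_og, e, mul_inv_cancel_right]
  have e2 : kp F₃ (M * (og F₃ y)⁻¹) = -1 := by rw [map_mul, map_inv, kp_og, hM, inv_one, mul_one]
  obtain ⟨z, hz⟩ := exists_prime_orderOf_dvd_card' 5 h5
  have hz' : orderOf (z : G₃) = 5 := (Subgroup.orderOf_coe z).trans hz
  obtain ⟨α, hα⟩ := hT z hz'
  have k1 : ¬ Nt α := by
    rintro ⟨N, rfl⟩
    rw [Fx_im, Ne, gm_eq_bot] at hα
    obtain ⟨w, hw, hw0⟩ := (Submodule.ne_bot_iff _).1 hα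
    obtain ⟨y, h1, h2⟩ := lift_odd (r := 5) (by decide) (z := (z : G₃)) (hz' ▸ pow_orderOf_eq_one _)
    have h3 := hF y (h1 ▸ z.2) h2 w hw0 (mem_Fx.1 hw y (h1 ▸ mem_zpowers _) h2)
    rw [← h1, h3, map_one, orderOf_one] at hz'
    omega
  refine not_nt_conj k1 e2 (nt_of_fx pp5 (R := im α (zpowers (z : G₃))) (by rw [card_im, Nat.card_zpowers, hz']) hα ?_)
  have k2 : orderOf (⟨γ z, c.uX γ hγ.1 z z.2⟩ : X) = 5 := by
    rw [← Subgroup.orderOf_coe]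
    exact (γ.orderOf_eq z).trans hz'
  obtain ⟨g, j, e3⟩ := H329.O8Seven.exists_conj p5 h25 hz k2
  have e4 : γ z = MulAut.conj (g : G₃) ((z : G₃) ^ j) := by
    have e5 : ((z : G₃) ^ j) = (g : G₃)⁻¹ * γ z * g := congrArg Subtype.val e3
    rw [e5, MulAut.conj_apply]
    group
  obtain ⟨y', hy'⟩ := mk8_surjective (α g)
  have k3 : im (α * γ * α⁻¹) (im α (zpowers (z : G₃))) ≤ im (ph F₃ (og F₃ y')) (im α (zpowers (z : G₃))) := by
    rw [ph_og, hy', ← conj_conj, im_im, im_im, inv_mul_cancel_right, inv_mul_cancel_right, im_mul, im_mul]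
    refine map_mono ?_
    refine (MonoidHom.map_zpowers _ _).le.trans (zpowers_le.2 ?_)
    exact ⟨_, zpow_mem (mem_zpowers _) j, e4.symm⟩
  rw [e1]
  refine fun h => hα ((gm_eq_bot (M := og F₃ y')).1 ?_)
  rw [← Fx_im]
  exact le_bot_iff.1 (h ▸ Fx_anti k3)

theorem boxE3_of (hO : BoxOrd) (hN : BoxNp) (hK : BoxK1) (hD : BoxDM) : BoxE3 := by
  intro X D U V c _ h3 α v hv hX
  have h0 : D ≠ ⊥ := fun h => by rw [h, finrank_bot] at h3; omega
  have k1 : ¬ Nt α := by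
    rintro ⟨N, rfl⟩
    have h1 : X = pt (N⁻¹.1 v) := by rw [← im_pt, ← hX, map_inv, im_inv_im]
    obtain ⟨z, h4, h5⟩ := exists_perp h3 (Q₃ (N⁻¹.1 v))
    exact not_pd (fun h => hv (Q_gam.1 h)) h0 h4 h5 (h1 ▸ c.pd)
  have k2 : Nat.card X = 4585351680 := by rw [← card_im α, hX, (hO.ns v hv).1]
  have k3 : Fpf X := fun y hy h5 w hw e => by
    by_contra h1
    obtain ⟨y', h6, h7⟩ := lift_odd (r := 5) (by decide) (z := α (mk8 F₃ y)) (by rw [← map_pow, ← map_pow, h5, map_one, map_one])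
    refine k1 (nt_of_fix pp5 h6.symm h5 h7 h1 hw (ne_zero_of_Q hv) e ?_)
    refine ((mem_pt' hv).1 (by rw [h6, ← hX]; exact mem_im.2 hy)).resolve_right fun h8 => ne_zero_of_Q hv ?_
    have h9 := ln_one (F := F₃) v
    rw [← h7, show y' ^ 5 = y' * (y' * (y' * (y' * y'))) by simp only [pow_succ', pow_zero, mul_one]] at h9
    simp only [ln_mul, h8, map_neg, neg_neg] at h9
    have h10 : (2 : F₃) • v = 0 := by rw [two_smul]; nth_rewrite 1 [← h9]; exact neg_add_cancel v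
    exact (smul_eq_zero.1 h10).resolve_left (by decide)
  have k4 := hK X _ U V c (by omega) (by omega) k3
  obtain ⟨a, ha, ha'⟩ := exists_perp h3 1
  obtain ⟨b, hb, hb'⟩ := exists_perp h3 (-1)
  have ha0 : Q₃ a ≠ 0 := by rw [ha]; decide
  have hb0 : Q₃ b ≠ 0 := by rw [hb]; decide
  rcases c.or (kp_rf' ha0 ha') (kp_rf' hb0 hb') with h | h | h
  · exact k4 _ (kp_rf ha0) h
  · exact k4 _ (kp_rf hb0) h
  obtain ⟨γ, hγ, s, e⟩ := c.decW _ h
  obtain ⟨M, h1, -, h2, -⟩ := hN v hv (α * γ * α⁻¹) fun x hx => by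
    rw [← hX] at hx ⊢
    exact mem_im.2 (c.uX γ hγ.1 _ (mem_im'.1 hx))
  obtain ⟨y, hy⟩ := mk8_surjective (α s)
  obtain ⟨x, hx⟩ := hD α k1 a b ha0 hb0 (by rw [ha, hb, one_mul]) (M * og F₃ y) (by
    rw [map_mul, h1, ph_og, hy, ← conj_conj, map_mul, e]
    group)
  exact hx ((h2 ((og F₃ y).1 x)).trans (by rw [og_apply, Q_ln]))

end Cfsg.Agent.SM.O8.T3
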