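import Cfsg.Agent.SM.O8.Three.Defs
import Cfsg.Agent.SM.Oo.Sev
import Cfsg.Agent.H638.G2Iso
import Cfsg.Agent.S1059
import Cfsg.Agent.S2121

/-!
# SM (S3570), socle `PΩ⁺₈(3)`, box `M7`: the maximal subgroups of the stabiliser of a nonsingular point (helper23)
-/

set_option autoImplicit false

namespace Cfsg.Agent.SM.O8.T3

open Module QuadraticMap Cfsg Cfsg.Geo
open Cfsg.Agent.H708.O8 (I8 T8)
open Cfsg.Agent.H823.O8S (mk8 gl8 mk8_eq)
open Cfsg.Agent.H198.Carriers (plusQ)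
open Cfsg.Agent.ClassicalGeometry.OrthSemi (Gam)
open Cfsg.Agent.LieClassical.OrthForms (oddForm)
open Cfsg.Agent.SM.Oo (qf bf ap qf_add qf_smul qf_zero bf_eq bf_comm bf_self bf_smul bf_smul' bf_ap bf_nondeg ap_smul ap_inv_ap
  ap_ap_inv Om_le mem_Is scalars_inf finrank_W)
open scoped MatrixGroups Matrix

namespace M7

/-- the module of dimension seven -/
abbrev W7 : Type := Oo.W 3 F₃

/-- `Ω₇(3)` -/
abbrev O7 : Subgroup (GL (Oo.I 3) F₃) := Oo.Om 3 F₃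

theorem h2 : (2 : F₃) ≠ 0 := by decide

theorem hodd : Odd (Fintype.card F₃) := by decide

theorem sgn {c : F₃} (h : c ≠ 0) : c = 1 ∨ c = -1 := by
  revert c
  decide

theorem iff_of_maps {α : Type} [Finite α] {f : α → α} (hf : Function.Injective f) {S : Set α} (h : ∀ x ∈ S, f x ∈ S)
    (x : α) : x ∈ S ↔ f x ∈ S := by
  refine ⟨h x, fun hx => ?_⟩
  have h1 : Function.Injective fun y : S => (⟨f y, h y y.2⟩ : S) := fun a b e =>
    Subtype.ext (hf (congrArg Subtype.val e))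
  obtain ⟨y, hy⟩ := Finite.injective_iff_surjective.1 h1 ⟨f x, hx⟩
  rw [← hf (congrArg Subtype.val hy)]
  exact y.2

theorem ap_inj (g : GL (Oo.I 3) F₃) : Function.Injective (ap g) := Function.LeftInverse.injective (ap_inv_ap g)

theorem mem_stab {g : GL (Oo.I 3) F₃} {U : Submodule F₃ W7} : g ∈ subspaceStabilizer U ↔ ∀ u ∈ U, ap g u ∈ U :=
  ⟨fun h u hu => (h u).1 hu, fun h u => iff_of_maps (ap_inj g) (S := U) h u⟩

/-- coordinates adapted to `v` -/
structure Td (v : V₃) (E : (W7 × F₃) ≃ₗ[F₃] V₃) (c : F₃) (φ : O7 →* G₃) : Prop where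
  ev : E (0, 1) = v
  c0 : c ≠ 0
  eq : ∀ u a, Q₃ (E (u, a)) = c * (qf u - a * a)
  ap : ∀ g, ∃ y, φ g = mk8 F₃ y ∧ ∀ u a, ln y (E (u, a)) = E (ap g.1 u, a)
  inj : Function.Injective φ
  rg : φ.range = pt v

theorem td_zero : ∃ φ, Td (Ext.v0 F₃) (Ext.e8 h2) 1 φ := by
  let e7 : Omega F₃ (quadFormOdd 3 F₃) ≃* O7 :=
    (Omega F₃ (quadFormOdd 3 F₃)).equivMapOfInjective _ (isometryGroup F₃ (quadFormOdd 3 F₃)).subtype_injective
  let ψ : O7 →* pt (Ext.v0 F₃) := (Ext.piT Ext.Q_v0_ne).comp ((Ext.exX h2).comp e7.symm.toMonoidHom)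
  have h1 : Function.Injective ψ := (Ext.piT_bij Ext.Q_v0_ne).1.comp ((Ext.exX_inj h2).comp e7.symm.injective)
  have h3 : Nat.card (pt (Ext.v0 F₃)) = Nat.card O7 := by
    rw [← Nat.card_congr (Equiv.ofBijective _ (Ext.piT_bij (F := F₃) Ext.Q_v0_ne)), (Ext.ex_odd h2).2.1]
    have h4 := Ext.card_psp (F := F₃)
    have h5 := Oo.Sev.card_Om (F := F₃) hodd
    rw [← h4, ZMod.card] at h5
    change 2 * Nat.card O7 = _ * 2 at h5
    omega
  have h4 : Function.Bijective ψ := h1.bijective_of_nat_card_le h3.le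
  refine ⟨(pt (Ext.v0 F₃)).subtype.comp ψ, Ext.e8_v0 h2, one_ne_zero, fun u a => by rw [Ext.Q_e8, one_mul], fun g => ?_,
    (pt (Ext.v0 F₃)).subtype_injective.comp h1, ?_⟩
  · obtain ⟨s, rfl⟩ := e7.surjective g
    refine ⟨(Ext.exX h2 s).1, ?_, fun u a => Ext.exX_apply h2 s u a⟩
    change ((Ext.piT Ext.Q_v0_ne (Ext.exX h2 (e7.symm (e7 s))) : pt (Ext.v0 F₃)) : G₃) = _
    rw [MulEquiv.symm_apply_apply]
    rfl
  · rw [MonoidHom.range_comp, MonoidHom.range_eq_top.2 h4.2, ← MonoidHom.range_eq_map, Subgroup.range_subtype]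

theorem exists_td {v : V₃} (hv : Q₃ v ≠ 0) : ∃ E c φ, Td v E c φ := by
  obtain ⟨φ, t⟩ := td_zero
  obtain ⟨M, hM⟩ := Ext.exists_gam Ext.Q_v0_ne hv
  obtain ⟨σ, c, h⟩ := M.2
  have hσ : ∀ a, σ a = a := fun a => DFunLike.congr_fun (RingHom.ext_zmod (σ : F₃ →+* F₃) (RingHom.id _)) a
  have hs : ∀ (a : F₃) (x : V₃), M.1 (a • x) = a • M.1 x := fun a x => by rw [h.smul, hσ]
  let L : V₃ ≃ₗ[F₃] V₃ := { M.1 with map_add' := h.add, map_smul' := hs }
  have hL : ∀ p, ((Ext.e8 h2).trans L) p = M.1 (Ext.e8 h2 p) := fun _ => rfl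
  refine ⟨(Ext.e8 h2).trans L, c, (ph F₃ M).toMonoidHom.comp φ, by rw [hL, t.ev, hM], h.ne, fun u a => ?_, fun g => ?_,
    (ph F₃ M).injective.comp t.inj, ?_⟩
  · have h1 : Q₃ (M.1 (Ext.e8 h2 (u, a))) = c * σ (Q₃ (Ext.e8 h2 (u, a))) := h.form _
    rw [hL, h1, hσ, t.eq, one_mul]
  · obtain ⟨y, h1, h3⟩ := t.ap g
    obtain ⟨y', h4, h5⟩ := exists_ph M y
    refine ⟨y', ?_, fun u a => by rw [hL, hL, h5, h3]⟩
    rw [← h4, ← h1]
    rfl
  · rw [MonoidHom.range_comp, t.rg, ← hM]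
    exact im_pt M _

/-- the image of a subspace -/
def up (E : (W7 × F₃) ≃ₗ[F₃] V₃) (U : Submodule F₃ W7) : Submodule F₃ V₃ :=
  U.map (E.toLinearMap ∘ₗ LinearMap.inl F₃ W7 F₃)

variable {v : V₃} {E : (W7 × F₃) ≃ₗ[F₃] V₃} {c : F₃} {φ : O7 →* G₃}

theorem E_inj {u w : W7} (h : E (u, 0) = E (w, 0)) : u = w := congrArg Prod.fst (E.injective h)

theorem mem_up {U : Submodule F₃ W7} {x : V₃} : x ∈ up E U ↔ ∃ u ∈ U, E (u, 0) = x := Iff.rfl

theorem finrank_up (U : Submodule F₃ W7) : finrank F₃ (up E U) = finrank F₃ U :=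
  (Submodule.equivMapOfInjective _ (fun _ _ h => E_inj h) U).finrank_eq.symm

theorem up_ne {U : Submodule F₃ W7} (h : U ≠ ⊥) : up E U ≠ ⊥ := by
  rwa [Ne, ← Submodule.finrank_eq_zero, finrank_up, Submodule.finrank_eq_zero]

theorem Td.polar (t : Td v E c φ) (u w : W7) (a b : F₃) :
    polar Q₃ (E (u, a)) (E (w, b)) = c * (bf u w - 2 * a * b) := by
  rw [QuadraticMap.polar, ← map_add, Prod.mk_add_mk, t.eq, t.eq, t.eq, qf_add]
  ring

theorem Td.perp (t : Td v E c φ) (u : W7) : QuadraticMap.polar Q₃ v (E (u, 0)) = 0 := by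
  rw [← t.ev, t.polar, bf_comm, Oo.bf_zero]
  ring

theorem Td.mem_St (t : Td v E c φ) {g : O7} {U : Submodule F₃ W7} : φ g ∈ St (up E U) ↔ ∀ u ∈ U, Oo.ap g.1 u ∈ U := by
  obtain ⟨y, h1, h3⟩ := t.ap g
  rw [h1, O8.mem_St]
  constructor
  · intro h u hu
    obtain ⟨w, hw, e⟩ := mem_up.1 (h _ (mem_up.2 ⟨u, hu, rfl⟩))
    rw [h3] at e
    rwa [← E_inj e]
  · intro h x hx
    obtain ⟨u, hu, rfl⟩ := mem_up.1 hx
    rw [h3]
    exact mem_up.2 ⟨_, h u hu, rfl⟩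

/-- the matrix group of a subgroup -/
def dn (φ : O7 →* G₃) (R : Subgroup G₃) : Subgroup (GL (Oo.I 3) F₃) := (R.comap φ).map O7.subtype

theorem mem_dn {R : Subgroup G₃} {g : O7} : g.1 ∈ dn φ R ↔ φ g ∈ R :=
  Subgroup.mem_map_iff_mem (f := O7.subtype) O7.subtype_injective

theorem dn_le {R : Subgroup G₃} : dn φ R ≤ O7 := Subgroup.map_subtype_le _

theorem Td.mem (t : Td v E c φ) (g : O7) : φ g ∈ pt v := t.rg ▸ ⟨g, rfl⟩

theorem Td.ex (t : Td v E c φ) {x : G₃} (hx : x ∈ pt v) : ∃ g, φ g = x := by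
  rw [← t.rg] at hx
  exact hx

theorem Td.max (t : Td v E c φ) {R : Subgroup G₃} (h : R ⋖ pt v) : IsMaximalIn O7 (dn φ R) := by
  refine ⟨lt_of_le_of_ne dn_le fun e => h.lt.not_ge fun x hx => ?_, fun M h1 h3 => ?_⟩
  · obtain ⟨g, rfl⟩ := t.ex hx
    exact mem_dn.1 (by rw [e]; exact g.2)
  · have h4 : R ≤ (M.subgroupOf O7).map φ := fun x hx => by
      obtain ⟨g, rfl⟩ := t.ex (h.le hx)
      exact ⟨g, h1 (mem_dn.2 hx), rfl⟩
    have h5 : (M.subgroupOf O7).map φ ≤ pt v := by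
      rintro _ ⟨g, -, rfl⟩
      exact t.mem g
    rcases h.eq_or_eq h4 h5 with e | e
    · refine Or.inl (le_antisymm (fun g hg => ?_) h1)
      exact (mem_dn (g := ⟨g, h3 hg⟩)).2 (e ▸ ⟨⟨g, h3 hg⟩, hg, rfl⟩)
    · refine Or.inr (le_antisymm h3 fun g hg => ?_)
      have h6 := t.mem ⟨g, hg⟩
      rw [← e] at h6
      obtain ⟨g', h7, h8⟩ := h6
      rw [t.inj h8] at h7
      exact h7

theorem Td.iso (t : Td v E c φ) {R : Subgroup G₃} (h : R ≤ pt v) : Nonempty (R ≃* dn φ R) :=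
  ⟨((MulEquiv.subgroupCongr (Subgroup.map_comap_eq_self (t.rg ▸ h)).symm).trans
    ((R.comap φ).equivMapOfInjective φ t.inj).symm).trans ((R.comap φ).equivMapOfInjective _ O7.subtype_injective)⟩

theorem Td.eq_of (t : Td v E c φ) {R K : Subgroup G₃} (h : R ≤ pt v) {S : Subgroup (GL (Oo.I 3) F₃)} (e : dn φ R = S ⊓ O7)
    (k : ∀ g : O7, φ g ∈ K ↔ g.1 ∈ S) : R = pt v ⊓ K := by
  have h1 : ∀ g : O7, φ g ∈ R ↔ φ g ∈ K := fun g => by
    rw [← mem_dn, e, k]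
    exact ⟨fun a => a.1, fun a => ⟨a, g.2⟩⟩
  refine le_antisymm (fun x hx => ?_) fun x hx => ?_
  · obtain ⟨g, rfl⟩ := t.ex (h hx)
    exact ⟨h hx, (h1 g).1 hx⟩
  · obtain ⟨g, rfl⟩ := t.ex hx.1
    exact (h1 g).2 hx.2

/-! ### orthogonal complements -/

/-- the bilinear form -/
abbrev B7 : LinearMap.BilinForm F₃ W7 := polarBilin (oddForm 3 F₃)

theorem B7_eq (u w : W7) : B7 u w = bf u w := (bf_eq u w).symm

theorem B7_nd : B7.Nondegenerate :=
  ⟨fun u h => bf_nondeg h2 fun w => by rw [← B7_eq, h], fun u h => bf_nondeg h2 fun w => by rw [bf_comm, ← B7_eq, h]⟩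

theorem B7_refl : B7.IsRefl := fun u w h => by rwa [B7_eq, bf_comm, ← B7_eq]

theorem mem_or {U : Submodule F₃ W7} {w : W7} : w ∈ B7.orthogonal U ↔ ∀ u ∈ U, bf u w = 0 :=
  forall₂_congr fun u _ => by rw [← B7_eq]

theorem finrank_or (U : Submodule F₃ W7) : finrank F₃ (B7.orthogonal U) = 7 - finrank F₃ U := by
  rw [LinearMap.BilinForm.finrank_orthogonal B7_nd, finrank_W]

theorem or_or (U : Submodule F₃ W7) : B7.orthogonal (B7.orthogonal U) = U :=
  LinearMap.BilinForm.orthogonal_orthogonal B7_nd B7_refl U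

theorem or_inv {g : GL (Oo.I 3) F₃} (hg : g ∈ O7) {U : Submodule F₃ W7} (h : g ∈ subspaceStabilizer U) :
    g ∈ subspaceStabilizer (B7.orthogonal U) := mem_stab.2 fun w hw => mem_or.2 fun u hu => by
  rw [← ap_ap_inv g u, bf_ap (Om_le hg)]
  exact mem_or.1 hw _ (mem_stab.1 (inv_mem h) u hu)

theorem Td.nd (t : Td v E c φ) {U : Submodule F₃ W7} (h : ∀ w ∈ U, (∀ u ∈ U, bf u w = 0) → w = 0) : Nd (up E U) := by
  intro d hd k
  obtain ⟨w, hw, rfl⟩ := mem_up.1 hd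
  have h1 := h w hw fun u hu => by
    have h3 := k _ (mem_up.2 ⟨u, hu, rfl⟩)
    rw [t.polar, mul_zero, sub_zero, bf_comm] at h3
    exact (mul_eq_zero.1 h3).resolve_left t.c0
  rw [h1]
  exact map_zero E

theorem Td.sub (t : Td v E c φ) {R : Subgroup G₃} (h : R ≤ pt v) {U : Submodule F₃ W7} (h0 : U ≠ ⊥) (h3 : finrank F₃ U ≤ 3)
    (h4 : Ts (up E U) ∨ Nd (up E U)) (e : dn φ R = subspaceStabilizer U ⊓ O7) :
    ∃ D : Submodule F₃ V₃, D ≠ ⊥ ∧ finrank F₃ D ≤ 3 ∧ (∀ d ∈ D, QuadraticMap.polar Q₃ v d = 0) ∧ (Ts D ∨ Nd D) ∧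
      R = pt v ⊓ St D := by
  refine ⟨up E U, up_ne h0, by rwa [finrank_up], fun d hd => ?_, h4, t.eq_of h e fun g => t.mem_St.trans mem_stab.symm⟩
  obtain ⟨w, -, rfl⟩ := mem_up.1 hd
  exact t.perp w

/-! ### frames -/

theorem det_gram (f : Oo.I 3 → W7) (d : Oo.I 3 → F₃) (h : ∀ i j, bf (f i) (f j) = if i = j then d i else 0) :
    ∃ s : F₃, ∏ i, d i = s * s * (LinearMap.BilinForm.toMatrix' B7).det := by
  have h1 : Matrix.diagonal d = Matrix.of f * LinearMap.BilinForm.toMatrix' B7 * (Matrix.of f)ᵀ := by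
    ext i j
    rw [Matrix.diagonal_apply, ← h, ← B7_eq]
    conv_lhs => rw [← Matrix.toBilin'_toMatrix' B7, Matrix.toBilin'_apply, Finset.sum_comm]
    simp only [Matrix.mul_apply, Matrix.of_apply, Matrix.transpose_apply, Finset.sum_mul]
  refine ⟨(Matrix.of f).det, ?_⟩
  rw [← Matrix.det_diagonal, h1, Matrix.det_mul, Matrix.det_mul, Matrix.det_transpose]
  ring

/-- an orthogonal basis -/
def f0 : Oo.I 3 → W7 :=
  Sum.elim (fun _ => Sum.elim (fun _ => 1) fun _ => 0)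
    (Sum.elim (fun i => Sum.elim (fun _ => 0) (Sum.elim (fun k => if i = k then 1 else 0) fun k => if i = k then 1 else 0))
      fun i => Sum.elim (fun _ => 0) (Sum.elim (fun k => if i = k then 1 else 0) fun k => if i = k then -1 else 0))

/-- its norms -/
def d0 : Oo.I 3 → F₃ := Sum.elim (fun _ => 2) (Sum.elim (fun _ => 2) fun _ => -2)

theorem f0_or : ∀ i j, bf (f0 i) (f0 j) = if i = j then d0 i else 0 := by decide

theorem norm_frame (f : Fin 7 → W7) (h1 : ∀ i, qf (f i) = 1) (h : ∀ i j, i ≠ j → bf (f i) (f j) = 0) : False := by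
  let e : Oo.I 3 ≃ Fin 7 := Fintype.equivFinOfCardEq (by decide)
  obtain ⟨s, hs⟩ := det_gram (fun i => f (e i)) (fun _ => 2) fun i j => by
    split_ifs with k
    · rw [k, bf_self, h1, mul_one]
    · exact h _ _ fun k' => k (e.injective k')
  obtain ⟨r, hr⟩ := det_gram f0 d0 f0_or
  have h3 : ∏ i, d0 i = 1 := by decide
  have h4 : ∏ _i : Oo.I 3, (2 : F₃) = 2 := by decide
  rw [h4] at hs
  rw [h3] at hr
  generalize (LinearMap.BilinForm.toMatrix' B7).det = D at hs hr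
  revert s r D
  decide

theorem Td.frame (t : Td v E c φ) {R : Subgroup G₃} (h : R ≤ pt v) {D : Fin 7 → Submodule F₃ W7}
    (hD : IsOrthogonalMDecomposition (quadFormOdd 3 F₃) 1 D) (e : dn φ R = decompositionStabilizer D ⊓ O7) :
    ∃ e, Fr v e ∧ R = FS v e := by
  have h0 := hD.decomp.decomp
  have h1 : ∀ i, ∃ u, u ≠ 0 ∧ Submodule.span F₃ {u} = D i := fun i => by
    obtain ⟨u, hu, k⟩ := (Submodule.ne_bot_iff (D i)).1 fun k => by
      have := h0.finrank_eq i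
      rw [k, finrank_bot] at this
      omega
    exact ⟨u, k, Submodule.eq_of_le_of_finrank_eq ((Submodule.span_singleton_le_iff_mem _ _).2 hu)
      (by rw [h0.finrank_eq, finrank_span_singleton k])⟩
  choose f f0 hf using h1
  have hm : ∀ i, f i ∈ D i := fun i => hf i ▸ Submodule.mem_span_singleton_self _
  have hs : ∀ {i w}, w ∈ D i → w ≠ 0 → w = f i ∨ w = -f i := fun {i w} hw k => by
    obtain ⟨a, rfl⟩ := Submodule.mem_span_singleton.1 (hf i ▸ hw)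
    rcases sgn (c := a) (fun k' => k (by rw [k', zero_smul])) with rfl | rfl
    · exact Or.inl (one_smul _ _)
    · exact Or.inr (neg_one_smul _ _)
  have ho : ∀ i j, i ≠ j → bf (f i) (f j) = 0 := fun i j k => hD.decomp.orthogonal i j k _ (hm i) _ (hm j)
  have hq : ∀ i, qf (f i) ≠ 0 := fun i k => by
    obtain ⟨y, hy, h6⟩ := (hD.decomp.nondegenerate i _ (hm i) (f0 i)).2
    obtain ⟨d, rfl⟩ := Submodule.mem_span_singleton.1 (hf i ▸ hy)
    exact h6 ((bf_smul d _ _).trans (by rw [bf_self, k, mul_zero, mul_zero]))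
  have hn : ∀ i, qf (f i) = qf (f 0) := fun i => by
    obtain ⟨l, hl⟩ := hD.isometric 0 i
    have h5 : qf (l ⟨f 0, hm 0⟩ : W7) = qf (f 0) := hl ⟨f 0, hm 0⟩
    rcases hs (l ⟨f 0, hm 0⟩).2 (fun k => hq 0 (by rw [← h5, k, qf_zero])) with k | k
    · rw [← h5, k]
    · rw [← h5, k, Oo.qf_neg]
  have hm1 : qf (f 0) = -1 := (sgn (hq 0)).resolve_left fun k => norm_frame f (fun i => (hn i).trans k) ho
  have hv : Q₃ v = -c := by
    rw [← t.ev, t.eq, qf_zero]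
    ring
  have hneg : ∀ u : W7, E (-u, 0) = -E (u, 0) := fun u => by rw [← map_neg, Prod.neg_mk, neg_zero]
  refine ⟨fun i => E (f i, 0), ⟨by rw [hv]; exact neg_ne_zero.2 t.c0, fun i => ?_, fun i => t.perp _, fun i j k => ?_⟩,
    t.eq_of h e fun g => ?_⟩
  · rw [t.eq, hn, hm1, hv]
    ring
  · rw [t.polar, ho i j k]
    ring
  obtain ⟨y, h3, h4⟩ := t.ap g
  have hne : ∀ i, Oo.ap g.1 (f i) ≠ 0 := fun i k => f0 i (ap_inj g.1 (k.trans (Oo.ap_zero _).symm))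
  constructor
  · rintro ⟨y', h5, h6⟩
    obtain ⟨a, ha⟩ := mk8_eq (h3.symm.trans h6.symm)
    have h7 : ∀ i, ∃ j, Oo.ap g.1 (f i) ∈ D j := fun i => by
      obtain ⟨j, hj⟩ := (h5 (E (f i, 0))).1 ⟨i, Or.inl rfl⟩
      have h8 : E (Oo.ap g.1 (f i), 0) = a • ln y' (E (f i, 0)) := (h4 _ _).symm.trans (ha _)
      refine ⟨j, ?_⟩
      rcases hj with k | k
      · rw [k, ← map_smul, Prod.smul_mk, smul_zero] at h8
        rw [E_inj h8]
        exact Submodule.smul_mem _ _ (hm j)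
      · rw [k, ← hneg, ← map_smul, Prod.smul_mk, smul_zero] at h8
        rw [E_inj h8]
        exact Submodule.smul_mem _ _ (neg_mem (hm j))
    choose σ hσ using h7
    have h8 : Function.Injective σ := fun i j k => by
      by_contra k'
      have h9 := ho i j k'
      rw [← bf_ap (Om_le g.2)] at h9
      have h10 : bf (f (σ j)) (f (σ j)) ≠ 0 := by
        rw [bf_self]
        exact mul_ne_zero h2 (hq _)
      have h11 : ∀ u w : W7, bf (-u) w = -bf u w := fun u w => by rw [← neg_one_smul F₃ u, bf_smul', neg_one_mul]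
      have h12 : ∀ u w : W7, bf u (-w) = -bf u w := fun u w => by rw [← neg_one_smul F₃ w, bf_smul, neg_one_mul]
      rcases hs (k ▸ hσ i) (hne i) with a1 | a1 <;> rcases hs (hσ j) (hne j) with a2 | a2 <;> rw [a1, a2] at h9
      · exact h10 h9
      · exact h10 (neg_eq_zero.1 ((h12 _ _).symm.trans h9))
      · exact h10 (neg_eq_zero.1 ((h11 _ _).symm.trans h9))
      · rw [h11, h12, neg_neg] at h9
        exact h10 h9
    refine ⟨Equiv.ofBijective σ (Finite.injective_iff_bijective.1 h8), fun i => ?_⟩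
    rw [Equiv.ofBijective_apply, ← hf i, Submodule.map_span, Set.image_singleton, Matrix.toLin'_apply]
    exact Submodule.eq_of_le_of_finrank_eq ((Submodule.span_singleton_le_iff_mem _ _).2 (hσ i))
      (by rw [h0.finrank_eq, finrank_span_singleton (hne i)])
  · rintro ⟨σ, hσ⟩
    have h5 : ∀ i, ln y (E (f i, 0)) = E (f (σ i), 0) ∨ ln y (E (f i, 0)) = -E (f (σ i), 0) := fun i => by
      have h6 : Oo.ap g.1 (f i) ∈ D (σ i) := hσ i ▸ ⟨f i, hm i, Matrix.toLin'_apply _ _⟩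
      rw [h4, ← hneg]
      exact (hs h6 (hne i)).imp (fun k => by rw [k]) fun k => by rw [k]
    refine ⟨y, iff_of_maps (ln_injective y) ?_, h3.symm⟩
    rintro w ⟨i, rfl | rfl⟩
    · exact ⟨σ i, h5 i⟩
    · rw [map_neg]
      exact ⟨σ i, (h5 i).symm.imp (fun k => by rw [k, neg_neg]) fun k => by rw [k]⟩

/-! ### the residual class -/

theorem card_core {H P : Subgroup (GL (Oo.I 3) F₃)} (h : IsResidualCore H P) {T : Type} [Group T]
    (e : (P ⧸ (scalars (Oo.I 3) F₃).subgroupOf P) ≃* T) : Nat.card T ∣ Nat.card P ∧ Nat.card P ∣ Nat.card H :=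
  ⟨Nat.card_congr e.toEquiv ▸ Subgroup.card_quotient_dvd_card _, Subgroup.card_dvd_of_le h.le⟩

theorem card_psp : Nat.card (PSp 3 (ZMod 2)) = 1451520 := by
  have h := Ext.card_psp (F := ZMod 2)
  rw [ZMod.card] at h
  norm_num at h
  exact h

theorem card_g2 : Nat.card (Lie.chevG2.group F₃) = 4245696 := (S1059.result (F := F₃) (q := 3) (ZMod.card 3)).trans (by norm_num)

theorem card_aut_g2 : Nat.card (MulAut (Lie.chevG2.group F₃)) ∣ 2 * 4245696 := by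
  have := Fact.mk Nat.prime_three
  have h1 := S2121.result (F := F₃) 3 1 (by rw [ZMod.card, pow_one]) (by norm_num)
  rw [if_pos rfl, mul_one] at h1
  rw [Subgroup.card_eq_card_quotient_mul_card_subgroup (Inn (Lie.chevG2.group F₃)), ← card_g2]
  refine Nat.mul_dvd_mul (h1 ▸ dvd_rfl) ?_
  rw [← Subgroup.index_ker]
  exact Subgroup.index_dvd_card _

theorem res {H : Subgroup (GL (Oo.I 3) F₃)} (hH : IsMaximalIn O7 H) (hS : InOrthogonalResidualClass H) :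
    (181440 ∣ Nat.card H ∧ Nat.card H ∣ 362880) ∨ (IsSimpleGroup H ∧ Nat.card H = 1451520) ∨
      (4245696 ∣ Nat.card H ∧ Nat.card H ∣ 2 * 4245696) := by
  obtain ⟨P, hP, ⟨⟨e⟩, -⟩ | ⟨⟨e⟩, -⟩ | ⟨⟨e⟩⟩⟩ := S5815.result hodd H hH hS
  · obtain ⟨h1, h3⟩ := card_core hP e
    have h4 := Oo.Sev.card_res hH.1.le hP e
    rw [Oo.Sev.card_aut_alt] at h4
    rw [nat_card_alternatingGroup, Nat.card_eq_fintype_card, Fintype.card_fin] at h1
    exact Or.inl ⟨h1.trans h3, h4⟩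
  · obtain ⟨h1, h3⟩ := card_core hP e
    have h4 := Oo.Sev.card_res hH.1.le hP e
    rw [Oo.Sev.card_aut_psp] at h4
    rw [card_psp] at h1
    have h5 : Nat.card H = 1451520 := Nat.dvd_antisymm h4 (h1.trans h3)
    have h6 : P = H := Subgroup.eq_of_le_of_card_ge hP.le (Nat.le_of_dvd Nat.card_pos (h5 ▸ h1))
    subst h6
    have h7 : (scalars (Oo.I 3) F₃).subgroupOf P = ⊥ :=
      eq_bot_iff.2 fun x hx => Subtype.ext (scalars_inf (hH.1.le x.2) hx)
    have := hP.simple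
    exact Or.inr (Or.inl ⟨((QuotientGroup.quotientMulEquivOfEq h7).trans QuotientGroup.quotientBot).symm.isSimpleGroup, h5⟩)
  · obtain ⟨e'⟩ := H638.G2Iso.equiv (F := F₃)
    obtain ⟨h1, h3⟩ := card_core hP (e.trans e')
    rw [card_g2] at h1
    exact Or.inr (Or.inr ⟨h1.trans h3, (Oo.Sev.card_res hH.1.le hP (e.trans e')).trans card_aut_g2⟩)

theorem Td.ts (t : Td v E c φ) {R : Subgroup G₃} (h : R ≤ pt v) {U : Submodule F₃ W7} (h0 : U ≠ ⊥) (h1 : Oo.Ts U)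
    (e : dn φ R = subspaceStabilizer U ⊓ O7) :
    ∃ D : Submodule F₃ V₃, D ≠ ⊥ ∧ finrank F₃ D ≤ 3 ∧ (∀ d ∈ D, QuadraticMap.polar Q₃ v d = 0) ∧ (Ts D ∨ Nd D) ∧
      R = pt v ⊓ St D := by
  refine t.sub h h0 ?_ (Or.inl fun d hd => ?_) e
  · have h3 : U ≤ B7.orthogonal U := fun w hw => mem_or.2 fun u hu => Oo.Ts.bf h1 hu hw
    have h4 : finrank F₃ U ≤ finrank F₃ (B7.orthogonal U) := Submodule.finrank_mono h3
    rw [finrank_or] at h4
    omega
  · obtain ⟨w, hw, rfl⟩ := mem_up.1 hd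
    rw [t.eq, h1 w hw, mul_zero, sub_zero, mul_zero]

theorem Td.ev' (t : Td v E c φ) {R : Subgroup G₃} (h : R ≤ pt v) {U : Submodule F₃ W7} (h0 : U ≠ ⊥)
    (h1 : Even (finrank F₃ U)) (h3 : IsNondegenerateOn (QuadraticMap.polar (quadFormOdd 3 F₃)) U)
    (e : dn φ R = subspaceStabilizer U ⊓ O7) :
    ∃ D : Submodule F₃ V₃, D ≠ ⊥ ∧ finrank F₃ D ≤ 3 ∧ (∀ d ∈ D, QuadraticMap.polar Q₃ v d = 0) ∧ (Ts D ∨ Nd D) ∧
      R = pt v ⊓ St D := by
  have h4 : ∀ w ∈ U, (∀ u ∈ U, bf u w = 0) → w = 0 := fun w hw k => by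
    by_contra k'
    obtain ⟨x, hx, h5⟩ := (h3 w hw k').1
    exact h5 (k x hx)
  by_cases h5 : finrank F₃ U ≤ 3
  · exact t.sub h h0 h5 (Or.inr (t.nd h4)) e
  have h6 : finrank F₃ U ≤ 7 := (Submodule.finrank_le U).trans (finrank_W (m := 3) (F := F₃)).le
  have h7 := finrank_or U
  obtain ⟨k, hk⟩ := h1
  refine t.sub (U := B7.orthogonal U) h (fun h8 => ?_) (by omega) (Or.inr (t.nd fun w hw h8 => ?_)) ?_
  · rw [h8, finrank_bot] at h7
    omega
  · exact h4 w (or_or U ▸ mem_or.2 h8) (mem_or.1 hw)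
  · refine e.trans (le_antisymm (fun g hg => ⟨or_inv hg.2 hg.1, hg.2⟩) fun g hg => ⟨?_, hg.2⟩)
    have h8 := or_inv hg.2 hg.1
    rwa [or_or] at h8

end M7

open M7 in
/-- **the maximal subgroups of the stabiliser of a nonsingular point** -/
theorem boxM7 : BoxM7 := by
  intro v hv R hR
  obtain ⟨E, c, φ, t⟩ := exists_td hv
  have hH := t.max hR
  rcases S5814.result hodd _ hH with ⟨U, h0, h1, e⟩ | ⟨U, h0, h1, h3, -, e⟩ | ⟨-, D, hD, e⟩ | ⟨F₀, s, P, hs, hF, -⟩ | hS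
  · exact Or.inl (t.ts hR.le h0 h1 e)
  · exact Or.inl (t.ev' hR.le h0 h1 h3 e)
  · exact Or.inr (Or.inl (t.frame hR.le hD e))
  · have h1 : (Nat.card F₀ ^ s).Prime := by
      rw [← hF, ZMod.card]
      exact Nat.prime_three
    exact absurd h1.eq_one_of_pow hs.ne_one
  · obtain ⟨e⟩ := t.iso hR.le
    rw [Nat.card_congr e.toEquiv]
    rcases res hH hS with h | h | h
    · exact Or.inr (Or.inr (Or.inl h))
    · have := h.1
      exact Or.inr (Or.inr (Or.inr (Or.inl ⟨e.isSimpleGroup, h.2⟩)))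
    · exact Or.inr (Or.inr (Or.inr (Or.inr ⟨h.1, fun k => absurd (k.trans h.2) (by norm_num),
        fun k => absurd (k.trans h.2) (by norm_num)⟩)))

end Cfsg.Agent.SM.O8.T3
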