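import Cfsg.Agent.SM.O8.Three.Defs
import Cfsg.Agent.SM.O8.Ext
import Cfsg.Agent.H55.OutGen
import Cfsg.Agent.FooteOrth.Spin
import Cfsg.Agent.S0293
import Cfsg.Agent.S0280
import Cfsg.Agent.S2604
import Cfsg.Agent.S2607
import Cfsg.Agent.S2608
import Cfsg.Agent.S3719
import Cfsg.Agent.SmallSimple.S1000.PSLFacts
import Cfsg.Agent.SolvableStructure.HallConverse

/-!
# SM (S3570), socle `PΩ⁺₈(3)`: outer automorphisms (helper83)

`boxOut : BoxOut`, `boxDM : BoxDM`; `iso_pt : pt v ≃* Ω₇(q)`, `inn_iff`.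
-/

set_option autoImplicit false

namespace Cfsg.Agent.SM.O8.T3

open Cfsg Cfsg.Agent.H886.O8R Cfsg.Agent.LieClassical.OrthCore Cfsg.Agent.FooteOrth
open Cfsg.Agent.H708.O8 (I8 T8)
open Cfsg.Agent.H823.O8S (mk8 gl8)
open Cfsg.Agent.H198.Carriers (plusQ neutral_plusQ)
open Cfsg.Agent.H198.Classes (gamO kappa_of_E)
open Cfsg.Agent.H198.ClassesPlus (sgn_kappa sgn_eq_one_iff)
open Cfsg.Agent.AutOrth.Main (oe oe_apply)

namespace Out83

/-- the stabiliser of a nonsingular point -/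
theorem iso_pt {F : Type} [Field F] [Fintype F] (h2 : (2 : F) ≠ 0) {v : I8 → F} (hv : quadFormPlus 4 F v ≠ 0) :
    Nonempty (pt v ≃* POmega F (quadFormOdd 3 F)) := by
  have ho := Ext.odd_card h2
  have hg : Nat.gcd 2 (Fintype.card F - 1) = 2 := Nat.gcd_eq_left (by
    obtain ⟨k, hk⟩ := ho
    omega)
  have h1 : Nat.card (POmega F (quadFormOdd 3 F)) = Nat.card (PSp 3 F) := by
    have h3 := H436.oodd_eq (F := F) (m := 3) le_rfl ho
    have h4 := H436.psp_eq (F := F) (m := 3) (by norm_num)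
    change 2 * _ = _ at h3
    change Nat.gcd 2 (Fintype.card F - 1) * _ = _ at h4
    rw [hg] at h4
    exact Nat.eq_of_mul_eq_mul_left two_pos (h3.trans h4.symm)
  have h3 := (Ext.ex_odd h2).2.1
  have h4 : Nat.card (POmega F (quadFormOdd 3 F)) ≤ Nat.card (Omega F (quadFormOdd 3 F)) :=
    Nat.card_le_card_of_surjective _ (QuotientGroup.mk'_surjective _)
  have h5 : Nat.card (Omega F (quadFormOdd 3 F)) ≤ Nat.card (Xw (Ext.v0 F)) :=
    Nat.card_le_card_of_injective _ (Ext.exX_inj h2)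
  have b1 : Function.Bijective (Ext.exX h2) := (Ext.exX_inj h2).bijective_of_nat_card_le (by omega)
  have b2 : Function.Bijective (QuotientGroup.mk' (Subgroup.center (Omega F (quadFormOdd 3 F)))) :=
    (QuotientGroup.mk'_surjective _).bijective_of_nat_card_le (by
      show _ ≤ Nat.card (POmega F (quadFormOdd 3 F))
      omega)
  obtain ⟨M, hM⟩ := Ext.exists_gam (Ext.Q_v0_ne (F := F)) hv
  exact ⟨(((MulEquiv.subgroupCongr (Ext.im_pt M Ext.Q_v0_ne hv hM).symm).trans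
    (MulEquiv.subgroupMap (ph F M) (pt (Ext.v0 F))).symm).trans
      (MulEquiv.ofBijective _ (Ext.piT_bij Ext.Q_v0_ne)).symm).trans
        ((MulEquiv.ofBijective _ b1).symm.trans (MulEquiv.ofBijective _ b2))⟩

theorem two_ne : (2 : F₃) ≠ 0 := by decide

theorem card_G : Nat.card G₃ = 4952179814400 := by
  have h := S0293.result (F := F₃) (q := 3) rfl 4 le_rfl
  rw [show Nat.gcd 4 (3 ^ 4 - 1) = 4 by norm_num] at h
  simp only [Nat.reduceSub, Finset.prod_range_succ, Finset.prod_range_zero] at h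
  change 4 * Nat.card G₃ = _ at h
  omega

open SmallSimple.PSLFacts in
theorem k3 {T : Type} [Group T] [Finite T] [IsSimpleGroup T] (h : Nat.card T ∣ 2 ^ 12 * (3 ^ 12 * 5 ^ 2)) :
    ¬ 25 ∣ Nat.card T := fun h1 => by
  have hna : ¬ IsMulCommutative T := fun k => by
    have h2 : (Nat.card T).Prime :=
      letI : CommGroup T := { ‹Group T› with mul_comm := k.1.1 }
      IsSimpleGroup.prime_card
    exact absurd ((Nat.dvd_prime h2).1 h1) (by
      rintro (h3 | h3)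
      · omega
      · rw [← h3] at h2
        norm_num at h2)
  have h2 : 3 ≤ (Nat.card T).primeFactors.card := not_lt.1 fun k => hna ⟨⟨IsSimpleGroup.comm_iff_isSolvable.2
    (SolvableStructure.HallConverse.isSolvable_of_no_three_primes (by omega))⟩⟩
  have h3 : (Nat.card T).primeFactors.card ≤ 3 :=
    (Finset.card_le_card (Nat.primeFactors_mono h (by norm_num))).trans (by decide +kernel)
  rcases S3719.result hna (le_antisymm h3 h2) with ⟨⟨e⟩⟩ | ⟨⟨e⟩⟩ | ⟨F, _, _, hF | hF | hF, ⟨e⟩⟩ | ⟨F, _, _, hF, ⟨e⟩⟩ |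
    ⟨F, _, _, hF, ⟨e⟩⟩ | ⟨F, _, _, hF, ⟨e⟩⟩ <;> rw [Nat.card_congr e.toEquiv] at h1
  · exact absurd (card_alt_five ▸ h1) (by norm_num)
  · exact absurd (card_alt_six ▸ h1) (by norm_num)
  · exact absurd (card_psl_two_seven hF ▸ h1) (by norm_num)
  · exact absurd (card_psl_two_eight hF ▸ h1) (by norm_num)
  · exact absurd (card_psl_two_seventeen hF ▸ h1) (by norm_num)
  · exact absurd (card_psl_three_three hF ▸ h1) (by norm_num)
  · exact absurd (card_psu_three_three hF ▸ h1) (by norm_num)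
  · have h4 := S0280.result (F := F) (q := 2) (by rw [hF]; norm_num) 4 (by norm_num)
    simp [Finset.prod_range_succ, Nat.even_iff] at h4
    omega

/-- an isometry is linear -/
theorem exists_O {M : Γ₃} (h : ∀ x, Q₃ (M.1 x) = Q₃ x) : ∃ g : O (plusQ 4 F₃), gamO _ g = M := by
  obtain ⟨σ, c, hM⟩ := M.2
  have h1 : ∀ a, σ a = a := fun a => DFunLike.congr_fun (RingHom.ext_zmod σ.toRingHom (RingHom.id _)) a
  exact ⟨⟨{ M.1 with map_add' := hM.add, map_smul' := fun a v => (hM.smul a v).trans (by rw [h1]; rfl) }, h⟩, rfl⟩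

theorem og_eq (y : Om F₃) : og F₃ y = gamO _ ⟨_, E_le_O (oe good8 y).2⟩ := rfl

theorem mem_E {g : O (plusQ 4 F₃)} : g.1 ∈ E (plusQ 4 F₃) ↔ kp F₃ (gamO _ g) = 1 ∧ sg _ g = 1 := by
  rw [mem_E_iff good8 two_ne g.2, ← sgn_kappa good8 (neutral_plusQ 4 F₃) g.2, sgn_eq_one_iff two_ne]

/-- the isometries which induce inner automorphisms -/
theorem inn_iff {g : O (plusQ 4 F₃)} : ph F₃ (gamO _ g) ∈ Inn G₃ ↔ kp F₃ (gamO _ g) = 1 ∧ sg _ g = 1 := by
  rw [← mem_E]
  constructor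
  · rintro ⟨x, hx⟩
    obtain ⟨y, rfl⟩ := mk8_surjective x
    obtain ⟨a, ha, h⟩ := (ph_eq_one (M := gamO _ g * (og F₃ y)⁻¹)).1 (by rw [map_mul, map_inv, ph_og, hx, mul_inv_cancel])
    have h1 : ∀ v, g.1 v = a • ln y v := fun v => by
      have h2 := h ((og F₃ y).1 v)
      rwa [Subgroup.coe_mul, Equiv.Perm.mul_apply, gam_inv_apply] at h2
    obtain ⟨z, -, hz⟩ := Ext.exists_neg F₃
    obtain rfl | rfl : a = 1 ∨ a = -1 := (by decide : ∀ a : F₃, a ≠ 0 → a = 1 ∨ a = -1) a ha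
    · rw [show g.1 = (oe good8 y).1 from LinearEquiv.ext fun v => (h1 v).trans (one_smul _ _)]
      exact (oe good8 y).2
    · rw [show g.1 = (oe good8 (z * y)).1 from LinearEquiv.ext fun v => (h1 v).trans
        (((neg_one_smul _ _).trans (hz _).symm).trans (ln_mul z y v).symm)]
      exact (oe good8 _).2
  · intro h
    obtain ⟨y, hy⟩ := (oe good8).surjective ⟨_, h⟩
    exact ⟨mk8 F₃ y, (ph_og y).symm.trans ((congrArg (ph F₃) (og_eq y)).trans
      (congrArg (fun k => ph F₃ (gamO _ k)) (Subtype.ext (congrArg (fun k : E (plusQ 4 F₃) => k.1) hy))))⟩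

/-- there is one diagonal automorphism among the isometries -/
theorem diag_eq {M N : Γ₃} (hM : ∀ x, Q₃ (M.1 x) = Q₃ x) (hN : ∀ x, Q₃ (N.1 x) = Q₃ x) (k1 : kp F₃ M = 1)
    (k2 : kp F₃ N = 1) (h1 : ph F₃ M ∉ Inn G₃) (h2 : ph F₃ N ∉ Inn G₃) :
    (ph F₃ M : Out G₃) = (ph F₃ N : Out G₃) := by
  obtain ⟨g, rfl⟩ := exists_O hM
  obtain ⟨k, rfl⟩ := exists_O hN
  rw [QuotientGroup.eq, ← map_inv, ← map_mul, ← map_inv, ← map_mul, inn_iff, map_mul, map_mul, map_mul, map_inv, map_inv,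
    map_inv, k1, k2, (Int.units_eq_one_or _).resolve_left fun e => h1 (inn_iff.2 ⟨k1, e⟩),
    (Int.units_eq_one_or (sg _ k)).resolve_left fun e => h2 (inn_iff.2 ⟨k2, e⟩)]
  exact ⟨rfl, inv_mul_cancel _⟩

theorem center_out : Subgroup.center (Out G₃) = ⊥ := by
  have : Fact (Nat.Prime 3) := ⟨Nat.prime_three⟩
  obtain ⟨e⟩ : Nonempty (Out G₃ ≃* Equiv.Perm (Fin 4) × Multiplicative (ZMod 1)) := by
    simpa using S2608.result (F := F₃) (p := 3) (f := 1) (m := 4) le_rfl rfl (by decide) le_rfl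
  have h : ∀ a : Equiv.Perm (Fin 4), (∀ b, b * a = a * b) → a = 1 := by decide +kernel
  refine (Subgroup.eq_bot_iff_forall _).2 fun d hd => e.injective ?_
  rw [map_one]
  refine Prod.ext (h _ fun b => ?_) (Subsingleton.elim _ _)
  have h1 := congrArg (fun z => (e z).1) (Subgroup.mem_center_iff.1 hd (e.symm (b, 1)))
  simpa using h1

end Out83

open Out83

/-- **Outer automorphisms.** -/
theorem boxOut : BoxOut where
  o7 X α v hv h := by
    have : Fact (Nat.Prime 3) := ⟨Nat.prime_three⟩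
    obtain ⟨e⟩ := iso_pt two_ne hv
    obtain ⟨f⟩ := S2604.result (F := F₃) (p := 3) (f := 1) (m := 3) le_rfl rfl (by decide) le_rfl
    rw [H55.OutGen.card_out_congr (((MulEquiv.subgroupMap α X).trans (MulEquiv.subgroupCongr h)).trans e),
      Nat.card_congr f.toEquiv]
    simp
  o8 X := by
    rintro ⟨K, _, _, hK, ⟨e⟩⟩
    obtain ⟨f⟩ : Nonempty (Out (POmega K (quadFormPlus 4 K)) ≃* Equiv.Perm (Fin 3) × Multiplicative (ZMod 1)) := by
      simpa using S2607.result (F := K) (f := 1) (m := 4) le_rfl hK le_rfl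
    rw [H55.OutGen.card_out_congr e, Nat.card_congr f.toEquiv]
    simp [Fintype.card_perm, Nat.factorial]
  k3 X hX h := by
    by_contra! h1
    refine k3 (T := X) ?_ h
    have h2 : Nat.card X ∣ 2 ^ 12 * (3 ^ 12 * 5 ^ 2) * 7 * 13 := by
      rw [show 2 ^ 12 * (3 ^ 12 * 5 ^ 2) * 7 * 13 = 4952179814400 by norm_num, ← card_G]
      exact Subgroup.card_subgroup_dvd_card X
    exact ((Nat.Prime.coprime_iff_not_dvd (by norm_num)).2 h1.1).symm.dvd_of_dvd_mul_right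
      (((Nat.Prime.coprime_iff_not_dvd (by norm_num)).2 h1.2).symm.dvd_of_dvd_mul_right h2)

/-- **The diagonal automorphism.** -/
theorem boxDM : BoxDM := by
  intro α hα a b ha hb hab M hM
  by_contra! hQ
  set D := rf a ha * rf b hb with hD
  have hD1 : D = gamO _ (⟨refl (plusQ 4 F₃) a ha, refl_mem_O ha⟩ * ⟨refl (plusQ 4 F₃) b hb, refl_mem_O hb⟩) :=
    (map_mul _ _ _).symm
  have hQD : ∀ x, Q₃ (D.1 x) = Q₃ x := fun x => by
    rw [hD1]
    exact (⟨refl (plusQ 4 F₃) a ha, refl_mem_O ha⟩ * ⟨refl (plusQ 4 F₃) b hb, refl_mem_O hb⟩ : O (plusQ 4 F₃)).2 x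
  have hk : kp F₃ D = 1 := by rw [hD, map_mul, kp_rf, kp_rf, neg_mul_neg, mul_one]
  have hn : ph F₃ D ∉ Inn G₃ := by
    rw [hD1, inn_iff, map_mul (sg _)]
    rintro ⟨-, h⟩
    exact (by decide : ∀ s t : F₃, s * t = -1 →
      (if IsSquare s then -1 else 1 : ℤˣ) * (if IsSquare t then -1 else 1) ≠ 1) _ _ hab
        ((congrArg₂ (· * ·) (sg_refl (Q := plusQ 4 F₃) two_ne ha) (sg_refl (Q := plusQ 4 F₃) two_ne hb)).symm.trans h)
  have hn' : ∀ β : MulAut G₃, β * ph F₃ D * β⁻¹ ∉ Inn G₃ := fun β h => hn (by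
    have h1 := (innNormal G₃).conj_mem _ h β⁻¹
    rwa [show β⁻¹ * (β * ph F₃ D * β⁻¹) * β⁻¹⁻¹ = ph F₃ D by group] at h1)
  let C := (Subgroup.centralizer ({(ph F₃ D : Out G₃)} : Set (Out G₃))).comap (QuotientGroup.mk' (Inn G₃))
  have hC : ∀ (β : MulAut G₃) (N : Γ₃), (∀ x, Q₃ (N.1 x) = Q₃ x) → kp F₃ N = 1 → ph F₃ N = β * ph F₃ D * β⁻¹ → β ∈ C :=
    fun β N h1 h2 h3 => by
      have h4 := diag_eq h1 hQD h2 hk (h3 ▸ hn' β) hn
      rw [h3, QuotientGroup.mk_mul, QuotientGroup.mk_mul, QuotientGroup.mk_inv, mul_inv_eq_iff_eq_mul] at h4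
      exact Subgroup.mem_centralizer_singleton_iff.2 h4
  have h1 : (ph F₃).range ≤ C := by
    rintro _ ⟨N, rfl⟩
    refine hC _ (N * D * N⁻¹) (fun x => ?_) (by rw [map_mul, map_mul, hk, map_inv, mul_one, mul_inv_cancel])
      (by rw [map_mul, map_mul, map_inv])
    obtain ⟨σ, c, hN⟩ := N.2
    exact (hN.form _).trans ((congrArg (fun t => c * σ t) (hQD _)).trans
      ((hN.form _).symm.trans (congrArg Q₃ (gam_apply_inv N x))))
  have h2 : α ∈ C := hC α M hQ ((Int.units_eq_one_or _).resolve_right fun e =>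
    not_nt_conj (α := α⁻¹) (fun h => hα (inv_inv α ▸ h.inv)) e (by
      rw [hM, show α⁻¹ * (α * ph F₃ D * α⁻¹) * α⁻¹⁻¹ = ph F₃ D by group]
      exact nt_ph D)) hM
  have h3 : C = ⊤ := by
    have h4 := Subgroup.relIndex_mul_index h1
    rw [index_ph] at h4
    rcases (Nat.dvd_prime Nat.prime_three).1 (Dvd.intro_left _ h4) with h5 | h5
    · exact Subgroup.index_eq_one.1 h5
    · rw [h5] at h4
      exact absurd (Subgroup.relIndex_eq_one.1 (by omega) h2) hα
  refine hn ((QuotientGroup.eq_one_iff _).1 (Subgroup.mem_bot.1 (center_out ▸ Subgroup.mem_center_iff.2 fun x => ?_)))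
  obtain ⟨β, rfl⟩ := QuotientGroup.mk_surjective x
  exact Subgroup.mem_centralizer_singleton_iff.1 (show β ∈ C from h3 ▸ Subgroup.mem_top β)

end Cfsg.Agent.SM.O8.T3
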