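import Cfsg.Agent.SM.O8.Three.Defs
import Cfsg.Agent.SM.O8.Own

/-!
# SM (S3570), socle `PΩ⁺₈(3)`: the residual class in characteristic 3 (helper40)
-/

set_option autoImplicit false
set_option linter.unusedSectionVars false

namespace Cfsg.Agent.SM.O8.T3

namespace Own

open Cfsg Cfsg.Geo Cfsg.Agent.OrdDiv Cfsg.Agent.H436 Cfsg.Agent.H915.GN Cfsg.Agent.H264.GN Cfsg.Agent.H264.FKS
open Cfsg.Agent.H902 Cfsg.Agent.H902.Names Cfsg.Agent.H708.O8 Cfsg.Agent.H915.LD Cfsg.Agent.H884.El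
open Cfsg.Agent.H659.O8 Cfsg.Agent.H823.O8S
open Cfsg.Agent.H911.O8S (charP_of nd_plus mem_fix)
open Cfsg.Agent.H823.O8R (Sp6)
open scoped MatrixGroups Matrix

theorem not_big {n m : ℕ} (h : Big n) (hm : n ∣ m)
    (h1 : ¬ 5 ∣ m ∨ (¬ 27 ∣ m ∧ ¬ 25 ∣ m ∧ ¬ 13 ∣ m)) (h2 : ¬ 13 * 3 ^ 7 ∣ m) : False := by
  rcases h with ⟨h3, h4⟩ | h3
  · rcases h1 with h1 | ⟨h5, h6, h7⟩
    · exact h1 (h3.trans hm)
    · rcases h4 with h4 | h4 | h4
      · exact h5 (h4.trans hm)
      · exact h6 (h4.trans hm)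
      · exact h7 (h4.trans hm)
  · exact h2 (h3.trans hm)

theorem big_dvd {n : ℕ} (h : Big n) : 5 ∣ n ∨ 13 ∣ n := by
  rcases h with ⟨h3, -⟩ | h3
  · exact Or.inl h3
  · exact Or.inr ((Dvd.intro _ rfl).trans h3)

section
variable {F : Type} [Field F] [Fintype F] {g : Grp}

/-- the bound on the top exponent of the socle -/
theorem key (hF : Nat.card F = 3 ^ 1) {R : Subgroup (T8 F)} (S : Subgroup R) (hn : IsNamed g S) (hch : HasChar 3 g) :
    ∃ f, 1 ≤ f ∧ fld g = 3 ^ f ∧ f * Mg g ≤ 6 := by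
  have hp : Nat.Prime 3 := Nat.prime_three
  have hT8 : Nat.gcd 4 ((3 ^ 1) ^ 4 - 1) * Nat.card (T8 F) =
      (3 ^ 1) ^ (4 * (4 - 1)) * (((3 ^ 1) ^ 4 - 1) * prB (3 ^ 1) (4 - 1)) := by
    have h1 := oplus_eq (F := F) (m := 4) le_rfl
    rw [← Nat.card_eq_fintype_card, hF] at h1
    exact h1
  have hSR : Nat.card S ∣ Nat.card (T8 F) := (Subgroup.card_subgroup_dvd_card S).trans (Subgroup.card_subgroup_dvd_card R)
  have hT : TD 3 1 (Nat.card S) (fun i => 1 ≤ i ∧ i ≤ 6 ∧ (2 ∣ i ∨ i = 4)) 6 12 := by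
    refine td_oplus hp le_rfl (n := 4) (by norm_num) (hSR.trans ?_)
    rw [← hT8]
    exact Dvd.intro_left _ rfl
  obtain ⟨f, hf, hfl, hK, hY⟩ := kd_all hp hn.cond hch hn.eq
  exact ⟨f, hf, hfl, top_le hp le_rfl hK hY hT⟩

set_option maxHeartbeats 2000000 in
theorem own (hF : Nat.card F = 3 ^ 1) {R : Subgroup (T8 F)} (hR : R ≠ ⊤)
    (S : Subgroup R) [S.Normal] (hS : IsSimpleGroup S) (hna : ¬ IsMulCommutative S)
    (hC : Subgroup.centralizer (S : Set R) = ⊥) {P : Subgroup (GL I8 F)}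
    (hP : IsResidualCore (pre (quadFormPlus 4 F) R) P) (e : S ≃* H915.LD.Soc P) (hL : IsLieTypeChar 3 (H915.LD.Soc P))
    (hN : Big (Nat.card R)) : Sp6 3 1 S := by
  have hp : Nat.Prime 3 := Nat.prime_three
  have hpf : Fact (Nat.Prime 3) := ⟨hp⟩
  have hch : CharP F 3 := charP_of hp hF
  have hcore := core_of_residual hP
  have hs := hcore.simple
  have h8 : Fintype.card I8 = 8 := by rw [Fintype.card_sum, Fintype.card_fin]
  have nd := nd_plus 4 F
  have hle : P ≤ omegaGL (quadFormPlus 4 F) := hP.le.trans pre_le_omegaGL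
  have hfix : FixesQuadForm (matrixSet P) (quadFormPlus 4 F) := by
    rintro _ ⟨x, hx, rfl⟩ v
    exact mem_fix (hle hx) v
  have hFQ : FixQ P := ⟨_, nd, hfix⟩
  have hsd : SD P := H879.Nine.sd_of_fixQ hFQ
  have K1 : ∀ {g : Grp}, IsNamed g S → HasChar 3 g → ∃ f, 1 ≤ f ∧ fld g = 3 ^ f ∧ f * Mg g ≤ 6 :=
    fun hn hc => key hF S hn hc
  have hFc : Fintype.card F = 3 ^ 1 := by rw [← Nat.card_eq_fintype_card]; exact hF
  let ε : I8 ≃ Fin 8 := Fintype.equivFinOfCardEq h8
  rcases H905.Md.small_dc (p := 3) hcore.absIrred.1 hcore.perfect hL (by rw [h8]; norm_num) with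
    h' | h' | h' | h' | h' | h' | h' | h' | h' | h' | h'
  · obtain ⟨K, i1, i2, i3, l, hl, hK, ⟨e'⟩⟩ := h'
    have hn : IsNamed (.psl (l + 1) (Fintype.card K)) S := by
      refine .mk' ⟨K, inferInstance, inferInstance, rfl, ⟨e.trans e'⟩⟩
        ⟨by omega, fun h => by rw [← Nat.card_eq_fintype_card]; exact hK (by omega), Fintype.isPrimePow_card_of_field⟩ ?_
      rw [Nat.card_congr (e.trans e').toEquiv]
      exact psl_eq (by omega)
    obtain ⟨f, hf, hfl, hM⟩ := K1 hn (exists_pow_card K)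
    have hfl' : Fintype.card K = 3 ^ f := hfl
    have hM' : f * (l + 1) ≤ 6 := hM
    exfalso
    rcases (show l = 1 ∨ l = 2 ∨ 3 ≤ l by omega) with rfl | rfl | hl3
    · have h4 : 4 ≤ 3 ^ f := by
        rw [← hfl', ← Nat.card_eq_fintype_card]
        exact hK rfl
      have h1 := S0813.result 3 f hf hfl' 2 le_rfl fun _ => h4
      have h2 := S0243.result (F := K) hfl' 2 le_rfl
      rw [H364.OutLie.card_pgl le_rfl, ← H364.OutLie.mulaut_congr (e.trans e'), if_pos rfl, one_mul, hfl'] at h1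
      rw [Fin.prod_univ_two] at h2
      have h3 := dvd_aut S hC
      rw [h1] at h3
      generalize Nat.card (Matrix.ProjectiveSpecialLinearGroup (Fin 2) K) = c at h2 h3
      rcases (show f = 1 ∨ f = 2 ∨ f = 3 by omega) with rfl | rfl | rfl
      · omega
      · norm_num at h2 h3
        obtain rfl : c = 360 := by omega
        exact not_big hN h3 (by norm_num) (by norm_num)
      · norm_num at h2 h3
        obtain rfl : c = 9828 := by omega
        exact not_big hN h3 (by norm_num) (by norm_num)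
    · obtain ⟨-, -, h1, -⟩ := H911.Ad.sd_psl3 (p := 3) hcore hsd e' (by rw [h8]; norm_num)
      rw [h8] at h1
      omega
    · have h2 : l + 1 < 8 := by
        have : 1 * (l + 1) ≤ f * (l + 1) := Nat.mul_le_mul_right _ hf
        omega
      have := (H887.DS.sd_of_psl 3 hcore (m := l + 1) (by omega) (by rw [h8]; exact h2) (by rw [h8]; omega) e').2.1
      omega
  · obtain ⟨K, i1, i2, i3, m, hm, hm8, hK, ⟨e'⟩⟩ := h'
    rw [h8] at hm8
    have hn : IsNamed (.psp m (Fintype.card K)) S := by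
      refine .mk' ⟨K, inferInstance, inferInstance, rfl, ⟨e.trans e'⟩⟩
        ⟨by omega, hK, Fintype.isPrimePow_card_of_field⟩ ?_
      rw [Nat.card_congr (e.trans e').toEquiv]
      exact psp_eq hm
    obtain ⟨f, hf, hfl, hM⟩ := K1 hn (exists_pow_card K)
    have hfl' : Fintype.card K = 3 ^ f := hfl
    have hM' : f * (2 * m) ≤ 6 := hM
    rcases (show m = 2 ∨ m = 3 ∨ m = 4 by omega) with rfl | rfl | rfl
    · exfalso
      obtain ⟨-, -, h1⟩ := H905.Sp4.core_psp4 (p := 3) hcore (by rw [Nat.card_eq_fintype_card]; exact hK rfl) e'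
        (by rw [h8]; norm_num)
      rw [h8] at h1
      omega
    · refine Or.inl ⟨K, i1, i2, ?_, ⟨e.trans e'⟩⟩
      rw [hfl']
      congr 1
      omega
    · omega
  · exfalso
    obtain ⟨K, i1, i2, i3, N, q, hKq, hN3, hN8, hq, ⟨e'⟩⟩ := h'
    rcases (show N = 3 ∨ N = 4 ∨ 5 ≤ N by omega) with rfl | rfl | hN5
    · have hq2 : IsPrimePow (q ^ 2) := hKq ▸ Fintype.isPrimePow_card_of_field
      have hqp : IsPrimePow q := (isPrimePow_pow_iff (by norm_num)).1 hq2
      obtain ⟨k', hk'⟩ := exists_pow_card (p := 3) K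
      have hn : IsNamed (.psu 3 q) S := by
        refine .mk' ⟨K, inferInstance, inferInstance, hKq, ⟨e.trans e'⟩⟩ ⟨le_rfl, hq, hqp⟩ ?_
        rw [Nat.card_congr (e.trans e').toEquiv]
        exact psu_eq hKq hN3
      have hc := exists_pow hp two_ne_zero (hKq.symm.trans hk')
      obtain ⟨f, hf, hfl, hM⟩ := K1 hn hc
      have hfl' : q = 3 ^ f := hfl
      have hM' : f * 6 ≤ 6 := hM
      obtain rfl : f = 1 := by omega
      have h1 := S0280.result hKq 3 (by norm_num)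
      rw [← Nat.card_congr (e.trans e').toEquiv] at h1
      have hdd : ∀ t, t.Prime → ∀ X, IsLie (.psu 3 q) X 3 1 → ¬ t ∣ Art.dd X (3 ^ 1) := fun t ht X hX => by
        generalize hg : Grp.psu 3 q = g at hX
        cases hX <;> first
          | exact Grp.noConfusion hg
          | (obtain ⟨rfl, -⟩ := Grp.psu.inj hg
             exact fun h => ht.ne_one (Nat.dvd_one.1 h))
      have h2 : Nat.card S = 6048 := by
        rw [hfl'] at h1
        simp only [Finset.prod_range_succ, Finset.prod_range_zero] at h1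
        norm_num at h1
        omega
      rcases big_dvd hN with h3 | h3
      · have := SM.O8.Own.soc_of hp (by norm_num) le_rfl S hna hC hn hc hf hfl (by norm_num) (hdd 5 (by norm_num)) h3
        rw [h2] at this
        norm_num at this
      · have := SM.O8.Own.soc_of hp (by norm_num) (by norm_num) S hna hC hn hc hf hfl (by norm_num)
          (hdd 13 (by norm_num)) h3
        rw [h2] at this
        norm_num at this
    · have := H876.D3.core_psu_four 3 K (by rw [h8]; norm_num) hKq hcore e'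
      rw [h8] at this
      omega
    · have hc' : Core (H879.Rx.rx ε P) := H879.Rx.core_rx ε hcore
      exact H879.Nine.own_psu (p := 3) (by norm_num) hc' (H879.Rx.sd_rx ε hsd) hN5 hKq
        ((H879.Rx.socEqv ε P).symm.trans e')
  · exfalso
    obtain ⟨h1, -⟩ := h'
    omega
  · exfalso
    obtain ⟨-, K, i1, i2, m, hm, hK, ⟨e'⟩⟩ := h'
    have := H708.ReeSix.ree_eq_seven hcore hm hK e' (by rw [h8]; norm_num)
    rw [h8] at this
    omega
  · obtain ⟨K, i1, i2, i3, m, hm, hm8, hodd, ⟨e'⟩⟩ := h'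
    have hn : IsNamed (.oodd m (Fintype.card K)) S := by
      refine .mk' ⟨K, inferInstance, inferInstance, rfl, ⟨e.trans e'⟩⟩
        ⟨hm, hodd, Fintype.isPrimePow_card_of_field⟩ ?_
      rw [Nat.card_congr (e.trans e').toEquiv]
      exact oodd_eq hm hodd
    obtain ⟨f, hf, hfl, hM⟩ := K1 hn (exists_pow_card K)
    have hfl' : Fintype.card K = 3 ^ f := hfl
    have hM' : f * (2 * m) ≤ 6 := hM
    have h1 : 1 * (2 * m) ≤ f * (2 * m) := Nat.mul_le_mul_right _ hf
    obtain rfl : m = 3 := by omega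
    refine Or.inr ⟨by norm_num, K, i1, i2, ?_, ⟨e.trans e'⟩⟩
    rw [hfl']
    congr 1
    omega
  · exfalso
    obtain ⟨K, i1, i2, i3, m, hm, hm8, ⟨e'⟩⟩ := h'
    rw [h8] at hm8
    obtain rfl : m = 4 := by omega
    have hn : IsNamed (.oplus 4 (Fintype.card K)) S := by
      refine .mk' ⟨K, inferInstance, inferInstance, rfl, ⟨e.trans e'⟩⟩
        ⟨le_rfl, Fintype.isPrimePow_card_of_field⟩ ?_
      rw [Nat.card_congr (e.trans e').toEquiv]
      exact oplus_eq le_rfl
    obtain ⟨f, hf, hfl, hM⟩ := K1 hn (exists_pow_card K)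
    have hfl' : Fintype.card K = 3 ^ f := hfl
    have hM' : f * (2 * (4 - 1)) ≤ 6 := hM
    obtain rfl : f = 1 := by omega
    have h1 : Nat.gcd 4 ((3 ^ 1) ^ 4 - 1) * Nat.card S =
        (3 ^ 1) ^ (4 * (4 - 1)) * (((3 ^ 1) ^ 4 - 1) * prB (3 ^ 1) (4 - 1)) := by
      have := hn.eq
      rw [hfl'] at this
      exact this
    have hT8 : Nat.gcd 4 ((3 ^ 1) ^ 4 - 1) * Nat.card (T8 F) =
        (3 ^ 1) ^ (4 * (4 - 1)) * (((3 ^ 1) ^ 4 - 1) * prB (3 ^ 1) (4 - 1)) := by
      have h1 := oplus_eq (F := F) (m := 4) le_rfl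
      rw [hFc] at h1
      exact h1
    rw [← hT8] at h1
    have h2 : Nat.card S = Nat.card (T8 F) :=
      Nat.eq_of_mul_eq_mul_left (Nat.gcd_pos_of_pos_left _ (by norm_num)) h1
    have h3 : Nat.card S ≤ Nat.card R := Nat.le_of_dvd Nat.card_pos (Subgroup.card_subgroup_dvd_card S)
    exact hR (Subgroup.eq_top_of_le_card R (h2 ▸ h3))
  · exfalso
    obtain ⟨K, i1, i2, i3, m, b, c, hm, hm8, hab, ⟨e'⟩⟩ := h'
    have hn : IsNamed (.ominus m (Fintype.card K)) S := by
      refine .mk' ⟨K, inferInstance, inferInstance, b, c, rfl, hab, ⟨e.trans e'⟩⟩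
        ⟨hm, Fintype.isPrimePow_card_of_field⟩ ?_
      rw [Nat.card_congr (e.trans e').toEquiv]
      exact ominus_eq hm hab
    obtain ⟨f, hf, -, hM⟩ := K1 hn (exists_pow_card K)
    have hM' : f * (2 * m) ≤ 6 := hM
    have h1 : 1 * (2 * m) ≤ f * (2 * m) := Nat.mul_le_mul_right _ hf
    omega
  · exfalso
    obtain ⟨-, K, i1, i2, i3, hK, ⟨e'⟩⟩ := h'
    have := (H927.G2.core_g2 3 hcore (by rw [Nat.card_eq_fintype_card]; exact hK) e' (by rw [h8]; norm_num)).2.2.2.2
    rw [h8] at this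
    omega
  · exfalso
    obtain ⟨-, K, i1, i2, i3, q, hq, hK, ⟨e'⟩⟩ := h'
    obtain ⟨k', hk'⟩ := exists_pow_card (p := 3) K
    have T : OrderTable.{0} := table
    have hn : IsNamed (.td4 q) S := by
      refine .mk' ⟨K, inferInstance, inferInstance, hK, ⟨e.trans e'⟩⟩ hq ?_
      rw [Nat.card_congr (e.trans e').toEquiv]
      change 1 * _ = _ ^ 12 * _
      rw [T.td4 K q hq hK]; ring
    obtain ⟨f, hf, -, hM⟩ := K1 hn (exists_pow hp three_ne_zero (hK.symm.trans hk'))
    have hM' : f * 12 ≤ 6 := hM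
    omega
  · exfalso
    obtain ⟨-, hp2, -⟩ := h'
    omega

end

end Own

/-- **residual class, characteristic 3** -/
theorem boxOwn : BoxOwn := fun _ S _ h hL hN =>
  have := h.nrm
  h.iso.elim fun e => Own.own (by rw [Nat.card_zmod]; rfl) h.ne S h.simple h.nab h.cen h.core e hL hN

end Cfsg.Agent.SM.O8.T3
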