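import Cfsg.Agent.SM.O8.Three.Defs

/-!
# SM (S3570), socle `PΩ⁺₈(3)`: a reflection is an even permutation of the points (helper84)
-/

set_option autoImplicit false

namespace Cfsg.Agent.SM.O8.T3

open QuadraticMap Cfsg Equiv
open Cfsg.Agent.H708.O8 (I8 T8)
open Cfsg.Agent.H823.O8S (mk8 gl8 mk8_eq_one)
open Cfsg.Agent.H198.Carriers (plusQ)
open Cfsg.Agent.ClassicalGeometry.OrthSemi (Gam)

namespace Par

theorem sign_of {X : Type*} [Fintype X] [DecidableEq X] {σ : Perm X} (h : σ ^ 2 = 1)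
    (h4 : 4 ∣ Nat.card {x // σ x ≠ x}) : Perm.sign σ = 1 := by
  rw [Perm.sign_of_pow_two_eq_one h]
  have e : Fintype.card X - Fintype.card (Function.fixedPoints σ) = Nat.card {x // σ x ≠ x} := by
    rw [Nat.card_eq_fintype_card, Fintype.card_subtype_compl]
    rfl
  obtain ⟨c, hc⟩ := h4
  rw [e, hc, show 4 * c / 2 = 2 * c by omega, pow_mul]
  simp

theorem card_fib {α β : Type*} [Finite α] (f : α → β) (h : ∀ b, Nat.card {a // f a = b} = 2) :
    Nat.card α = Nat.card β * 2 := by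
  classical
  have hs : Function.Surjective f := fun b => by
    obtain ⟨⟨a, ha⟩⟩ := (Nat.card_pos_iff.1 (two_pos.trans_eq (h b).symm)).1
    exact ⟨a, ha⟩
  have := Finite.of_surjective f hs
  have := Fintype.ofFinite β
  rw [← Nat.card_congr (Equiv.sigmaFiberEquiv f), Nat.card_sigma]
  simp [h]

theorem z3 {a : F₃} (h : a ≠ 0) : a = 1 ∨ a = -1 := by revert a; decide

theorem eq_zero_of_neg {x : V₃} (h : x = -x) : x = 0 := by
  funext i
  have h1 : x i = -x i := congrFun h i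
  have : ∀ a : F₃, a = -a → a = 0 := by decide
  exact this _ h1

/-- a point, as the set of its nonzero vectors -/
def pm (x : V₃) : Set V₃ := {x, -x}

theorem pm_neg (x : V₃) : pm (-x) = pm x := by rw [pm, pm, neg_neg, Set.pair_comm]

theorem pm_eq {x y : V₃} : pm x = pm y ↔ x = y ∨ x = -y := by
  constructor
  · intro h
    have : x ∈ pm y := h ▸ Set.mem_insert _ _
    exact this
  · rintro (rfl | rfl)
    exacts [rfl, pm_neg y]

/-- the odd permutations of the vectors which keep the form -/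
def HH : Subgroup (Perm V₃) where
  carrier := {f | (∀ x, Q₃ (f x) = Q₃ x) ∧ ∀ x, f (-x) = -f x}
  one_mem' := ⟨fun _ => rfl, fun _ => rfl⟩
  mul_mem' := fun {a b} ha hb => ⟨fun x => (ha.1 _).trans (hb.1 x), fun x => by
    rw [Perm.mul_apply, Perm.mul_apply, hb.2, ha.2]⟩
  inv_mem' := fun {a} ha => ⟨fun x => by rw [← ha.1, Perm.coe_inv, Equiv.apply_symm_apply], fun x => by
    apply a.injective
    rw [ha.2, Perm.coe_inv, Equiv.apply_symm_apply, Equiv.apply_symm_apply]⟩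

theorem hh_ne (f : HH) {x : V₃} (h : x ≠ 0) : f.1 x ≠ 0 := fun e => by
  have h0 : f.1 0 = 0 := eq_zero_of_neg (by rw [← f.2.2, neg_zero])
  exact h (f.1.injective (e.trans h0.symm))

theorem im_pm (f : HH) (x : V₃) : f.1 '' pm x = pm (f.1 x) := by
  rw [pm, pm, Set.image_pair, f.2.2]

/-- the points of norm `c` -/
abbrev Pt (c : F₃) : Type := {S : Set V₃ // ∃ x, x ≠ 0 ∧ Q₃ x = c ∧ S = pm x}

theorem im_mem {c : F₃} (f : HH) (S : Pt c) : ∃ x, x ≠ 0 ∧ Q₃ x = c ∧ f.1 '' S.1 = pm x := by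
  obtain ⟨x, h0, hx, e⟩ := S.2
  exact ⟨f.1 x, hh_ne f h0, (f.2.1 x).trans hx, by rw [e, im_pm]⟩

theorem im_mul (f g : Perm V₃) (Z : Set V₃) : (f * g : Perm V₃) '' Z = f '' (g '' Z) := by
  rw [Set.image_image]
  rfl

theorem im_one (Z : Set V₃) : (1 : Perm V₃) '' Z = Z := Set.image_id Z

/-- the action on the points -/
def ac (c : F₃) : HH →* Perm (Pt c) where
  toFun M :=
    { toFun := fun Z => ⟨M.1 '' Z.1, im_mem M Z⟩
      invFun := fun Z => ⟨(M⁻¹ : HH).1 '' Z.1, im_mem M⁻¹ Z⟩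
      left_inv := fun Z => Subtype.ext (by
        show _ '' (_ '' _) = _
        rw [← im_mul, ← Subgroup.coe_mul, inv_mul_cancel, Subgroup.coe_one, im_one])
      right_inv := fun Z => Subtype.ext (by
        show _ '' (_ '' _) = _
        rw [← im_mul, ← Subgroup.coe_mul, mul_inv_cancel, Subgroup.coe_one, im_one]) }
  map_one' := Equiv.ext fun Z => Subtype.ext (im_one Z.1)
  map_mul' M N := Equiv.ext fun Z => Subtype.ext (im_mul M.1 N.1 Z.1)

theorem ac_eq {c : F₃} (M : HH) (Z Z' : Pt c) : ac c M Z = Z' ↔ M.1 '' Z.1 = Z'.1 := Subtype.ext_iff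

/-- `Ω` in `HH` -/
def oh : Om F₃ →* HH :=
  ((Gam (plusQ 4 F₃)).subtype.comp (og F₃)).codRestrict HH fun y => ⟨Q_ln y, fun x => map_neg (ln y) x⟩

theorem oh_apply (y : Om F₃) (x : V₃) : (oh y).1 x = ln y x := rfl

/-- the action of the simple group -/
def rho (c : F₃) : G₃ →* Perm (Pt c) :=
  QuotientGroup.lift (Subgroup.center (Om F₃)) ((ac c).comp oh) fun y hy => by
    obtain ⟨e, he⟩ := mk8_eq_one (y := y) ((QuotientGroup.eq_one_iff y).2 hy)
    ext Z : 1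
    obtain ⟨x, h0, -, e1⟩ := Z.2
    refine (ac_eq _ _ _).2 ?_
    show _ = Z.1
    rw [e1, im_pm, pm_eq]
    have h1 : (oh y).1 x = e • x := he x
    have h2 : e ≠ 0 := fun h => hh_ne (oh y) h0 (by rw [h1, h, zero_smul])
    rw [h1]
    rcases z3 h2 with rfl | rfl
    · exact .inl (one_smul _ _)
    · exact .inr (neg_one_smul _ _)

theorem rho_mk (c : F₃) (y : Om F₃) : rho c (mk8 F₃ y) = ac c (oh y) := rfl

/-- the axis of the reflection -/
def ax (c : F₃) : V₃ := fun i => if i = .inl 0 then 1 else if i = .inr 0 then c else 0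

/-- the reflection in coordinates -/
def rr (c : F₃) (x : V₃) : V₃ := fun i =>
  if i = .inl 0 then -(c * x (.inr 0)) else if i = .inr 0 then -(c * x (.inl 0)) else x i

theorem Q_ax (c : F₃) : Q₃ (ax c) = c := by simp [quadFormPlus, ax, Fin.sum_univ_four]

theorem rf_ax {c : F₃} (h : Q₃ (ax c) ≠ 0) (x : V₃) : (rf (ax c) h).1 x = rr c x := by
  have hp : polar Q₃ (ax c) x = x (.inr 0) + c * x (.inl 0) := by
    simp [polar, quadFormPlus, ax, Fin.sum_univ_four]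
    ring
  rw [rf_apply, hp, Q_ax]
  rw [Q_ax] at h
  have key : ∀ c a b : F₃, c ≠ 0 → a - c⁻¹ * (b + c * a) * 1 = -(c * b) ∧ b - c⁻¹ * (b + c * a) * c = -(c * a) := by
    intro c a b hc
    rcases z3 hc with rfl | rfl
    · rw [inv_one]; constructor <;> ring
    · rw [inv_neg, inv_one]; constructor <;> ring
  funext i
  simp only [Pi.sub_apply, Pi.smul_apply, smul_eq_mul, ax, rr]
  split_ifs with h1 h2
  · rw [h1]; exact (key c _ _ h).1
  · rw [h2]; exact (key c _ _ h).2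
  · rw [mul_zero, sub_zero]

theorem rr_rr {c : F₃} (h : c ≠ 0) (x : V₃) : rr c (rr c x) = x := by
  have key : ∀ c a : F₃, c ≠ 0 → -(c * -(c * a)) = a := by decide
  funext i
  by_cases h1 : i = .inl 0
  · subst h1; simp only [rr, if_true, reduceCtorEq, if_false]; exact key c _ h
  · by_cases h2 : i = .inr 0
    · subst h2; simp only [rr, if_true, reduceCtorEq, if_false]; exact key c _ h
    · simp only [rr, if_neg h1, if_neg h2]

/-- the reflection in `HH` -/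
def rh {c : F₃} (h : Q₃ (ax c) ≠ 0) : HH := ⟨(rf (ax c) h).1, fun x => by
    rw [rf_ax]
    rw [Q_ax] at h
    have key : ∀ c a b : F₃, c ≠ 0 → -(c * b) * -(c * a) = a * b := by decide
    simp only [quadFormPlus, Fin.sum_univ_four, rr, if_true, reduceCtorEq, if_false, Sum.inl.injEq, Sum.inr.injEq,
      Fin.reduceEq, key c _ _ h], fun x => by
    rw [rf_ax, rf_ax]
    funext i
    simp only [rr, Pi.neg_apply]
    split_ifs <;> ring⟩

theorem rh_apply {c : F₃} (h : Q₃ (ax c) ≠ 0) (x : V₃) : (rh h).1 x = rr c x := rf_ax h x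

theorem cnt0 : Fintype.card {x : V₃ // ∑ i : Fin 4, x (.inl i) * x (.inr i) = 0 ∧ rr 1 x ≠ x ∧ rr 1 x ≠ -x} = 1512 := by
  decide +kernel

theorem cnt1 : Fintype.card {x : V₃ // ∑ i : Fin 4, x (.inl i) * x (.inr i) = 1 ∧ rr 1 x ≠ x ∧ rr 1 x ≠ -x} = 1456 := by
  decide +kernel

theorem cnt2 :
    Fintype.card {x : V₃ // ∑ i : Fin 4, x (.inl i) * x (.inr i) = -1 ∧ rr (-1) x ≠ x ∧ rr (-1) x ≠ -x} = 1456 := by
  decide +kernel

theorem mv {c d : F₃} (h : Q₃ (ax d) ≠ 0) (h8 : 8 ∣ Nat.card {x : V₃ // Q₃ x = c ∧ rr d x ≠ x ∧ rr d x ≠ -x}) :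
    4 ∣ Nat.card {z // ac c (rh h) z ≠ z} := by
  have h0 : ∀ x : V₃, rr d x ≠ x → x ≠ 0 := by
    rintro x hx rfl
    exact hx (by rw [← rh_apply h]; exact eq_zero_of_neg (by rw [← (rh h).2.2, neg_zero]))
  let f : {x : V₃ // Q₃ x = c ∧ rr d x ≠ x ∧ rr d x ≠ -x} → {z // ac c (rh h) z ≠ z} := fun x =>
    ⟨⟨pm x.1, x.1, h0 _ x.2.2.1, x.2.1, rfl⟩, by
      rw [Ne, ac_eq, im_pm, pm_eq, rh_apply, not_or]
      exact x.2.2⟩
  have := card_fib f (by
    rintro ⟨⟨S, x, hx0, hx, rfl⟩, hm⟩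
    rw [Ne, ac_eq, im_pm, pm_eq, rh_apply, not_or] at hm
    have e1 : rr d (-x) = -rr d x := by rw [← rh_apply h, ← rh_apply h, (rh h).2.2]
    have e2 : Q₃ (-x) = c := by rw [← neg_one_smul F₃, Q_smul, hx]; ring
    rw [Nat.card_eq_two_iff]
    refine ⟨⟨⟨x, hx, hm⟩, rfl⟩, ⟨⟨-x, e2, by rw [e1]; exact fun e => hm.1 (neg_injective e),
      by rw [e1]; exact fun e => hm.2 (neg_injective e)⟩, Subtype.ext (Subtype.ext (pm_neg x))⟩, fun e => ?_, ?_⟩
    · exact hx0 (eq_zero_of_neg (congrArg (fun t => t.1.1) e))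
    · rw [Set.eq_univ_iff_forall]
      rintro ⟨⟨y, hy⟩, e⟩
      have e' : pm y = pm x := congrArg (fun t => t.1.1) e
      rcases pm_eq.1 e' with rfl | rfl
      · exact .inl rfl
      · exact .inr rfl)
  omega

theorem exists_even (c : F₃) : ∃ (d : F₃) (h : Q₃ (ax d) ≠ 0), 4 ∣ Nat.card {z // ac c (rh h) z ≠ z} := by
  have h1 : Q₃ (ax 1) ≠ 0 := by rw [Q_ax]; decide
  have h2 : Q₃ (ax (-1)) ≠ 0 := by rw [Q_ax]; decide
  by_cases hc : c = 0
  · exact ⟨1, h1, mv h1 (by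
      subst hc
      exact ⟨189, (Nat.card_eq_fintype_card.trans cnt0 :)⟩)⟩
  rcases z3 hc with rfl | rfl
  · exact ⟨1, h1, mv h1 ⟨182, (Nat.card_eq_fintype_card.trans cnt1 :)⟩⟩
  · exact ⟨-1, h2, mv h2 ⟨182, (Nat.card_eq_fintype_card.trans cnt2 :)⟩⟩

end Par

open Par in
theorem boxPar : BoxPar := by
  intro X w U V hw c
  classical
  obtain ⟨d, h, h4⟩ := exists_even (Q₃ w)
  letI : Fintype (Pt (Q₃ w)) := Fintype.ofFinite _
  refine ⟨rf (ax d) h, kp_rf h, c.sgn (Pt (Q₃ w)) (rho _) ⟨pm w, w, hw, rfl, rfl⟩ _ (ac _ (rh h)) ?_ (fun g => ?_)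
    (fun g => ?_) (sign_of ?_ h4)⟩
  · rintro ⟨S, x, h0, hx, rfl⟩
    obtain ⟨y, hy⟩ := exists_ln_map hw h0 hx.symm
    exact ⟨mk8 F₃ y, by rw [rho_mk, ac_eq, im_pm, oh_apply, hy]⟩
  · obtain ⟨y, rfl⟩ := mk8_surjective g
    rw [rho_mk, ac_eq, im_pm, pm_eq, oh_apply, mem_pt]
    constructor
    · rintro (e | e)
      exacts [⟨1, by rw [e, one_smul]⟩, ⟨-1, by rw [e, neg_one_smul]⟩]
    · rintro ⟨a, e⟩
      have h2 : a ≠ 0 := fun h => hh_ne (oh y) hw (by rw [oh_apply, e, h, zero_smul])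
      rw [e]
      rcases z3 h2 with rfl | rfl
      · exact .inl (one_smul _ _)
      · exact .inr (neg_one_smul _ _)
  · obtain ⟨y, rfl⟩ := mk8_surjective g
    obtain ⟨y', e1, e2⟩ := exists_ph (rf (ax d) h) y
    rw [e1, rho_mk, rho_mk, ← map_inv, ← map_mul, ← map_mul]
    congr 1
    rw [mul_inv_eq_iff_eq_mul]
    exact Subtype.ext (Equiv.ext fun v => (e2 v).symm)
  · rw [← map_pow, pow_two, show rh h * rh h = 1 from Subtype.ext (Equiv.ext fun v => by
      show (rh h).1 ((rh h).1 v) = v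
      rw [rh_apply, rh_apply, rr_rr (by rwa [Q_ax] at h)]), map_one]

end Cfsg.Agent.SM.O8.T3
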