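import Cfsg.Agent.SM.O8.Three.Res
import Cfsg.Agent.H181.StdBasis
import Cfsg.Agent.H75.OddStep

/-!
# SM, `S = PΩ⁺₈(3)`: an element of order five fixes a vector in one of the modules (helper8)
-/

set_option autoImplicit false

namespace Cfsg.Agent.SM.O8.T3

open Module QuadraticMap Cfsg Cfsg.Geo Subgroup
open Cfsg.Agent.H708.O8 (I8 T8)
open Cfsg.Agent.H823.O8S (mk8 gl8)
open Cfsg.Agent.H198.Carriers (plusQ)

namespace Ty

theorem exists_iso (y : Om F₃) : ∃ v : V₃, v ≠ 0 ∧ Q₃ v = 0 ∧ polar Q₃ v (ln y v) = 0 := by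
  let L : (Fin 4 → F₃) →ₗ[F₃] V₃ :=
    { toFun := fun x => Sum.elim x 0
      map_add' := fun a b => by ext (i | i) <;> simp
      map_smul' := fun c a => by ext (i | i) <;> simp }
  obtain ⟨x, h0, h1⟩ := H181.StdBasis.exists_singular
    (LinearMap.BilinMap.toQuadraticMap ((polarBilin (plusQ 4 F₃)).compl₁₂ L (ln y ∘ₗ L))) (by simp)
  refine ⟨L x, fun h => h0 (funext fun i => congrFun h (.inl i)), ?_, h1⟩
  exact Finset.sum_eq_zero fun i _ => mul_zero _

theorem sr_of_St {R : Subgroup G₃} {W : Submodule F₃ V₃} (h0 : W ≠ ⊥) (h4 : finrank F₃ W ≤ 4)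
    (h : finrank F₃ W = 4 → Ts W) (hR : R ≤ St W) : SR 5 R := by
  rcases h4.lt_or_eq with h3 | h3
  · exact SR_of_small' pp5 h0 (Nat.lt_succ_iff.1 h3) fun g hg _ => le_St.1 hR hg
  · exact SR_of_ts pp5 h3 (h h3) fun g hg _ => le_St.1 hR hg

theorem sr_pt {v : V₃} (hv : v ≠ 0) : SR 5 (pt v) :=
  sr_of_St (by rwa [Ne, Submodule.span_singleton_eq_bot]) (by rw [finrank_span_singleton hv]; norm_num)
    (by rw [finrank_span_singleton hv]; norm_num) le_rfl

end Ty

open Ty

theorem boxTy : BoxTy := by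
  intro z hz
  obtain ⟨y, rfl, hy⟩ := lift_odd (r := 5) (by decide) (z := z) (hz ▸ pow_orderOf_eq_one z)
  obtain ⟨v, h0, h1, h2⟩ := exists_iso y
  have h5 : ∀ w, ln y (ln y (ln y (ln y (ln y w)))) = w := fun w => by
    rw [← ln_mul, ← ln_mul, ← ln_mul, ← ln_mul, show y * y * y * y * y = y ^ 5 by simp only [pow_succ, pow_zero, one_mul],
      hy, ln_one]
  set f := ln y with hf
  by_cases hs : v + f v + f (f v) + f (f (f v)) + f (f (f (f v))) = 0
  swap
  · refine sr_of_St (W := Submodule.span F₃ {_}) (by rwa [Ne, Submodule.span_singleton_eq_bot])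
      (by rw [finrank_span_singleton hs]; norm_num) (by rw [finrank_span_singleton hs]; norm_num)
      (zpowers_le.2 (mem_pt.2 ⟨1, ?_⟩))
    rw [← hf, map_add, map_add, map_add, map_add, h5, one_smul]
    abel
  have hQ : ∀ w, plusQ 4 F₃ (f w) = plusQ 4 F₃ w := Q_ln y
  have hB : ∀ u w, polar (plusQ 4 F₃) (f u) (f w) = polar (plusQ 4 F₃) u w := polar_ln y
  have b0 : polar (plusQ 4 F₃) v v = 0 := by rw [polar_self]; exact (congrArg _ h1).trans (smul_zero _)
  have b1 : polar (plusQ 4 F₃) v (f v) = 0 := h2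
  have b4 : polar (plusQ 4 F₃) v (f (f (f (f v)))) = 0 := by rw [← hB, h5, polar_comm, b1]
  have b23 : polar (plusQ 4 F₃) v (f (f (f v))) = polar (plusQ 4 F₃) v (f (f v)) := by rw [← hB, ← hB, h5, polar_comm]
  have b2 : polar (plusQ 4 F₃) v (f (f v)) = 0 := by
    have h6 := congrArg (polar (plusQ 4 F₃) v) hs
    rw [polar_add_right, polar_add_right, polar_add_right, polar_add_right, b0, b1, b4, b23, polar_zero_right] at h6
    revert h6
    generalize polar (plusQ 4 F₃) v (f (f v)) = a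
    revert a
    decide
  have b3 := b23.trans b2
  let e : Fin 4 → V₃ := ![v, f v, f (f v), f (f (f v))]
  have hm : ∀ i, e i ∈ Submodule.span F₃ (Set.range e) := fun i => Submodule.subset_span ⟨i, rfl⟩
  refine sr_of_St (W := Submodule.span F₃ (Set.range e)) (fun h => h0 ((Submodule.eq_bot_iff _).1 h _ (hm 0)))
    ((finrank_range_le_card e).trans (Fintype.card_fin 4).le) (fun _ => H75.OrthIdx.span_ts (Q := plusQ 4 F₃) ?_ ?_)
    (zpowers_le.2 (mem_St.2 fun w hw => ?_))
  · rintro _ ⟨i, rfl⟩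
    fin_cases i
    · exact h1
    · exact (hQ _).trans h1
    · exact (hQ _).trans ((hQ _).trans h1)
    · exact (hQ _).trans ((hQ _).trans ((hQ _).trans h1))
  · rintro _ ⟨i, rfl⟩ _ ⟨j, rfl⟩
    have c1 := (polar_comm _ _ _).trans b1
    have c2 := (polar_comm _ _ _).trans b2
    have c3 := (polar_comm _ _ _).trans b3
    fin_cases i <;> fin_cases j <;> 
      simp only [e, Fin.zero_eta, Fin.mk_one, Fin.reduceFinMk, Matrix.cons_val, hB, b0, b1, b2, b3, c1, c2, c3]
  · refine (Submodule.span_le (p := (Submodule.span F₃ (Set.range e)).comap f)).2 ?_ hw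
    rintro _ ⟨i, rfl⟩
    fin_cases i
    · exact hm 1
    · exact hm 2
    · exact hm 3
    · have h6 : f (f (f (f v))) = -(v + f v + f (f v) + f (f (f v))) := eq_neg_of_add_eq_zero_right hs
      have h7 : f (f (f (f v))) ∈ Submodule.span F₃ (Set.range e) := by
        rw [h6]
        exact neg_mem (add_mem (add_mem (add_mem (hm 0) (hm 1)) (hm 2)) (hm 3))
      exact h7

end Cfsg.Agent.SM.O8.T3
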