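import Cfsg.Agent.SM.O8.Three.Tree
import Cfsg.Agent.SM.O8.Three.Own
import Cfsg.Agent.SM.O8.Three.Cross
import Cfsg.Agent.SM.O8.Three.NoSp
import Cfsg.Agent.SM.O8.Three.K1
import Cfsg.Agent.SM.O8.Three.Par
import Cfsg.Agent.SM.O8.Three.Can
import Cfsg.Agent.SM.O8.Three.M7
import Cfsg.Agent.SM.O8.Three.Ord
import Cfsg.Agent.SM.O8.Three.Ty
import Cfsg.Agent.SM.O8.Three.G13
import Cfsg.Agent.SM.O8.Three.D8
import Cfsg.Agent.SM.O8.Three.Fr
import Cfsg.Agent.SM.O8.Three.Hex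
import Cfsg.Agent.SM.O8.Three.B2
import Cfsg.Agent.SM.O8.Three.A9
import Cfsg.Agent.SM.O8.Three.Out

/-!
# SM, `S = PΩ⁺₈(3)`: the assembly modulo the last boxes (helper68)
-/

set_option autoImplicit false

namespace Cfsg.Agent.SM.O8.T3

theorem box3_of (hK : Kn) (sp : BoxSp) (five : BoxFive) (spin : BoxSpin)
    (hFS : ∀ v e, Fr v e → Nat.card (FS v e) ∣ 161280) (cnt : BoxCnt) : Box3 :=
  have fr : BoxFr := boxFr_of hFS boxOrd boxM7
  Bx.box3
    { kn := hK, sp := sp, own := boxOwn, cross := boxCross, five := five, spin := spin, nosp := boxNoSp, ord := boxOrd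
      out := boxOut, g13 := boxG13_of boxOrd boxM7, hex := boxHex_of boxOrd, d8 := boxD8, par := boxPar
      k1 := boxK1_of boxTy, canX := boxCanX, canY := boxCanY, frX := boxFrX_of boxOrd boxNp fr
      b2 := boxB2_of boxOrd boxNp fr, a9 := boxA9_of boxNp boxM7, cnt := cnt
      e3 := boxE3_of boxOrd boxNp (boxK1_of boxTy) boxDM }

end Cfsg.Agent.SM.O8.T3
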