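import Cfsg.Agent.SM.O8.Three.Defs
import Cfsg.Agent.SM.O8.GB
import Cfsg.Agent.SM.O8.NT
import Cfsg.Agent.H683.O8R.FieldCard

/-!
# SM (S3570), socle `PΩ⁺₈(3)`: the geometric classes for the prime 5, `boxSp` (helper71)
-/

set_option autoImplicit false
set_option linter.unusedSectionVars false
set_option linter.style.haveILetI false

namespace Cfsg.Agent.SM.O8.T3

open Module QuadraticMap Cfsg Cfsg.Geo Cfsg.Agent.LieClassical.OrthCore Cfsg.Agent.H955 Cfsg.Agent.H954.TSing
open Cfsg.Agent.LieClassical.OmegaReindex Cfsg.Agent.LieClassical.OrthFinite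
open Cfsg.Agent.H951 (fx cm Inv mem_fx)
open Cfsg.Agent.H884.El
open Cfsg.Agent.H708.O8 (I8 T8 RB exists_coord_of card_dvd_of_coord)
open Cfsg.Agent.H683.O8R (inv_of_fix card_two card_dvd_two_mul card_comm card_centralizer)
open Cfsg.Agent.H823.O8S (SW Fld NJ mk8 gl8 exists_root matl lin_mul_apply lin_inv_apply lin_apply_inv)
open Cfsg.Agent.H923 (fieldOf finrank_mul)
open Cfsg.Agent.SM.Ex78 (Pd)
open Cfsg.Agent.SM.O8.G4 (N4 F2 qp)
open scoped MatrixGroups Matrix

namespace Sp

theorem card3 : Nat.card F₃ = 3 := Nat.card_zmod 3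

theorem pp5 : PP (Nat.card F₃) 4 5 := by
  rw [card3]
  exact ⟨by norm_num, (orderOf_eq_iff (by norm_num)).2 (by decide)⟩

theorem pp13 : PP (Nat.card F₃) 3 13 := by
  rw [card3]
  exact ⟨by norm_num, (orderOf_eq_iff (by norm_num)).2 (by decide)⟩

/-- double counting of the fixed points -/
theorem burn {E S : Type} [Group E] [Finite E] [Finite S] [MulAction E S] {m b : ℕ}
    (hm : ∀ u : S, Nat.card (MulAction.stabilizer E u) = m)
    (hb : ∀ x : E, x ≠ 1 → Nat.card (MulAction.fixedBy S x) ≤ b) :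
    Nat.card E ∣ Nat.card S * m ∧ Nat.card S * m ≤ Nat.card S + Nat.card E * b := by
  classical
  have := Fintype.ofFinite E
  have := Fintype.ofFinite S
  have h1 : ∑ x : E, Nat.card (MulAction.fixedBy S x) = Nat.card S * m := by
    have h2 := Finset.sum_card_bipartiteAbove_eq_sum_card_bipartiteBelow (s := (Finset.univ : Finset E))
      (t := (Finset.univ : Finset S)) fun x u => x • u = u
    have h3 : ∀ x : E, Nat.card (MulAction.fixedBy S x) = ((Finset.univ : Finset S).bipartiteAbove (fun x u => x • u = u) x).card :=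
      fun x => Nat.subtype_card _ fun u => by simp [Finset.mem_bipartiteAbove]
    have h4 : ∀ u : S, ((Finset.univ : Finset E).bipartiteBelow (fun x u => x • u = u) u).card = m :=
      fun u => (Nat.subtype_card _ fun x => by simp [Finset.mem_bipartiteBelow]).symm.trans (hm u)
    simp only [h3, h2, h4, Finset.sum_const, Finset.card_univ, smul_eq_mul, Nat.card_eq_fintype_card]
  rw [← h1]
  constructor
  · simp only [Nat.card_eq_fintype_card]
    rw [MulAction.sum_card_fixedBy_eq_card_orbits_mul_card_group]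
    exact dvd_mul_left _ _
  · rw [← Finset.add_sum_erase _ _ (Finset.mem_univ (1 : E))]
    refine add_le_add (Finite.card_subtype_le _) ((Finset.sum_le_card_nsmul _ _ b fun x hx => hb x (Finset.ne_of_mem_erase hx)).trans ?_)
    rw [smul_eq_mul, Nat.card_eq_fintype_card]
    exact Nat.mul_le_mul_right _ (Finset.card_le_univ _)

section gen

variable {F : Type} [Field F] [Fintype F] {H : Subgroup (GL I8 F)}

theorem fr_map (g : GL I8 F) (W : Submodule F (I8 → F)) : finrank F (W.map (lin g)) = finrank F W := H708.O8.finrank_tr g W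

theorem tr_pd {R : Subgroup (T8 F)} {v : I8 → F} (hv : quadFormPlus 4 F v ≠ 0) (h : Tr (pre (quadFormPlus 4 F) R) v) :
    Pd R (pt v) := by
  intro g
  obtain ⟨y, rfl⟩ := mk8_surjective g
  obtain ⟨k, hk, e⟩ := h (ln y v) (Q_ln y v)
  obtain ⟨x, rfl, hx⟩ := H823.O8S.exists_lift hk
  refine ⟨mk8 F x, hx, mk8 F (x⁻¹ * y), (mem_pt' hv).2 ?_, by rw [← map_mul, mul_inv_cancel_left]⟩
  rw [ln_mul]
  rcases e with e | e
  · exact Or.inl (by rw [← e, ln_inv_apply])
  · exact Or.inr (by rw [← neg_neg (ln y v), ← e, map_neg, ln_inv_apply])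

/-- the order of a group which keeps a pair of nondegenerate 4-spaces -/
theorem card_n4 (hH : H ≤ isometryGroup F (quadFormPlus 4 F)) (h : N4 H) :
    Nat.card H ∣ 2 * ((2 * Nat.card F ^ 2 * (Nat.card F ^ 4 - 1) ^ 2) * (2 * Nat.card F ^ 2 * (Nat.card F ^ 4 - 1) ^ 2)) := by
  obtain ⟨W, hWn, hd, hW, -⟩ := h
  have hQ : Nondeg (quadPlus 4 F) := nondeg_iff.2 quadPlus_nondegenerate
  rw [← coe_quadPlus] at hH
  have hiso : ∀ g ∈ H, ∀ v, quadPlus 4 F (lin g v) = quadPlus 4 F v := fun g hg => lin_iso hH hg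
  have h1 : finrank F W + finrank F (perp (quadPlus 4 F) W) = 8 := (finrank_add_perp hQ W).trans H886.O8R.finrank_I8'
  have h5 : finrank F W = finrank F (perp (quadPlus 4 F) W) := by omega
  let H1 : Subgroup H := (SW W).subgroupOf H
  have h2 : ∀ g : H, g ∉ H1 → ∀ w ∈ W, lin (g : GL I8 F) w ∈ perp (quadPlus 4 F) W := fun g hg =>
    (hW g g.2).resolve_left fun h => hg (mem_SW_of h)
  refine (card_dvd_two_mul H1 fun a b ha hb => ?_).trans (mul_dvd_mul_left 2 ?_)
  · refine mem_SW_of fun w hw => ?_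
    have h3 : W.map (lin (a⁻¹ : H)) = perp (quadPlus 4 F) W := by
      refine Submodule.eq_of_le_of_finrank_eq ?_ ?_
      · rintro _ ⟨u, hu, rfl⟩
        exact h2 a⁻¹ (fun h => ha (by simpa using H1.inv_mem h)) u hu
      · exact (fr_map _ W).trans h5
    obtain ⟨u, hu, e⟩ := h3.ge (h2 b hb w hw)
    change lin ((a : GL I8 F) * (b : GL I8 F)) w ∈ W
    rw [lin_mul_apply, ← e, Subgroup.coe_inv, lin_apply_inv]
    exact hu
  · let A : Subgroup ((I8 → F) ≃ₗ[F] (I8 → F)) := (H1.map H.subtype).map (glEquiv I8 F).toMonoidHom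
    have hA : Nat.card H1 = Nat.card A := by
      rw [Subgroup.card_map_of_injective (glEquiv I8 F).injective, Subgroup.card_map_of_injective H.subtype_injective]
    have hmem : ∀ x ∈ A, ∃ g ∈ H, g ∈ SW W ∧ ∀ v, x v = lin g v := by
      rintro x ⟨g', ⟨g, hg, rfl⟩, rfl⟩
      exact ⟨g, g.2, hg, fun v => rfl⟩
    rw [hA]
    refine card_two (Q := quadPlus 4 F) (A := A) ?_ (U := W) (W := perp (quadPlus 4 F) W) ?_ ?_
      (isCompl_perp hWn).sup_eq_top hWn (nondeg_perp hQ hWn) hd (h5.symm.trans hd)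
    · intro x hx v
      obtain ⟨g, hg, -, e⟩ := hmem x hx
      rw [e, hiso g hg]
    · intro x hx v hv
      obtain ⟨g, -, hg, e⟩ := hmem x hx
      rw [e]
      exact mem_of_SW hg hv
    · intro x hx v hv u hu
      obtain ⟨g, hg', hg, e⟩ := hmem x hx
      rw [e, ← lin_apply_inv g u, polar_isom (hiso g hg')]
      exact hv _ (mem_of_SW ((SW W).inv_mem hg) hu)

/-- a quadratic field consists of similitudes or of self-adjoint maps -/
theorem field_cases (h2 : (2 : F) ≠ 0) {K : Subalgebra F (Matrix I8 I8 F)} (hK : IsFieldSubalgebra 2 K)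
    (hadj : IsAdjointClosedFor (polar (quadPlus 4 F)) K) (hHK : H ≤ subalgebraNormalizer K) :
    (∃ (J : Module.End F (I8 → F)) (c d : F), Fld J c d ∧ H ≤ NJ J c) ∨
      ∀ k ∈ K, ∀ u v, polar (quadPlus 4 F) (k *ᵥ u) v = polar (quadPlus 4 F) u (k *ᵥ v) := by
  have hQ : Nondeg (quadPlus 4 F) := nondeg_iff.2 quadPlus_nondegenerate
  obtain ⟨c, d, hc, hcd⟩ := NT.exists_irr F
  obtain ⟨j, hj, hj2⟩ := exists_root hK hcd
  obtain ⟨j', hj', h1⟩ := hadj j hj
  have hJ : ∀ v, Matrix.toLin' j (Matrix.toLin' j v) = c • Matrix.toLin' j v - d • v := fun v => by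
    rw [← matl, hj2, map_sub, map_smul, map_smul, Matrix.toLin'_one]
    rfl
  simp only [← Matrix.toLin'_apply] at h1 ⊢
  have hj2' : j' * j' = c • j' - d • (1 : Matrix I8 I8 F) := by
    refine Matrix.toLin'.injective (LinearMap.ext fun v => sub_eq_zero.1 (hQ _ fun u => ?_))
    rw [polar_comm, polar_sub_right, matl, ← h1, ← h1, hJ, map_sub, map_smul, map_smul, Matrix.toLin'_one,
      LinearMap.sub_apply, LinearMap.smul_apply, LinearMap.smul_apply, polar_sub_right, polar_smul_right, polar_smul_right,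
      ← h1, polar_sub_left, polar_smul_left, polar_smul_left]
    exact sub_self _
  rcases NT.root_cases hK hj hj' hj2 hj2' with rfl | rfl
  · refine Or.inr fun k hk u v => ?_
    have hli : LinearIndependent F ![(1 : K), ⟨j', hj⟩] := by
      rw [LinearIndependent.pair_iff' one_ne_zero]
      intro a ha
      have h3 : a • (1 : Matrix I8 I8 F) = j' := congrArg Subtype.val ha
      rw [← h3] at hj2
      have h4 := congrFun (congrFun hj2 (Sum.inl 0)) (Sum.inl 0)
      simp at h4
      exact hcd a (by linear_combination h4)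
    have h3 := hli.span_eq_top_of_card_eq_finrank' (by simp [hK.finrank_eq])
    have h4 : (⟨k, hk⟩ : K) ∈ Submodule.span F (Set.range ![(1 : K), ⟨j', hj⟩]) := h3.ge trivial
    rw [Matrix.range_cons, Matrix.range_cons, Matrix.range_empty, Set.union_empty, Set.singleton_union,
      Submodule.mem_span_pair] at h4
    obtain ⟨a, b, e⟩ := h4
    have h5 : a • (1 : Matrix I8 I8 F) + b • j' = k := congrArg Subtype.val e
    rw [← h5]
    simp only [map_add, map_smul, Matrix.toLin'_one, LinearMap.add_apply, LinearMap.smul_apply, LinearMap.id_apply,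
      polar_add_left, polar_add_right, polar_smul_left, polar_smul_right, h1]
  · refine Or.inl ⟨Matrix.toLin' j, c, d, ⟨LinearMap.ext hJ, hcd, fun v => mul_left_cancel₀ h2 ?_⟩, NT.le_NJ hK hHK hj hj2⟩
    have h3 := h1 v (Matrix.toLin' j v)
    rw [map_sub, map_smul, Matrix.toLin'_one, LinearMap.sub_apply, LinearMap.smul_apply, LinearMap.id_apply, hJ,
      sub_sub_cancel, polar_smul_right, polar_self, polar_self, qp, qp] at h3
    simp only [smul_eq_mul, nsmul_eq_mul, Nat.cast_ofNat] at h3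
    linear_combination h3

/-- the order of a group which normalises a field of self-adjoint maps -/
theorem card_sa (h2 : (2 : F) ≠ 0) (hH : H ≤ isometryGroup F (quadPlus 4 F)) {K : Subalgebra F (Matrix I8 I8 F)}
    (hK : IsFieldSubalgebra 2 K) (hHK : H ≤ subalgebraNormalizer K)
    (hsa : ∀ k ∈ K, ∀ u v, polar (quadPlus 4 F) (k *ᵥ u) v = polar (quadPlus 4 F) u (k *ᵥ v)) :
    Nat.card H ∣ 2 * (2 * (Nat.card F ^ 2) ^ 2 * ((Nat.card F ^ 2) ^ 4 - 1) ^ 2) := by
  have hne : Nonempty I8 := ⟨Sum.inl 0⟩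
  letI := fieldOf hK
  have hKfin : Finite K := Module.finite_of_finite F
  letI : Fintype K := Fintype.ofFinite K
  obtain ⟨H1, hle, hdvd, hc⟩ := card_comm hK hHK
  refine hdvd.trans (mul_dvd_mul_left 2 ?_)
  have h3 : 2 * finrank K (I8 → F) = Fintype.card I8 := finrank_mul hK
  have h8 : Fintype.card I8 = 8 := by simp
  have h9 : finrank K (I8 → F) = 4 := by omega
  have hKc : Nat.card K = Nat.card F ^ 2 := by rw [Module.natCard_eq_pow_finrank (K := F), hK.finrank_eq]
  let A : Subgroup ((I8 → F) ≃ₗ[F] (I8 → F)) := H1.map (glEquiv I8 F).toMonoidHom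
  have hA : Nat.card H1 = Nat.card A := by rw [Subgroup.card_map_of_injective (glEquiv I8 F).injective]
  rw [hA, ← hKc]
  refine card_centralizer (K := K) (A := A) (nondeg_iff.2 quadPlus_nondegenerate) (fun k u v => hsa k k.2 u v)
    (fun h => (h2 h).elim) h9 ?_ ?_
  · rintro _ ⟨g, hg, rfl⟩ v
    exact lin_iso hH (hle hg) v
  · rintro _ ⟨g, hg, rfl⟩ k v
    change (g : Matrix I8 I8 F) *ᵥ ((k : Matrix I8 I8 F) *ᵥ v) = (k : Matrix I8 I8 F) *ᵥ ((g : Matrix I8 I8 F) *ᵥ v)
    rw [Matrix.mulVec_mulVec, Matrix.mulVec_mulVec, hc g hg k k.2]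

/-- the fixed space of an element of a group of symplectic type -/
theorem fx_le {E : Subgroup (GL I8 F)} {s m : ℕ} (habs : ActsAbsolutelyIrreducibly (matrixSet E)) (C : H920.Coord E s m)
    {x : E} (hx : x ≠ 1) : finrank F (fx (lin (x : GL I8 F))) ≤ 4 := by
  by_cases hc : x ∈ Subgroup.center E
  · obtain ⟨c, e⟩ := (mem_scalars_iff _).1 (H920.mem_scalars_of_mem_center habs hc)
    have h1 : fx (lin (x : GL I8 F)) = ⊥ := by
      refine (Submodule.eq_bot_iff _).2 fun w hw => ?_
      rw [mem_fx, lin, e, map_smul, Matrix.toLin'_one, LinearMap.smul_apply, LinearMap.id_apply] at hw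
      by_contra h0
      have h2 : (c : F) = 1 := smul_left_injective F h0 (hw.trans (one_smul F w).symm)
      exact hx (Subtype.ext (Units.ext (by rw [e, h2, one_smul]; rfl)))
    rw [h1, finrank_bot]
    norm_num
  · obtain ⟨y, hy⟩ := not_forall.1 (mt Subgroup.mem_center_iff.2 hc)
    obtain ⟨e, he⟩ : ∃ e : F, ((x : GL I8 F) : Matrix I8 I8 F) * ((y : GL I8 F) : Matrix I8 I8 F) =
      e • (((y : GL I8 F) : Matrix I8 I8 F) * ((x : GL I8 F) : Matrix I8 I8 F)) := ⟨_, C.comm x y⟩
    have h1 : e ≠ 1 := fun h => hy (Subtype.ext (Units.ext (by rw [h, one_smul] at he; exact he.symm)))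
    have h2 : Disjoint ((fx (lin (x : GL I8 F))).map (lin (y : GL I8 F))) (fx (lin (x : GL I8 F))) := by
      rw [Submodule.disjoint_def]
      rintro _ ⟨w, hw, rfl⟩ h3
      have h4 : lin (x : GL I8 F) w = w := mem_fx.1 hw
      rw [mem_fx, lin, lin, ← matl, he, map_smul, LinearMap.smul_apply, matl] at h3
      rw [lin] at h4
      rw [h4] at h3
      by_contra h0
      exact h1 (smul_left_injective F h0 (h3.trans (one_smul F _).symm))
    have h3 := Submodule.finrank_add_finrank_le_of_disjoint h2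
    rw [fr_map, H886.O8R.finrank_I8'] at h3
    omega

/-- groups of symplectic type are not transitive on the nonsingular points -/
theorem symp_tr (hF : Nat.card F = 3) {E : Subgroup (GL I8 F)} {s m : ℕ} (hH : H ≤ isometryGroup F (quadFormPlus 4 F))
    (hE : E ≤ H) (hn : ∀ h ∈ H, ∀ x ∈ E, h * x * h⁻¹ ∈ E) (habs : ActsAbsolutelyIrreducibly (matrixSet E))
    (C : H920.Coord E s m) (hc : Nat.card E = 128 ∨ Nat.card E = 256) {v : I8 → F} (hv : quadFormPlus 4 F v ≠ 0) : ¬ Tr H v := by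
  intro ht
  letI : MulAction E {u : I8 → F // quadFormPlus 4 F u = quadFormPlus 4 F v} :=
    { smul := fun x u => ⟨lin (x : GL I8 F) u, (H823.O8S.iso_of_mem (hH (hE x.2)) u.1).trans u.2⟩
      one_smul := fun u => Subtype.ext (by change lin (1 : GL I8 F) u.1 = u.1; rw [lin_one]; rfl)
      mul_smul := fun x y u => Subtype.ext (lin_mul_apply _ _ _) }
  have hs : ∀ (x : E) (u : {u : I8 → F // quadFormPlus 4 F u = quadFormPlus 4 F v}),
      x • u = u ↔ lin (x : GL I8 F) u.1 = u.1 := fun x u => Subtype.ext_iff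
  have h1 : ∀ (u u' : {u : I8 → F // quadFormPlus 4 F u = quadFormPlus 4 F v}) (g : GL I8 F), g ∈ H →
      (lin g u.1 = u'.1 ∨ lin g u.1 = -u'.1) →
      Nat.card (MulAction.stabilizer E u) ≤ Nat.card (MulAction.stabilizer E u') := by
    intro u u' g hg e
    refine Nat.card_le_card_of_injective (fun x => ⟨⟨g * x.1.1 * g⁻¹, hn g hg _ x.1.2⟩, (hs _ _).2 ?_⟩) fun a b hab => ?_
    · have h2 := (hs _ _).1 x.2
      have h3 : lin (g * x.1.1 * g⁻¹) (lin g u.1) = lin g u.1 := by rw [lin_mul_apply, lin_inv_apply, lin_mul_apply, h2]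
      rcases e with e | e
      · rwa [e] at h3
      · rwa [e, map_neg, neg_inj] at h3
    · have h2 : g * a.1.1 * g⁻¹ = g * b.1.1 * g⁻¹ := congrArg (fun z => z.1.1) hab
      exact Subtype.ext (Subtype.ext (mul_left_cancel (mul_right_cancel h2)))
  obtain ⟨v₀, hv₀⟩ : ∃ v₀ : {u : I8 → F // quadFormPlus 4 F u = quadFormPlus 4 F v}, v₀.1 = v := ⟨⟨v, rfl⟩, rfl⟩
  have h5 : ∀ u : {u : I8 → F // quadFormPlus 4 F u = quadFormPlus 4 F v},
      Nat.card (MulAction.stabilizer E u) = Nat.card (MulAction.stabilizer E v₀) := fun u => by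
    obtain ⟨g, hg, e⟩ := ht u.1 u.2
    replace e : lin g v₀.1 = u.1 ∨ lin g v₀.1 = -u.1 := by rw [hv₀]; exact e
    refine le_antisymm (h1 u v₀ g⁻¹ (H.inv_mem hg) ?_) (h1 v₀ u g hg e)
    rcases e with e | e
    · exact Or.inl (by rw [← e, lin_inv_apply])
    · exact Or.inr (by rw [← neg_neg u.1, ← e, map_neg, lin_inv_apply])
  have h6 : ∀ x : E, x ≠ 1 →
      Nat.card (MulAction.fixedBy {u : I8 → F // quadFormPlus 4 F u = quadFormPlus 4 F v} x) ≤ 81 := fun x hx => by
    refine (Nat.card_le_card_of_injective (β := fx (lin (x : GL I8 F))) (fun u => ⟨u.1.1, mem_fx.2 ((hs _ _).1 u.2)⟩)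
      fun a b hab => Subtype.ext (Subtype.ext (congrArg (fun z => z.1) hab))).trans ?_
    rw [Module.natCard_eq_pow_finrank (K := F), hF]
    exact Nat.pow_le_pow_right (by norm_num) (fx_le habs C hx)
  obtain ⟨h2, h3⟩ := burn h5 h6
  have h4 : 0 < Nat.card (MulAction.stabilizer E v₀) := Nat.card_pos
  rw [H886.O8R.card_level hv, ← Nat.card_eq_fintype_card, hF] at h2 h3
  generalize Nat.card (MulAction.stabilizer E v₀) = n at h2 h3 h4
  rcases hc with hc | hc <;> rw [hc] at h2 h3 <;> omega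

end gen

theorem tr_dvd {R : Subgroup G₃} {v : V₃} (hv : Q₃ v ≠ 0) (h : Tr (pre Q₃ R) v) : 27 ∣ Nat.card R := by
  have h1 := index_pt hv
  rw [card3] at h1
  norm_num at h1
  exact dvd_trans (by omega) (tr_pd hv h).index_dvd

theorem geo_of {R : Subgroup G₃} {N : ℕ} (h : Nat.card (pre Q₃ R) ∣ N) (h1 : ¬ 3 ^ 5 ∣ N) (h2 : ¬ 13 ∣ N)
    (h3 : ¬ 25 ∣ N ∨ ¬ 7 ∣ N) (h4 : ∀ v, Q₃ v ≠ 0 → ¬ Tr (pre Q₃ R) v) : Geo R :=
  have h5 : Nat.card R ∣ N := card_dvd_pre.trans h
  ⟨fun e => h1 (e.trans h5), fun e => h2 (e.trans h5),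
    fun e e' => h3.elim (fun k => k (e.trans h5)) fun k => k (e'.trans h5), h4⟩

theorem geo_n4 {R : Subgroup G₃} (h : N4 (pre Q₃ R)) : Geo R := by
  have h1 := card_n4 pre_le h
  rw [card3] at h1
  exact geo_of h1 (by norm_num) (by norm_num) (Or.inr (by norm_num)) fun v hv => h.not_tr hv

end Sp

open Sp in
/-- **(1)** -/
theorem boxSp : BoxSp := by
  intro R _ hr'
  have hH : pre Q₃ R ≤ isometryGroup F₃ Q₃ := pre_le
  have hr : 5 ∣ Nat.card (pre Q₃ R) := hr'.trans card_dvd_pre
  have hQ : Nondeg (quadPlus 4 F₃) := nondeg_iff.2 quadPlus_nondegenerate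
  have hcoe : ⇑(quadPlus 4 F₃) = Q₃ := coe_quadPlus 4 F₃
  have hn : Fintype.card (Fin 4 ⊕ Fin 4) = 8 := by simp
  have hH' : pre Q₃ R ≤ isometryGroup F₃ (quadPlus 4 F₃) := by rw [hcoe]; exact hH
  have h2 : (2 : F₃) ≠ 0 := by decide
  have hodd : Odd 5 := by decide
  by_cases hirr : ActsIrreducibly (matrixSet (pre Q₃ R))
  · rcases Cfsg.Agent.H925.orth_irreducible_fine (by omega) (Cfsg.Agent.H884.OddForm.isNondegenerate_of_nondeg _ hQ) hH' hirr with
      ⟨t', k', D, htk, hD, hHD, -⟩ | ⟨k', D, hk', hD, hDs, hHD⟩ | ⟨s', K, hs', hsn, hK, hadj, hHK⟩ |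
      ⟨n₁, n₂, e, P, ε, f₁, f₂, h1, h1', h12, hε, hf₁, hf₂, hT, hHT⟩ | ⟨F₁, s', B, ζ, -, hs', hcard, -⟩ |
      ⟨s', m, E, hRH, hnE, hHR, habs, hR, -, hm, hsm, -, ht', -⟩ | ⟨k', t', e, P, E, hkt, hW⟩ | hS
    · have h2t := hD.decomp.decomp.two_le
      have hkpos := hD.decomp.decomp.pos
      rw [hn] at htk
      by_cases hk4 : k' < 4
      · have hrt := decomp_le hD.decomp.decomp hHD pp5 hk4 hr
        obtain rfl : k' = 1 := by
          by_contra hcon
          have := Nat.mul_le_mul hrt (by omega : 2 ≤ k')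
          omega
        obtain rfl : t' = 8 := by omega
        have h3 : ∀ r a : ℕ, r.Prime → r ≠ 2 → r ^ a ∣ Nat.card R → r ^ a ∣ 40320 := fun r a hp h5 h6 =>
          H856.Om7.decomp_dvd hD.decomp.decomp hHD hp (fun h7 => by
            rw [card3] at h7
            exact h5 ((Nat.prime_dvd_prime_iff_eq hp Nat.prime_two).1 h7)) (h6.trans card_dvd_pre)
        exact Or.inr (Or.inr ⟨fun e => by simpa using h3 3 5 (by norm_num) (by norm_num) e,
          fun e => by simpa using h3 13 1 (by norm_num) (by norm_num) e,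
          fun e => by simpa using h3 5 2 (by norm_num) (by norm_num) e,
          fun v hv e => by simpa using h3 3 3 (by norm_num) (by norm_num) (tr_dvd hv e)⟩)
      · obtain rfl : t' = 2 := by
          by_contra hcon
          have := Nat.mul_le_mul (by omega : 3 ≤ t') (not_lt.1 hk4)
          omega
        obtain rfl : k' = 4 := by omega
        refine Or.inr (Or.inr (geo_n4 ⟨D 0, nondeg_of_on (hD.decomp.nondegenerate 0),
          hD.decomp.decomp.finrank_eq 0, fun g hg => ?_, fun g hg m hm hgm => inv_of_fix hHD hg hm hgm 0⟩))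
        obtain ⟨σ, hσ⟩ := hHD hg
        have h3 : ∀ w ∈ D 0, lin g w ∈ D (σ 0) := fun w hw => by
          rw [← hσ]
          exact Submodule.mem_map_of_mem hw
        by_cases h0 : σ 0 = 0
        · rw [h0] at h3
          exact Or.inl h3
        · exact Or.inr fun w hw u hu => hD.decomp.orthogonal 0 (σ 0) (Ne.symm h0) u hu _ (h3 w hw)
    · refine Or.inl (G4.sr_ts boxTW pp5 (W := D 0) (fun h0 => ?_) (fun w hw => (qp w).symm.trans (hDs 0 w hw))
        fun g hg hgr => inv_of_fix hHD hg hodd hgr 0)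
      have h3 := hD.finrank_eq 0
      have h6 := hD.pos
      rw [h0, finrank_bot] at h3
      omega
    · rw [hn] at hsn
      obtain rfl : s' = 2 := (Nat.prime_dvd_prime_iff_eq hs' Nat.prime_two).1 (hs'.dvd_of_dvd_pow (n := 3) hsn)
      have hJ : (∃ (J : Module.End F₃ V₃) (c d : F₃), Fld J c d ∧ pre Q₃ R ≤ NJ J c) → SR 5 R := fun ⟨J, c, d, hJ, hle⟩ =>
        SR_of_NJ pp5 hJ fun g hg _ => hle hg
      rcases field_cases h2 hK hadj hHK with h3 | h3
      · exact Or.inl (hJ h3)
      · have h4 := card_sa h2 hH' hK hHK h3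
        rw [card3] at h4
        rw [hcoe] at hadj
        exact (NT.field hH hirr hK hadj hHK).imp hJ fun h5 =>
          Or.inr (geo_of h4 (by norm_num) (by norm_num) (Or.inr (by norm_num)) (h5 card3.ge))
    · exact Or.inl (G4.tens (p := 3) (n := 1) boxTW card3 pp5 e P hε h1 h1' (h12.trans hn) hf₁ hf₂ hT hHT)
    · rw [card3] at hcard
      exact absurd (Nat.Prime.eq_one_of_pow (hcard ▸ Nat.prime_three)) hs'.one_lt.ne'
    · obtain ⟨C⟩ := exists_coord_of habs hR hm hsm ht'
      have h8 : s' ^ m = 2 ^ 3 := hsm.symm.trans hn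
      obtain rfl : s' = 2 := (Nat.prime_dvd_prime_iff_eq hR.prime Nat.prime_two).1
        (hR.prime.dvd_of_dvd_pow (h8 ▸ dvd_pow_self _ (by omega)))
      obtain rfl : m = 3 := Nat.pow_right_injective (le_refl 2) h8
      have hc : Nat.card E = 128 ∨ Nat.card E = 256 := by
        rcases ht' with h | h | h
        · exact absurd h.1 (by decide)
        · exact Or.inr h.2.2
        · exact Or.inl h.2.2
      have h3 := card_dvd_of_coord Nat.prime_two habs C hHR
      rw [LieClassical.SympCount.card_symplecticGroup, ZMod.card, card3,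
        show (2 : ℕ) ^ (3 ^ 2) * ∏ i ∈ Finset.range 3, (2 ^ (2 * (i + 1)) - 1) = 1451520 by decide] at h3
      refine Or.inr (Or.inr (geo_of (N := 256 * (3 - 1) * 1451520) (h3.trans ?_) (by norm_num) (by norm_num)
        (Or.inl (by norm_num)) fun v hv => symp_tr card3 hH hRH hnE habs C hc hv))
      rcases hc with h | h <;> rw [h] <;> norm_num
    · exfalso
      have h2k := hW.two_le_m
      have h2t := hW.two_le_t
      have hk3 : k' < 3 := by
        by_contra hcon
        have h3 : 3 ^ 2 ≤ k' ^ t' := (Nat.pow_le_pow_left (not_lt.1 hcon) 2).trans (Nat.pow_le_pow_right (by omega) h2t)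
        omega
      have ht4 : t' < 4 := by
        by_contra hcon
        have h3 : 2 ^ 4 ≤ k' ^ t' := (Nat.pow_le_pow_left h2k 4).trans (Nat.pow_le_pow_right (by omega) (not_lt.1 hcon))
        omega
      rcases H251.GeoCard.wreath e P pp5.prime (pp5.not_dvd (by omega))
        (hr.trans (Subgroup.card_dvd_of_le hW.wreath)) with h | h
      · omega
      · have := le_of_div pp5 (one_lt_q F₃).le h
        omega
    · exact Or.inr (Or.inl hS)
  · rcases Cfsg.Agent.H925.reducible_cases (Cfsg.Agent.H884.OddForm.isNondegenerate_of_nondeg _ hQ) hH' hirr with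
      ⟨W, hW0, hWs, hHW⟩ | ⟨W, hW0, hWn, hd, hHW⟩ | ⟨h3, -⟩
    · exact Or.inl (G4.sr_ts boxTW pp5 hW0 (fun w hw => (qp w).symm.trans (hWs w hw)) fun g hg _ => inv_of_mem (hHW hg))
    · rw [hn] at hd
      by_cases h3 : finrank F₃ W ≤ 3
      · exact Or.inl (G4.sr_small pp5 hW0 h3 fun g hg _ => inv_of_mem (hHW hg))
      · exact Or.inr (Or.inr (geo_n4 ⟨W, nondeg_of_on hWn, (by omega : finrank F₃ W = 4),
          fun g hg => Or.inl (inv_of_mem (hHW hg)), fun g hg _ _ _ => inv_of_mem (hHW hg)⟩))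
    · exact absurd h3 h2

end Cfsg.Agent.SM.O8.T3
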