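import Cfsg.Agent.SM.O8.Three.SpinA

/-!
# SM, `S = PΩ⁺₈(3)`: a subgroup `Ω₇(3)` fixes a point of one of the modules (helper57)
-/

set_option autoImplicit false

namespace Cfsg.Agent.SM.O8.T3

open Module QuadraticMap Cfsg Cfsg.Geo Cfsg.Agent.LieClassical.OrthCore Cfsg.Agent.LieClassical.OrthTrans
open Cfsg.Agent.H951 (fx mem_fx)
open Cfsg.Agent.H884.El (pre lin PP Iso)
open Cfsg.Agent.H708.O8 (I8 T8)
open Cfsg.Agent.H823.O8S (mk8 gl8 mk8_eq_one)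
open Cfsg.Agent.H198.Carriers (plusQ)
open Cfsg.Agent.H955 (perp res mem_perp nondeg_res_iff finrank_add_perp exists_add_perp)
open Cfsg.Agent.H886.O8R (Xw)

namespace Spin

local notation "q₃" => plusQ 4 (ZMod 3)
local notation "v₀" => Ext.v0 (ZMod 3)

/-! ### two counts -/

/-- coordinates -/
def crd : V₃ ≃ (F₃ × F₃ × F₃ × F₃) × F₃ × F₃ × F₃ × F₃ where
  toFun x := ((x (.inl 0), x (.inl 1), x (.inl 2), x (.inl 3)), x (.inr 0), x (.inr 1), x (.inr 2), x (.inr 3))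
  invFun p := Sum.elim ![p.1.1, p.1.2.1, p.1.2.2.1, p.1.2.2.2] ![p.2.1, p.2.2.1, p.2.2.2.1, p.2.2.2.2]
  left_inv x := by
    funext i
    rcases i with i | i <;> fin_cases i <;> rfl
  right_inv _ := rfl

theorem card_eq {P : V₃ → Prop} (P' : (F₃ × F₃ × F₃ × F₃) × F₃ × F₃ × F₃ × F₃ → Prop) [DecidablePred P']
    (h : ∀ x, P x ↔ P' (crd x)) : Nat.card {x // P x} = (Finset.univ.filter P').card := by
  rw [Nat.card_congr (crd.subtypeEquiv h), Nat.card_eq_fintype_card, Fintype.card_subtype]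

theorem q_eq (x : V₃) : q₃ x = x (.inl 0) * x (.inr 0) + x (.inl 1) * x (.inr 1) + x (.inl 2) * x (.inr 2) +
    x (.inl 3) * x (.inr 3) := Fin.sum_univ_four fun i => x (.inl i) * x (.inr i)

/-- a second vector -/
def w0 : V₃ := Sum.elim ![0, 1, 0, 0] ![0, -1, 0, 0]

theorem v0_eq : v₀ = Sum.elim ![1, 0, 0, 0] ![-1, 0, 0, 0] := by
  funext i
  rcases i with i | i <;> fin_cases i <;> rfl

theorem pol_v0 (x : V₃) : polar q₃ v₀ x = x (.inr 0) - x (.inl 0) := by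
  rw [polar, q_eq, q_eq, q_eq, v0_eq]
  simp
  ring

theorem pol_w0 (x : V₃) : polar q₃ w0 x = x (.inr 1) - x (.inl 1) := by
  rw [polar, q_eq, q_eq, q_eq, w0]
  simp
  ring

theorem q_v0 : q₃ v₀ = -1 := Ext.Q_v0

theorem q_v0_ne : q₃ v₀ ≠ 0 := Ext.Q_v0_ne

theorem q_w0 : q₃ w0 = -1 := by
  rw [q_eq, w0]
  simp

theorem v0_w0 : polar q₃ v₀ w0 = 0 := by
  rw [pol_v0, w0]
  simp

theorem card702 : Nat.card {x : V₃ // q₃ x = -1 ∧ polar q₃ v₀ x = 0} = 702 := by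
  rw [card_eq (fun p => p.1.1 * p.2.1 + p.1.2.1 * p.2.2.1 + p.1.2.2.1 * p.2.2.2.1 + p.1.2.2.2 * p.2.2.2.2 = -1 ∧
    p.2.1 - p.1.1 = 0) fun x => by rw [q_eq, pol_v0]; rfl]
  decide +kernel

theorem card225 : Nat.card {x : V₃ // q₃ x = 0 ∧ polar q₃ v₀ x = 0 ∧ polar q₃ w0 x = 0} = 225 := by
  rw [card_eq (fun p => p.1.1 * p.2.1 + p.1.2.1 * p.2.2.1 + p.1.2.2.1 * p.2.2.2.1 + p.1.2.2.2 * p.2.2.2.2 = 0 ∧
    p.2.1 - p.1.1 = 0 ∧ p.2.2.1 - p.1.2.1 = 0) fun x => by rw [q_eq, pol_v0, pol_w0]; rfl]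
  decide +kernel

/-! ### the model -/

theorem card_X0 : Nat.card (Xw v₀) = 4585351680 :=
  (Nat.card_eq_of_bijective _ (Ext.piT_bij Ext.Q_v0_ne)).trans (card_pt q_v0_ne)

/-- the stabiliser of a second vector -/
noncomputable def Cw (w : V₃) : Subgroup (Xw v₀) := (Xw v₀ ⊓ Xw w).subgroupOf (Xw v₀)

theorem mem_Cw {w : V₃} {x : Xw v₀} : x ∈ Cw w ↔ ln x.1 w = w := ⟨fun h => h.2, fun h => ⟨x.2, h⟩⟩

theorem nd_pair {a b : V₃} (ha : q₃ a ≠ 0) (hb : q₃ b ≠ 0) (h : polar q₃ a b = 0) :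
    Nondeg (res q₃ (Submodule.span F₃ {a, b})) := by
  refine nondeg_res_iff.2 fun x hx k => ?_
  obtain ⟨s, t, rfl⟩ := Submodule.mem_span_pair.1 hx
  have h1 := k a (Submodule.subset_span (Or.inl rfl))
  have h2 := k b (Submodule.subset_span (Or.inr rfl))
  rw [polar_add_left, polar_smul_left, polar_smul_left, pol_self, polar_comm _ b a, h, smul_zero, add_zero, smul_eq_mul] at h1
  rw [polar_add_left, polar_smul_left, polar_smul_left, pol_self, h, smul_zero, zero_add, smul_eq_mul] at h2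
  rw [(mul_eq_zero.1 h1).resolve_right (mul_ne_zero two_ne ha), (mul_eq_zero.1 h2).resolve_right (mul_ne_zero two_ne hb),
    zero_smul, zero_smul, add_zero]

theorem neg_one_ne {w : V₃} (h : q₃ w = -1) : q₃ w ≠ 0 := by rw [h]; decide

theorem card_Cw {w : V₃} (h1 : q₃ w = -1) (h2 : polar q₃ v₀ w = 0) : Nat.card (Cw w) = 6531840 := by
  have h3 := H886.O8R.card_orbit (Xw v₀) w
  have h4 : Nat.card {v : V₃ // ∃ x ∈ Xw v₀, H886.O8R.om F₃ x w = v} = 702 := by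
    rw [← card702]
    refine Nat.card_congr (Equiv.subtypeEquivRight fun v => ⟨?_, fun ⟨k1, k2⟩ => ?_⟩)
    · rintro ⟨x, hx, rfl⟩
      have h5 : ln x v₀ = v₀ := hx
      refine ⟨(q_ln x w).trans h1, ?_⟩
      show polar q₃ v₀ (ln x w) = 0
      rw [← h2, ← pol_ln x v₀ w, h5]
    · obtain ⟨g, hg, g1, g2⟩ := H886.O8R.trans_plane (good8 (F := F₃)).nondeg (by rw [Can.dim8]; norm_num)
        (nd_pair q_v0_ne (neg_one_ne h1) h2) (indep q_v0_ne (ne_zero_of_Q (neg_one_ne h1)) h2)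
        (nd_pair q_v0_ne (neg_one_ne k1) k2) (indep q_v0_ne (ne_zero_of_Q (neg_one_ne k1)) k2) rfl (h1.trans k1.symm)
        (h2.trans k2.symm) (neg_one_ne h1)
      obtain ⟨y, hy⟩ := Can.exE hg
      exact ⟨y, (hy _).trans g1, (hy _).trans g2⟩
  rw [h4, card_X0] at h3
  rw [Cw, Nat.card_congr (Subgroup.subgroupOfEquivOfLe inf_le_left).toEquiv]
  omega

theorem exists_iso {K : Type} [Field K] [Fintype K] (hK : Fintype.card K = 3) :
    Nonempty (Xw v₀ ≃* POmega K (quadFormOdd 3 K)) := by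
  obtain ⟨e⟩ := UGT.U2.Rec.Congr.nonempty_POmegaOdd
    (FiniteField.ringEquivOfCardEq ((ZMod.card 3).trans hK.symm) : F₃ ≃+* K) 3
  have h1 := card_o7 (ZMod.card 3)
  have h4 : Nat.card (POmega F₃ (quadFormOdd 3 F₃)) ≤ Nat.card (Omega F₃ (quadFormOdd 3 F₃)) :=
    Nat.card_le_card_of_surjective _ (QuotientGroup.mk'_surjective _)
  have h5 : Nat.card (Omega F₃ (quadFormOdd 3 F₃)) ≤ Nat.card (Xw v₀) := Nat.card_le_card_of_injective _ (Ext.exX_inj two_ne)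
  have b1 : Function.Bijective (Ext.exX two_ne) := (Ext.exX_inj two_ne).bijective_of_nat_card_le
    ((card_X0.trans h1.symm).le.trans h4)
  have b2 : Function.Bijective (QuotientGroup.mk' (Subgroup.center (Omega F₃ (quadFormOdd 3 F₃)))) :=
    (QuotientGroup.mk'_surjective _).bijective_of_nat_card_le (h5.trans (card_X0.trans h1.symm).le)
  exact ⟨((MulEquiv.ofBijective _ b1).symm.trans (MulEquiv.ofBijective _ b2)).trans e⟩

theorem sg_conj {u : V₃} (hu : q₃ u = 0) {g y : Om F₃} (hg : ln g u = u) (hy : y ∈ Can.Sg hu) : g * y * g⁻¹ ∈ Can.Sg hu := by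
  obtain ⟨w, hw, hy⟩ := hy
  refine ⟨ln g w, by rw [← hg, pol_ln, hw], fun v => ?_⟩
  have h5 : polar q₃ u (ln g⁻¹ v) = polar q₃ u v := by rw [← pol_ln g, hg, ln_apply_inv]
  have h6 : polar q₃ w (ln g⁻¹ v) = polar q₃ (ln g w) v := by rw [← pol_ln g, ln_apply_inv]
  rw [ln_mul, ln_mul, hy, siegelLin_apply, siegelLin_apply, h5, h6, q_ln]
  simp only [map_add, map_sub, map_smul, hg, ln_apply_inv]

theorem sg_fix {u : V₃} (hu : q₃ u = 0) {y : Om F₃} (hy : y ∈ Can.Sg hu) : ln y u = u := by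
  obtain ⟨w, hw, hy⟩ := hy
  rw [hy, siegelLin_apply, pol_self, hu, polar_comm _ w u, hw]
  simp

theorem sg_pow {u : V₃} (hu : q₃ u = 0) {y : Om F₃} (hy : y ∈ Can.Sg hu) : y ^ 3 = 1 := by
  obtain ⟨w, hw, hy⟩ := hy
  refine om_ext fun v => ?_
  have h1 : w + w + w = 0 := by
    funext i
    exact (by decide : ∀ a : F₃, a + a + a = 0) (w i)
  rw [pow_succ, pow_two, ln_mul, ln_mul, hy, hy, hy, siegelLin_comp hu hw hw, ln_one,
    siegelLin_comp hu (by rw [polar_add_right, hw, add_zero]) hw, h1, siegelLin_apply]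
  simp

/-- a `3`-group which fixes the fixed space of `z` pointwise and is normalised by `z` is trivial -/
theorem eq_one {z : Om F₃} (z5 : z ^ 5 = 1) (z1 : z ≠ 1) (h0 : fx (ln z) ≠ ⊥) {M : Subgroup (Om F₃)} (hM : IsPGroup 3 M)
    (h1 : M ≤ Can.Pw (fx (ln z))) (h2 : ∀ y ∈ M, z⁻¹ * y * z ∈ M) {y : Om F₃} (hy : y ∈ M) : y = 1 := by
  obtain ⟨f4, fn, -⟩ := Can.fx_four pp5 z5 z1 h0
  have h3 := finrank_add_perp (good8 (F := F₃)).nondeg (fx (ln z))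
  rw [f4, Can.dim8] at h3
  have h4 : finrank F₃ (perp q₃ (fx (ln z))) = 4 := Nat.add_left_cancel h3
  obtain ⟨x, x1, x0, x2⟩ := exists_fixed (r := 3) (by norm_num) hM (· ∈ perp q₃ (fx (ln z)))
    (fun g hg x hx w hw => by rw [← h1 hg w hw, pol_ln, hx w hw]) (zero_mem _) (by
      rw [show Nat.card {x // x ∈ perp q₃ (fx (ln z))} = _ from Module.natCard_eq_pow_finrank (K := F₃), h4, Nat.card_zmod]
      norm_num)
  let W : Submodule F₃ V₃ := perp q₃ (fx (ln z)) ⊓ ⨅ g : M, fx (ln g.1)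
  have hW : ∀ {v}, v ∈ W ↔ v ∈ perp q₃ (fx (ln z)) ∧ ∀ g ∈ M, ln g v = v := by
    intro v
    rw [Submodule.mem_inf, Submodule.mem_iInf]
    exact and_congr_right fun _ => ⟨fun h g hg => mem_fx.1 (h ⟨g, hg⟩), fun h g => mem_fx.2 (h g g.2)⟩
  have h5 : W = perp q₃ (fx (ln z)) := by
    refine Submodule.eq_of_le_of_finrank_le inf_le_left (h4.le.trans (not_lt.1 fun k => x0 ?_))
    have h6 : W ≤ fx (ln z) := (iso_ln pp5 (by norm_num) z5).le_fx pp5 (fun v hv => hW.2 ⟨fun w hw => by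
      rw [← mem_fx.1 hw, pol_ln, (hW.1 hv).1 w hw], fun g hg => by
        have h7 := congrArg (ln z) ((hW.1 hv).2 _ (h2 g hg))
        rwa [ln_mul, ln_mul, ln_apply_inv] at h7⟩) k
    exact nondeg_res_iff.1 fn x (h6 (hW.2 ⟨x1, x2⟩)) fun w hw => (polar_comm _ _ _).trans (x1 w hw)
  refine om_ext fun v => ?_
  obtain ⟨a, b, rfl⟩ := exists_add_perp fn v
  rw [ln_one, map_add, h1 hy a a.2, (hW.1 (h5.ge b.2)).2 y hy]

/-- the two planes meet -/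
theorem meet (φ : Xw v₀ →* G₃) (hφ : Function.Injective φ) {w u : V₃} (u0 : u ≠ 0) (hu : q₃ u = 0)
    (uv : polar q₃ v₀ u = 0) (uw : polar q₃ w u = 0) {z : Xw v₀} (z5 : z ^ 5 = 1) (z1 : z ≠ 1) (zw : ln z.1 w = w)
    (zu : ln z.1 u = u) (hD : finrank F₃ (Fx 5 ((Cw w).map φ)) = 2) (hD' : finrank F₃ (Fx 5 ((Cw (w + u)).map φ)) = 2) :
    Fx 5 ((Cw w).map φ) ⊓ Fx 5 ((Cw (w + u)).map φ) ≠ ⊥ := by
  intro hb
  obtain ⟨t, ht, t5⟩ := lift_odd (r := 5) (by decide) (z := φ z) (by rw [← map_pow, z5, map_one])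
  have t1 : t ≠ 1 := fun e => z1 (hφ (by rw [← ht, e, map_one, map_one]))
  have key : ∀ (y : Om F₃) (c : Xw v₀), mk8 F₃ y = φ c → y ^ 5 = 1 → ln c.1 w = w → ln c.1 u = u →
      Fx 5 ((Cw w).map φ) ⊔ Fx 5 ((Cw (w + u)).map φ) ≤ fx (ln y) := fun y c h1 h2 h3 h4 =>
    sup_le (Can.Fx_le ⟨c, mem_Cw.2 h3, h1.symm⟩ h2) (Can.Fx_le ⟨c, mem_Cw.2 (by rw [map_add, h3, h4]), h1.symm⟩ h2)
  have h1 := Submodule.finrank_sup_add_finrank_inf_eq (Fx 5 ((Cw w).map φ)) (Fx 5 ((Cw (w + u)).map φ))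
  rw [hb, finrank_bot, hD, hD'] at h1
  have h2 := key t z ht t5 zw zu
  have h0 : fx (ln t) ≠ ⊥ := fun e => by
    rw [e, le_bot_iff] at h2
    rw [h2, finrank_bot] at h1
    omega
  have h3 := Submodule.eq_of_le_of_finrank_le h2 ((Can.fx_four pp5 t5 t1 h0).1.le.trans h1.ge)
  let N : Subgroup (Xw v₀) := (Can.Sg hu).subgroupOf (Xw v₀) ⊓ Cw w
  have hN : ∀ g : Xw v₀, ln g.1 w = w → ln g.1 u = u → ∀ n ∈ N, g * n * g⁻¹ ∈ N := fun g g1 g2 n hn =>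
    ⟨sg_conj hu g2 hn.1, (Cw w).mul_mem ((Cw w).mul_mem (mem_Cw.2 g1) hn.2) ((Cw w).inv_mem (mem_Cw.2 g1))⟩
  have inv : ∀ {x}, ln z.1 x = x → ln (z⁻¹).1 x = x := fun {x} h => by
    conv_lhs => rw [← h]
    exact ln_inv_apply _ _
  let M : Subgroup (Om F₃) := Can.Pw (fx (ln t)) ⊓ (N.map φ).comap (mk8 F₃)
  have tP : t ∈ Can.Pw (fx (ln t)) := fun _ h => mem_fx.1 h
  have hM : ∀ y ∈ M, y = 1 := fun y hy => by
    refine eq_one t5 t1 h0 (fun g => ⟨1, Subtype.ext ?_⟩) inf_le_left (fun g hg => Subgroup.mem_inf.2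
      ⟨mul_mem (mul_mem (inv_mem tP) hg.1) tP, ?_⟩) hy
    · obtain ⟨g1, n, hn, e⟩ := g.2
      obtain ⟨c, hc⟩ := mk8_eq_one (y := g.1 ^ 3) (by
        rw [map_pow, ← e, ← map_pow, show n ^ 3 = 1 from Subtype.ext (sg_pow hu hn.1), map_one])
      obtain ⟨a, ha, a0⟩ := (Submodule.ne_bot_iff _).1 h0
      have h4 : c • a = a := (hc a).symm.trans ((Can.Pw _).pow_mem g1 3 a ha)
      have h5 : c = 1 := smul_left_injective F₃ a0 (h4.trans (one_smul _ a).symm)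
      exact om_ext fun v => ((hc v).trans (by rw [h5, one_smul])).trans (ln_one v).symm
    · obtain ⟨-, n, hn, e⟩ := hg
      refine ⟨_, hN z⁻¹ (inv zw) (inv zu) n hn, ?_⟩
      rw [inv_inv, map_mul, map_mul, map_mul, map_mul, map_inv, map_inv, ht, e]
  have z5' : z.1 ^ 5 = 1 := congrArg Subtype.val z5
  have uf : u ∈ fx (ln z.1) := mem_fx.2 zu
  obtain ⟨f4, fn, -⟩ := Can.fx_four pp5 z5' (fun e => z1 (Subtype.ext e)) fun e => u0 (by rwa [e] at uf)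
  obtain ⟨x, hx, x0⟩ : ∃ x ∈ perp q₃ (fx (ln z.1)), x ≠ 0 := (Submodule.ne_bot_iff _).1 fun e => by
    have h4 := finrank_add_perp (good8 (F := F₃)).nondeg (fx (ln z.1))
    rw [f4, Can.dim8, e, finrank_bot] at h4
    omega
  have ux := hx u uf
  obtain ⟨n, hn⟩ := Can.exE (siegel_mem_E hu ux)
  have fixn : ∀ {a}, ln z.1 a = a → polar q₃ a u = 0 → ln n a = a := fun {a} h1 h2 => by
    rw [hn, siegel_apply, polar_comm _ u a, h2, polar_comm _ x a, hx a (mem_fx.2 h1)]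
    simp
  let n' : Xw v₀ := ⟨n, fixn z.2 uv⟩
  have nN : n' ∈ N := ⟨⟨x, ux, hn⟩, mem_Cw.2 (fixn zw uw)⟩
  obtain ⟨m, hm⟩ := mk8_surjective (φ n')
  have h4 : m * t * m⁻¹ * t⁻¹ = 1 := by
    refine hM _ (Subgroup.mem_inf.2 ⟨mul_mem (fun a ha => mem_fx.1 (key (m * t * m⁻¹) (n' * z * n'⁻¹) ?_ ?_ ?_ ?_
      (h3.ge ha))) (inv_mem tP), n' * (z * n'⁻¹ * z⁻¹), N.mul_mem nN (hN z zw zu _ (N.inv_mem nN)), ?_⟩)
    · rw [map_mul, map_mul, map_inv, map_mul, map_mul, map_inv, hm, ht]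
    · rw [conj_pow, t5, mul_one, mul_inv_cancel]
    · exact mem_Cw.1 ((Cw w).mul_mem ((Cw w).mul_mem nN.2 (mem_Cw.2 zw)) ((Cw w).inv_mem nN.2))
    · exact mem_Cw.1 (mul_mem (mul_mem (mem_Cw.2 (sg_fix hu nN.1)) (mem_Cw.2 zu)) (inv_mem (mem_Cw.2 (sg_fix hu nN.1))))
    · simp only [map_mul, map_inv, hm, ht, mul_assoc]
  have h5 : n' * z = z * n' := hφ (by
    have h6 := congrArg (mk8 F₃) h4
    rw [map_mul, map_mul, map_mul, map_inv, map_inv, hm, ht, map_one, mul_inv_eq_one, mul_inv_eq_iff_eq_mul] at h6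
    rw [map_mul, map_mul, h6])
  obtain ⟨b, hb1⟩ := (good8 (F := F₃)).nondeg.exists_polar_eq u0 1
  have h6 : ln n (ln z.1 b) = ln z.1 (ln n b) :=
    (ln_mul n z.1 b).symm.trans ((congrArg (fun g : Xw v₀ => ln g.1 b) h5).trans (ln_mul z.1 n b))
  have h7 : polar q₃ u (ln z.1 b) = 1 := by rw [← hb1, ← pol_ln z.1 u b, zu]
  rw [hn, hn, siegel_apply, siegel_apply, h7, hb1] at h6
  simp only [map_add, map_sub, map_smul, zu, one_smul] at h6
  have h8 : ln z.1 x - x = (polar q₃ x b - polar q₃ x (ln z.1 b)) • u := by linear_combination (norm := module) -h6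
  have h9 : ln z.1 x - x = 0 := nondeg_res_iff.1 fn _ (h8 ▸ Submodule.smul_mem _ _ uf) fun a ha => by
    rw [polar_sub_left, polar_comm _ x a, hx a ha, sub_zero, ← mem_fx.1 ha, pol_ln, polar_comm _ x a, hx a ha]
  exact x0 (nondeg_res_iff.1 fn x (mem_fx.2 (sub_eq_zero.1 h9)) fun a ha => (polar_comm _ _ _).trans (hx a ha))

/-- two subgroups `Cw` generate -/
theorem gen (M7 : BoxM7) {w u : V₃} (u0 : u ≠ 0) (hu : q₃ u = 0) (h1 : q₃ w = -1) (h2 : polar q₃ v₀ w = 0)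
    (h3 : q₃ (w + u) = -1) (h4 : polar q₃ v₀ (w + u) = 0) {T : Subgroup (Xw v₀)}
    (hT : ∀ x ∈ Cw w, ∀ n, Odd n → x ^ n = 1 → x ∈ T) (hT' : ∀ x ∈ Cw (w + u), ∀ n, Odd n → x ^ n = 1 → x ∈ T) : T = ⊤ := by
  by_contra h0
  let f : Xw v₀ →* G₃ := (pt v₀).subtype.comp (Ext.piT Ext.Q_v0_ne)
  have hf : Function.Injective f := Subtype.val_injective.comp (Ext.piT_bij Ext.Q_v0_ne).1
  have hc := Subgroup.card_map_of_injective (K := T) hf
  have hd : ∀ {r k : ℕ}, r.Prime → Odd r → r ^ k ∣ 6531840 → r ^ k ∣ Nat.card T := fun hr ho h =>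
    pow_dvd hT hr ho (by rwa [card_Cw h1 h2])
  obtain ⟨a, a0, a1, a2⟩ := le_pt M7 q_v0_ne (H := T.map f) (lt_of_le_of_ne (by
    rintro _ ⟨x, -, rfl⟩
    exact (Ext.piT Ext.Q_v0_ne x).2) fun e => h0 (Subgroup.eq_top_of_card_eq T (by
      rw [← hc, e, card_pt q_v0_ne, card_X0]))) (by
    rw [hc]
    exact Nat.Coprime.mul_dvd_of_dvd_of_dvd (by norm_num) (Nat.Coprime.mul_dvd_of_dvd_of_dvd (by norm_num)
      (hd (by norm_num) (by decide) (by norm_num)) (hd (r := 5) (k := 1) (by norm_num) (by decide) (by norm_num)))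
      (hd (r := 7) (k := 1) (by norm_num) (by decide) (by norm_num)))
  have key : ∀ w, q₃ w = -1 → polar q₃ v₀ w = 0 → (∀ x ∈ Cw w, ∀ n, Odd n → x ^ n = 1 → x ∈ T) → ∃ b : F₃, a = b • w := by
    intro w k1 k2 k3
    have := Fact.mk (show Nat.Prime 7 by norm_num)
    obtain ⟨y, hy⟩ := exists_prime_orderOf_dvd_card' (G := Cw w) 7 (by rw [card_Cw k1 k2]; norm_num)
    have y7 : y.1 ^ 7 = 1 := by rw [← hy, ← Subgroup.coe_pow, pow_orderOf_eq_one, Subgroup.coe_one]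
    have y7' : y.1.1 ^ 7 = 1 := congrArg Subtype.val y7
    obtain ⟨f2, -⟩ := seven y7' fun e => by
      rw [show y = 1 from Subtype.ext (Subtype.ext e), orderOf_one] at hy
      omega
    exact plane' f2 (mem_fx.2 y.1.2) (mem_fx.2 (mem_Cw.1 y.2)) q_v0_ne (ne_zero_of_Q (neg_one_ne k1)) k2
      (mem_fx.2 (fix_of_pt a0 (a2 ⟨y.1, k3 _ y.2 7 (by decide) y7, rfl⟩) (by decide) y7')) a1
  obtain ⟨b, e1⟩ := key w h1 h2 hT
  obtain ⟨c, e2⟩ := key _ h3 h4 hT'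
  have h5 : c • u = (b - c) • w := by linear_combination (norm := module) e1 - e2
  have h6 := congrArg q₃ h5
  rw [QuadraticMap.map_smul, QuadraticMap.map_smul, hu, h1, smul_zero, smul_eq_mul, mul_neg_one, eq_comm, neg_eq_zero,
    mul_self_eq_zero] at h6
  rw [h6, zero_smul, smul_eq_zero] at h5
  exact a0 (by rw [e2, h5.resolve_right u0, zero_smul, map_zero])

/-- **the image of `Ω₇(3)`** -/
theorem main (h36 : S36) (M7 : BoxM7) (j : Xw v₀ →* G₃) (hj : Function.Injective j) :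
    ∃ α : MulAut G₃, Fx 5 (im α j.range) ≠ ⊥ ∧ finrank F₃ (Fx 5 (im α j.range)) ≤ 3 := by
  have cardj : ∀ (φ : Xw v₀ →* G₃), Function.Injective φ → ∀ {w}, q₃ w = -1 → polar q₃ v₀ w = 0 →
      Nat.card ((Cw w).map φ) = 6531840 := fun φ hφ w h1 h2 => (Subgroup.card_map_of_injective hφ).trans (card_Cw h1 h2)
  have sr : ∀ {w}, q₃ w = -1 → polar q₃ v₀ w = 0 → SR 5 ((Cw w).map j) := fun h1 h2 => by
    have h3 := cardj j hj h1 h2
    refine (h36 _ (fun e => ?_) (by rw [h3]; norm_num)).resolve_right (by rw [h3]; norm_num)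
    have h4 := Subgroup.card_dvd_of_le (show pt v₀ ≤ _ from le_top.trans e.ge)
    rw [h3, card_pt q_v0_ne] at h4
    exact absurd h4 (by norm_num)
  have := Fact.mk (show Nat.Prime 5 by norm_num)
  obtain ⟨z, hz⟩ := exists_prime_orderOf_dvd_card' (G := Cw w0) 5 (by rw [card_Cw q_w0 v0_w0]; norm_num)
  obtain ⟨z, zC⟩ := z
  rw [← Subgroup.orderOf_coe] at hz
  have hz' : orderOf z = 5 := hz
  have z5 : z ^ 5 = 1 := by rw [← hz', pow_orderOf_eq_one]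
  have z1 : z ≠ 1 := fun e => by
    rw [e, orderOf_one] at hz'
    omega
  obtain ⟨u, ⟨hu, uv, uw⟩, u0, zu⟩ := exists_fixed (r := 5) (by norm_num) (H := Subgroup.zpowers z.1)
    (IsPGroup.of_card (n := 1) (by rw [Nat.card_zpowers, Subgroup.orderOf_coe, hz', pow_one]))
    (fun x => q₃ x = 0 ∧ polar q₃ v₀ x = 0 ∧ polar q₃ w0 x = 0) (fun y hy x hx => by
      have h1 : y ∈ Xw v₀ ⊓ Xw w0 := (Subgroup.zpowers_le.2 zC : _ ≤ Xw v₀ ⊓ Xw w0) hy
      have h2 : ln y v₀ = v₀ := h1.1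
      have h3 : ln y w0 = w0 := h1.2
      exact ⟨(q_ln y x).trans hx.1, by rw [← h2, pol_ln, hx.2.1], by rw [← h3, pol_ln, hx.2.2]⟩)
    ⟨map_zero _, polar_zero_right _ _, polar_zero_right _ _⟩ (by rw [card225]; norm_num)
  have zu' := zu _ (Subgroup.mem_zpowers _)
  have q1 : q₃ (w0 + u) = -1 := by rw [Q_add, q_w0, hu, uw, add_zero, add_zero]
  have q2 : polar q₃ v₀ (w0 + u) = 0 := by rw [polar_add_right, v0_w0, uv, add_zero]
  have zC' : z ∈ Cw (w0 + u) := mem_Cw.2 (by rw [map_add, mem_Cw.1 zC, zu'])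
  obtain ⟨α, hα⟩ := sr q_w0 v0_w0
  obtain ⟨β, hβ⟩ := sr q1 q2
  have hβ' : Fx 5 (im α ((Cw (w0 + u)).map j)) ≠ ⊥ := by
    have anti : ∀ (γ : MulAut G₃) {C : Subgroup (Xw v₀)}, z ∈ C → Fx 5 (im γ (C.map j)) ≠ ⊥ →
        Fx 5 (im γ (Subgroup.zpowers (j z))) ≠ ⊥ := fun γ C h1 h2 e => h2 (le_bot_iff.1 (e ▸ Fx_anti
          (Subgroup.map_mono (Subgroup.zpowers_le.2 ⟨z, h1, rfl⟩))))
    obtain ⟨M, hM⟩ := nt_of_fx pp5 (R := im α (Subgroup.zpowers (j z))) (β := β * α⁻¹)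
      (by rw [card_im, Nat.card_zpowers, orderOf_injective j hj, hz']) (anti α zC hα)
      (by rw [im_im, inv_mul_cancel_right]; exact anti β zC' hβ)
    intro e
    refine hβ ?_
    rw [← inv_mul_cancel_right β α, ← im_im, ← hM, Fx_im, e, gm_eq_bot]
  let φ : Xw v₀ →* G₃ := α.toMonoidHom.comp j
  have hφ : Function.Injective φ := α.injective.comp hj
  have e : ∀ C : Subgroup (Xw v₀), im α (C.map j) = C.map φ := fun C => Subgroup.map_map _ _ _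
  rw [e] at hα hβ'
  obtain ⟨d1, a1⟩ := dim_Fx M7 (cardj φ hφ q_w0 v0_w0) hα
  obtain ⟨d2, a2⟩ := dim_Fx M7 (cardj φ hφ q1 q2) hβ'
  obtain ⟨p, hp, p0⟩ := (Submodule.ne_bot_iff _).1 (meet φ hφ u0 hu uv uw z5 z1 (mem_Cw.1 zC) zu' d1 d2)
  have h1 := gen M7 u0 hu q_w0 v0_w0 q1 q2 (T := (pt p).comap φ)
    (fun x hx n hn h => odd_mem d1 a1 hp.1 p0 (le_St_Fx 5 _ ⟨x, hx, rfl⟩) hn (by rw [← map_pow, h, map_one]))
    fun x hx n hn h => odd_mem d2 a2 hp.2 p0 (le_St_Fx 5 _ ⟨x, hx, rfl⟩) hn (by rw [← map_pow, h, map_one])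
  refine ⟨α, (Submodule.ne_bot_iff _).2 ⟨p, mem_Fx_of (fun k => p0 (a1 p hp.1 k)) ?_, p0⟩, ?_⟩
  · rintro _ ⟨_, ⟨x, rfl⟩, rfl⟩
    exact h1.ge (Subgroup.mem_top x)
  · refine (Submodule.finrank_mono (Fx_anti ?_)).trans (d1.le.trans (by norm_num))
    rintro _ ⟨x, -, rfl⟩
    exact ⟨_, ⟨x, rfl⟩, rfl⟩

end Spin

/-- **(6a)** -/
theorem boxSpin_of (h36 : S36) (M7 : BoxM7) : BoxSpin := by
  rintro R S hS K _ _ hK ⟨e⟩
  obtain ⟨i⟩ := Spin.exists_iso hK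
  let j := (R.subtype.comp S.subtype).comp (i.trans e.symm).toMonoidHom
  obtain ⟨α, h1, h2⟩ := Spin.main h36 M7 j
    ((Subtype.val_injective.comp Subtype.val_injective).comp (i.trans e.symm).injective)
  refine SR_of_small pp5 (α := α) h1 h2 fun g hg _ => le_St.1 (fun x hx => ?_) hg
  obtain ⟨y, rfl⟩ := mk8_surjective x
  refine mem_St.2 fun w hw => Fx_inv (M := og F₃ y) (fun z hz => ?_) hw
  rw [ph_og]
  obtain ⟨r, hr, e1⟩ := hx
  obtain ⟨_, ⟨s, rfl⟩, rfl⟩ := hz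
  obtain ⟨t, ht⟩ := (i.trans e.symm).surjective ⟨_, hS.conj_mem _ ((i.trans e.symm) s).2 ⟨r, hr⟩⟩
  refine ⟨r * j s * r⁻¹, ⟨t, congrArg (fun c : S => ((c : R) : G₃)) ht⟩, ?_⟩
  rw [map_mul, map_mul, map_inv, e1]
  rfl

end Cfsg.Agent.SM.O8.T3
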