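import Cfsg.Agent.SM.O8.Three.Cg
import Cfsg.Agent.H264.FKS.ResCore
import Cfsg.Agent.S0292
import Cfsg.Agent.S0293

/-!
# SM, `S = PΩ⁺₈(3)`: the residual class and `S36` (helper68)
-/

set_option autoImplicit false

namespace Cfsg.Agent.SM.O8.T3

open Module QuadraticMap Cfsg Cfsg.Geo
open Cfsg.Agent.H884.El (pre lin PP)
open Cfsg.Agent.H708.O8 (I8 T8)
open Cfsg.Agent.H912.Bd (IsOP)

theorem pp5 : PP (Nat.card F₃) 4 5 := ⟨by norm_num, by
  rw [Nat.card_zmod, orderOf_eq_iff (by norm_num)]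
  decide⟩

theorem pp7 : PP (Nat.card F₃) 6 7 := ⟨by norm_num, by
  rw [Nat.card_zmod, orderOf_eq_iff (by norm_num)]
  decide⟩

theorem pp13 : PP (Nat.card F₃) 3 13 := ⟨by norm_num, by
  rw [Nat.card_zmod, orderOf_eq_iff (by norm_num)]
  decide⟩

theorem card_op {S : Type} [Group S] (h : IsOP 4 2 S) : Nat.card S = 174182400 := by
  obtain ⟨K, _, _, hK, ⟨e⟩⟩ := h
  rw [Nat.card_congr e.toEquiv]
  have hord := Cfsg.Agent.S0293.result (F := K) (q := 2) (by rw [hK]) 4 (by norm_num)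
  rw [show Nat.gcd 4 (2 ^ 4 - 1) = 1 by norm_num] at hord
  simp only [Nat.reduceSub, Finset.prod_range_succ, Finset.prod_range_zero] at hord
  norm_num at hord ⊢
  omega

theorem card_o7 {K : Type} [Field K] [Fintype K] (hK : Fintype.card K = 3) :
    Nat.card (POmega K (quadFormOdd 3 K)) = 4585351680 := by
  have hord := Cfsg.Agent.S0292.result (F := K) (q := 3) hK (by decide) 3 le_rfl
  simp only [Finset.prod_range_succ, Finset.prod_range_zero] at hord
  norm_num at hord ⊢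
  omega

theorem Sm.dvd {S : Type} [Group S] {n : ℕ} (h : Sm S n) : n ∣ 1451520 := by
  rcases h with ⟨-, h⟩ | ⟨-, rfl⟩
  · exact h.trans (by norm_num)
  · rfl

/-- a normal subgroup `Ω₇(3)` -/
def O7n (R : Subgroup G₃) : Prop := ∃ S : Subgroup R, S.Normal ∧ ∃ (K : Type) (_ : Field K) (_ : Fintype K),
  Fintype.card K = 3 ∧ Nonempty (S ≃* POmega K (quadFormOdd 3 K))

/-- `R ≅ Ω⁺₈(2)` -/
def Op (R : Subgroup G₃) : Prop := IsOP 4 2 R ∧ IsSimpleGroup R ∧ Nat.card R = 174182400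

/-- socle `A₉` or `Sp₆(2)` -/
def Sn (R : Subgroup G₃) : Prop := ∃ (S : Subgroup R) (P : Subgroup (GL I8 F₃)), Rs R S P ∧ Sm S (Nat.card R)

theorem Sn.dvd {R : Subgroup G₃} (h : Sn R) : Nat.card R ∣ 1451520 := by
  obtain ⟨S, P, -, h⟩ := h
  exact h.dvd

theorem O7n.dvd {R : Subgroup G₃} (h : O7n R) : 4585351680 ∣ Nat.card R := by
  obtain ⟨S, -, K, _, _, hK, ⟨e⟩⟩ := h
  rw [← card_o7 hK, ← Nat.card_congr e.toEquiv]
  exact Subgroup.card_subgroup_dvd_card S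

/-- **the residual class** -/
theorem res0 (hK : Kn) (own : BoxOwn) (cross : BoxCross) (five : BoxFive) (nosp : BoxNoSp) {R : Subgroup G₃} (hR : R ≠ ⊤)
    (hres : InOrthogonalResidualClass (pre Q₃ R)) (hb : Big (Nat.card R)) : O7n R ∨ Op R ∨ Sn R := by
  obtain ⟨P, hP, -⟩ := hres
  obtain ⟨S, hSn, hS, hna, hCe, he⟩ := H264.FKS.exists_res_plus (n := 4) le_rfl hP
  have hRs : Rs R S P := ⟨hR, hSn, hS, hna, hCe, hP, he⟩
  have eS : S.map R.subtype ≃* S := (S.equivMapOfInjective R.subtype R.subtype_injective).symm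
  by_cases hL : IsLieTypeChar 3 (H915.LD.Soc P)
  · rcases own R S P hRs hL hb with ⟨K, _, _, h1, ⟨e⟩⟩ | ⟨-, K, _, _, h1, h2⟩
    · exact (nosp (S.map R.subtype) K h1 ⟨eS.trans e⟩).elim
    · exact Or.inl ⟨S, hSn, K, _, _, h1, h2⟩
  · have := hP.simple
    rcases cross R S P hRs hL (hK (H915.LD.Soc P)) hb with ⟨⟨e⟩⟩ | h | h
    · exact (five.1 (S.map R.subtype) ⟨eS.trans e⟩).elim
    · have h1 := five.2 R S hSn hCe h
      have h2 : S = ⊤ := Subgroup.eq_top_of_card_eq S ((card_op h).trans h1.symm)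
      subst h2
      have eT : R ≃* (⊤ : Subgroup R) := Subgroup.topEquiv.symm
      obtain ⟨K, _, _, h3, ⟨e⟩⟩ := h
      exact Or.inr (Or.inl ⟨⟨K, _, _, h3, ⟨eT.trans e⟩⟩, eT.isSimpleGroup, h1⟩)
    · exact Or.inr (Or.inr ⟨S, P, hRs, h⟩)

theorem s36_of (hK : Kn) (sp : BoxSp) (own : BoxOwn) (cross : BoxCross) (five : BoxFive) (nosp : BoxNoSp) : S36 := by
  intro R hR hd
  have h5 : 5 ∣ Nat.card R := Dvd.dvd.trans (by norm_num) hd
  rcases sp R hR h5 with h | h | h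
  · exact Or.inl h
  · rcases res0 hK own cross five nosp hR h (Or.inl ⟨h5, Or.inl (Dvd.dvd.trans (by norm_num) hd)⟩) with k | k | k
    · exact Or.inr k.dvd
    · rw [k.2.2] at hd
      exact absurd hd (by norm_num)
    · exact absurd (hd.trans k.dvd) (by norm_num)
  · exact absurd (Dvd.dvd.trans (by norm_num) hd) h.1

end Cfsg.Agent.SM.O8.T3
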