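import Cfsg.Agent.SM.O8.Three.Res
import Cfsg.Agent.H823.O8R.Geo
import Cfsg.Agent.H886.O8R.Kill

/-!
# SM, `S = PΩ⁺₈(3)`: the subgroups of `pt v` of order divisible by `3⁶ · 5 · 7` (helper57)
-/

set_option autoImplicit false

namespace Cfsg.Agent.SM.O8.T3.Spin

open Module QuadraticMap Cfsg Cfsg.Geo Cfsg.Agent.LieClassical.OrthCore Cfsg.Agent.LieClassical.OrthTrans
open Cfsg.Agent.H951 (fx mem_fx)
open Cfsg.Agent.H884.El (pre lin PP Iso)
open Cfsg.Agent.H708.O8 (I8 T8)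
open Cfsg.Agent.H823.O8S (mk8 gl8 mk8_eq_one)
open Cfsg.Agent.H198.Carriers (plusQ)
open Cfsg.Agent.H955 (perp res mem_perp nondeg_res_iff finrank_add_perp)
open Cfsg.Agent.H886.O8R (Xw)

local notation "q₃" => plusQ 4 (ZMod 3)

theorem pol_self (v : V₃) : polar q₃ v v = 2 * q₃ v := by rw [polar_self, two_nsmul, two_mul]

theorem two_ne : (2 : F₃) ≠ 0 := by decide

theorem pol_ln (y : Om F₃) (u v : V₃) : polar q₃ (ln y u) (ln y v) = polar q₃ u v := polar_ln y u v

theorem q_ln (y : Om F₃) (v : V₃) : q₃ (ln y v) = q₃ v := Q_ln y v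

theorem odd_fix {y : Om F₃} {n : ℕ} (hn : Odd n) (hy : y ^ n = 1) {v : V₃} (h : ln y v = v ∨ ln y v = -v) : ln y v = v := by
  rcases h with h | h
  · exact h
  have h1 : ∀ k : ℕ, ln (y ^ k) v = (-1 : F₃) ^ k • v := fun k => by
    induction k with
    | zero => rw [pow_zero, pow_zero, ln_one, one_smul]
    | succ k ih => rw [pow_succ, ln_mul, h, map_neg, ih, pow_succ, mul_neg_one, neg_smul]
  have h2 := h1 n
  rw [hy, ln_one, hn.neg_one_pow, neg_one_smul] at h2
  rw [h, ← h2]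

theorem fix_of_pt {v : V₃} (hv : q₃ v ≠ 0) {y : Om F₃} (h : mk8 F₃ y ∈ pt v) {n : ℕ} (hn : Odd n) (hy : y ^ n = 1) :
    ln y v = v := odd_fix hn hy ((mem_pt' hv).1 h)

theorem mem_Fx_of {v : V₃} (hv : q₃ v ≠ 0) {H : Subgroup G₃} (h : H ≤ pt v) : v ∈ Fx 5 H :=
  mem_Fx.2 fun _ hy h5 => fix_of_pt hv (h hy) (by decide) h5

theorem iso_ln {e r : ℕ} (hr : PP (Nat.card F₃) e r) (he : 2 ≤ e) {y : Om F₃} (hy : y ^ r = 1) : Iso q₃ (ln y) r :=
  Iso.mk' hr he (by rw [← Can.ln_pow, hy]; exact LinearMap.ext ln_one) (Q_ln y)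

/-- the elements of order seven -/
theorem seven {y : Om F₃} (hy : y ^ 7 = 1) (h1 : y ≠ 1) : finrank F₃ (fx (ln y)) = 2 ∧ An (fx (ln y)) :=
  H823.O8R.Six.plane (z := gl8 F₃ y) ⟨pp7, by rw [← map_pow, hy, map_one],
    fun e => h1 (gl8_injective (by rw [e, map_one])), Q_ln y⟩

theorem card_pt {v : V₃} (hv : q₃ v ≠ 0) : Nat.card (pt v) = 4585351680 := by
  have h := (boxExt F₃ v hv).2.1
  unfold O7 at h
  rw [Nat.card_zmod] at h
  norm_num at h
  omega

theorem indep {p w : V₃} (hp : q₃ p ≠ 0) (hw : w ≠ 0) (h : polar q₃ p w = 0) : LinearIndependent F₃ ![p, w] := by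
  refine LinearIndependent.pair_iff.2 fun s t e => ?_
  have h1 := congrArg (polar q₃ p) e
  rw [polar_add_right, polar_smul_right, polar_smul_right, h, pol_self, polar_zero_right, smul_zero, add_zero,
    smul_eq_mul] at h1
  have h2 : s = 0 := (mul_eq_zero.1 h1).resolve_right (mul_ne_zero two_ne hp)
  rw [h2, zero_smul, zero_add] at e
  exact ⟨h2, (smul_eq_zero.1 e).resolve_right hw⟩

/-- coordinates in a plane -/
theorem plane {D : Submodule F₃ V₃} (hD : finrank F₃ D = 2) {p w : V₃} (hp : p ∈ D) (hw : w ∈ D) (hp0 : q₃ p ≠ 0)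
    (hw0 : w ≠ 0) (h : polar q₃ p w = 0) {d : V₃} (hd : d ∈ D) : ∃ a b : F₃, a • p + b • w = d := by
  have h1 : Submodule.span F₃ (Set.range ![p, w]) = D := by
    refine Submodule.eq_of_le_of_finrank_eq (Submodule.span_le.2 ?_) ?_
    · rintro _ ⟨i, rfl⟩
      fin_cases i
      · exact hp
      · exact hw
    · rw [finrank_span_eq_card (indep hp0 hw0 h), hD, Fintype.card_fin]
  rw [← h1, Matrix.range_cons_cons_empty] at hd
  exact Submodule.mem_span_pair.1 hd

/-- a vector of the plane `⟨p, w⟩` which is orthogonal to `p` -/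
theorem plane' {D : Submodule F₃ V₃} (hD : finrank F₃ D = 2) {p w : V₃} (hp : p ∈ D) (hw : w ∈ D) (hp0 : q₃ p ≠ 0)
    (hw0 : w ≠ 0) (h : polar q₃ p w = 0) {d : V₃} (hd : d ∈ D) (hpd : polar q₃ p d = 0) : ∃ b : F₃, d = b • w := by
  obtain ⟨a, b, rfl⟩ := plane hD hp hw hp0 hw0 h hd
  rw [polar_add_right, polar_smul_right, polar_smul_right, h, pol_self, smul_zero, add_zero, smul_eq_mul] at hpd
  exact ⟨b, by rw [(mul_eq_zero.1 hpd).resolve_right (mul_ne_zero two_ne hp0), zero_smul, zero_add]⟩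

/-- the stabiliser of a frame -/
theorem not_dvd_FS {v : V₃} {e : Fin 7 → V₃} (h : Fr v e) : ¬ 3 ^ 6 ∣ Nat.card (FS v e) := by
  intro hd
  classical
  let Z : Set V₃ := {w | ∃ i, w = e i ∨ w = -e i}
  let K : Subgroup (Om F₃) := SO Z ⊓ Xw v
  have h1 : FS v e ≤ K.map (mk8 F₃) := by
    rintro _ ⟨hx, y, hy, rfl⟩
    rcases (mem_pt' h.nv).1 hx with k | k
    · exact ⟨y, ⟨hy, k⟩, rfl⟩
    · obtain ⟨z, hz, hz'⟩ := Ext.exists_neg F₃
      have hz2 : ∀ x, ln z x = -x := hz'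
      refine ⟨z * y, ⟨mul_mem (fun w => ?_) hy, ?_⟩, by rw [map_mul, hz, one_mul]⟩
      · rw [hz2]
        refine exists_congr fun i => ?_
        rw [neg_eq_iff_eq_neg, neg_inj, or_comm]
      · show ln (z * y) v = v
        rw [ln_mul, k, hz2, neg_neg]
  let ρ : K →* Equiv.Perm Z :=
    { toFun := fun y => ⟨fun x => ⟨ln y.1 x, (y.2.1 _).1 x.2⟩, fun x => ⟨ln y.1⁻¹ x, ((inv_mem y.2).1 _).1 x.2⟩,
        fun x => Subtype.ext (ln_inv_apply _ _), fun x => Subtype.ext (ln_apply_inv _ _)⟩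
      map_one' := Equiv.ext fun x => Subtype.ext (ln_one _)
      map_mul' := fun a b => Equiv.ext fun x => Subtype.ext (ln_mul _ _ _) }
  have h2 : Function.Injective ρ := by
    rw [injective_iff_map_eq_one]
    intro y hy
    let b : Option (Fin 7) → V₃ := fun o => o.elim v e
    have h3 : LinearIndependent F₃ b := by
      refine LinearMap.BilinForm.linearIndependent_of_iIsOrtho (B := polarBilin q₃) (fun i j hij => ?_) fun i hi => ?_
      · show polar q₃ (b i) (b j) = 0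
        rcases i with _ | i <;> rcases j with _ | j
        · exact (hij rfl).elim
        · exact h.ov j
        · exact (polar_comm _ _ _).trans (h.ov i)
        · exact h.oe i j fun k => hij (congrArg some k)
      · have h4 : polar q₃ (b i) (b i) = 0 := hi
        rw [pol_self] at h4
        refine h.nv ?_
        have h5 := (mul_eq_zero.1 h4).resolve_left two_ne
        rcases i with _ | i
        · exact h5
        · exact (h.nrm i).symm.trans h5
    have h4 := h3.span_eq_top_of_card_eq_finrank' (by rw [Can.dim8, Fintype.card_option, Fintype.card_fin])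
    refine Subtype.ext (om_ext fun x => ?_)
    have h5 : ln y.1 = LinearMap.id := LinearMap.ext_on_range h4 fun i => by
      rcases i with _ | i
      · exact y.2.2
      · exact congrArg Subtype.val (DFunLike.congr_fun hy ⟨e i, i, Or.inl rfl⟩)
    rw [h5]
    exact (ln_one x).symm
  have h3 : Nat.card Z ≤ 14 := by
    have h4 : Function.Surjective fun p : Fin 7 ⊕ Fin 7 =>
        (p.elim (fun i => ⟨e i, i, Or.inl rfl⟩) (fun i => ⟨-e i, i, Or.inr rfl⟩) : Z) := by
      rintro ⟨_, i, rfl | rfl⟩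
      · exact ⟨.inl i, rfl⟩
      · exact ⟨.inr i, rfl⟩
    simpa using Nat.card_le_card_of_surjective _ h4
  have h4 := (hd.trans ((Subgroup.card_dvd_of_le h1).trans (Subgroup.card_dvd_of_surjective _
    ((mk8 F₃).subgroupMap_surjective K)))).trans (Subgroup.card_dvd_of_injective ρ h2)
  rw [Nat.card_perm] at h4
  exact absurd (h4.trans (Nat.factorial_dvd_factorial h3)) (by decide)

/-- **the proper subgroups of `pt p` of order divisible by `3⁶ · 5 · 7`** -/
theorem le_pt (M7 : BoxM7) {p : V₃} (hp : q₃ p ≠ 0) {H : Subgroup G₃} (hH : H < pt p) (hd : 3 ^ 6 * 5 * 7 ∣ Nat.card H) :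
    ∃ w, q₃ w ≠ 0 ∧ polar q₃ p w = 0 ∧ H ≤ pt w := by
  obtain ⟨R, h1, h2⟩ := hH.exists_le_covby
  have h3 := hd.trans (Subgroup.card_dvd_of_le h1)
  rcases M7 p hp R h2 with ⟨D, d0, d3, dp, -, rfl⟩ | ⟨e, he, rfl⟩ | ⟨-, k⟩ | ⟨-, k⟩ | ⟨-, k, -⟩
  · obtain ⟨y, hy, y7, y1⟩ := exists_elt (r := 7) (by norm_num) (by decide) (Dvd.dvd.trans (by norm_num) hd)
    obtain ⟨f2, fa⟩ := seven y7 fun e => y1 (by rw [e, map_one])
    have h4 : D ≤ fx (ln y) := (iso_ln pp7 (by norm_num) y7).le_fx pp7 (mem_St.1 (h1 hy).2) (d3.trans_lt (by norm_num))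
    obtain ⟨w, hw, w0⟩ := (Submodule.ne_bot_iff D).1 d0
    refine ⟨w, fun k => w0 (fa w (h4 hw) k), dp w hw, fun x hx => ?_⟩
    obtain ⟨g, rfl⟩ := mk8_surjective x
    have h5 := mem_St.1 (h1 hx).2 w hw
    exact mem_pt.2 (plane' f2 (mem_fx.2 (fix_of_pt hp (h1 hy).1 (by decide) y7)) (h4 hw) hp w0 (dp w hw) (h4 h5) (dp _ h5))
  · exact (not_dvd_FS he (Dvd.dvd.trans (by norm_num) h3)).elim
  · exact absurd (h3.trans k) (by norm_num)
  · exact absurd (k ▸ h3) (by norm_num)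
  · exact (k (Dvd.dvd.trans (by norm_num) h3)).elim

/-- the canonical subspace of a group of order `|Ω₆⁻(3)|` -/
theorem dim_Fx (M7 : BoxM7) {H : Subgroup G₃} (hH : Nat.card H = 6531840) (h0 : Fx 5 H ≠ ⊥) :
    finrank F₃ (Fx 5 H) = 2 ∧ An (Fx 5 H) := by
  obtain ⟨z, hz, z5, z1⟩ := exists_elt (r := 5) (R := H) (by norm_num) (by decide) (by rw [hH]; norm_num)
  obtain ⟨y, hy, y7, y1⟩ := exists_elt (r := 7) (R := H) (by norm_num) (by decide) (by rw [hH]; norm_num)
  have h1 := Can.Fx_le hz z5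
  have h2 := (Can.fx_four pp5 z5 (fun e => z1 (by rw [e, map_one])) fun e => h0 (le_bot_iff.1 (e ▸ h1))).1
  have h3 := (Submodule.finrank_mono h1).trans h2.le
  obtain ⟨f2, fa⟩ := seven y7 fun e => y1 (by rw [e, map_one])
  have h4 : Fx 5 H ≤ fx (ln y) := (iso_ln pp7 (by norm_num) y7).le_fx pp7 (mem_St.1 (le_St_Fx 5 H hy))
    (h3.trans_lt (by norm_num))
  have h5 : finrank F₃ (Fx 5 H) ≤ 2 := (Submodule.finrank_mono h4).trans f2.le
  refine ⟨?_, fun w hw => fa w (h4 hw)⟩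
  by_contra h6
  obtain ⟨p, hp, p0⟩ := (Submodule.ne_bot_iff _).1 h0
  have hq : q₃ p ≠ 0 := fun k => p0 (fa p (h4 hp) k)
  have h7 : Submodule.span F₃ {p} = Fx 5 H := Submodule.eq_of_le_of_finrank_le ((Submodule.span_singleton_le_iff_mem _ _).2 hp)
    (by rw [finrank_span_singleton p0]; omega)
  have h8 : H ≤ pt p := by
    show H ≤ St _
    rw [h7]
    exact le_St_Fx 5 H
  obtain ⟨w, w0, w1, w2⟩ := le_pt M7 hq (lt_of_le_of_ne h8 fun e => by
    have h9 := card_pt hq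
    rw [← e, hH] at h9
    omega) (by rw [hH]; norm_num)
  obtain ⟨c, rfl⟩ := Submodule.mem_span_singleton.1 (h7.ge (mem_Fx_of w0 w2))
  rw [polar_smul_right, pol_self, smul_eq_mul] at w1
  exact w0 (by rw [(mul_eq_zero.1 w1).resolve_right (mul_ne_zero two_ne hq), zero_smul, map_zero])

theorem num2 : ∀ s t : F₃, s ≠ 0 → t ≠ 0 → t + s ≠ 0 → s = t := by decide

theorem num4 : ∀ a b c d : F₃, a * a + b * b = 1 → c * c + d * d = 1 → a * c + b * d = 0 → a * b + b * d = 0 := by decide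

theorem num3 (a b c d s t : F₃) (h1 : s ≠ 0) (h2 : t ≠ 0) (h3 : t + s ≠ 0) (h4 : a * a * t + b * b * s = t)
    (h5 : c * c * t + d * d * s = s) (h6 : a * c * (2 * t) + b * d * (2 * s) = 0) : a * b + b * d = 0 := by
  obtain rfl := num2 s t h1 h2 h3
  exact num4 a b c d (mul_right_cancel₀ h1 (by linear_combination h4)) (mul_right_cancel₀ h1 (by linear_combination h5))
    (mul_right_cancel₀ (mul_ne_zero two_ne h1) (by linear_combination h6))

/-- the squares in the stabiliser of an anisotropic plane fix its points -/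
theorem sq_mem {D : Submodule F₃ V₃} (hD : finrank F₃ D = 2) (ha : An D) {p : V₃} (hp : p ∈ D) (p0 : p ≠ 0) {x : G₃}
    (hx : x ∈ St D) : x * x ∈ pt p := by
  have hq : q₃ p ≠ 0 := fun k => p0 (ha p hp k)
  obtain ⟨w, hw, w0, w1⟩ : ∃ w ∈ D, w ≠ 0 ∧ polar q₃ p w = 0 := by
    obtain ⟨d, hd, d0⟩ : ∃ d ∈ D, d ∉ Submodule.span F₃ {p} := by
      by_contra k
      push Not at k
      have h1 := Submodule.finrank_mono (show D ≤ Submodule.span F₃ {p} from k)
      rw [finrank_span_singleton p0] at h1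
      omega
    refine ⟨d - (polar q₃ p d / (2 * q₃ p)) • p, sub_mem hd (D.smul_mem _ hp), fun k => d0 ?_, ?_⟩
    · rw [sub_eq_zero.1 k]
      exact Submodule.smul_mem _ _ (Submodule.mem_span_singleton_self p)
    · rw [polar_sub_right, polar_smul_right, pol_self, smul_eq_mul, div_mul_cancel₀ _ (mul_ne_zero two_ne hq), sub_self]
  have w2 : polar q₃ w p = 0 := (polar_comm _ _ _).trans w1
  obtain ⟨y, rfl⟩ := mk8_surjective x
  obtain ⟨a, b, e1⟩ := plane hD hp hw hq w0 w1 (mem_St.1 hx p hp)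
  obtain ⟨c, d, e2⟩ := plane hD hp hw hq w0 w1 (mem_St.1 hx w hw)
  have key : ∀ a b : F₃, q₃ (a • p + b • w) = a * a * q₃ p + b * b * q₃ w := fun a b => by
    rw [Q_add, QuadraticMap.map_smul, QuadraticMap.map_smul, polar_smul_left, polar_smul_right, w1]
    simp
  have h1 := num3 a b c d (q₃ w) (q₃ p) (fun k => w0 (ha w hw k)) hq (fun k => ?_) (by rw [← key, e1, q_ln])
    (by rw [← key, e2, q_ln]) (by
      have h2 := pol_ln y p w
      rw [← e1, ← e2, w1] at h2
      simp only [polar_add_left, polar_add_right, polar_smul_left, polar_smul_right, w1, w2, pol_self, smul_eq_mul] at h2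
      linear_combination h2)
  · rw [← map_mul]
    refine mem_pt.2 ⟨a * a + b * c, ?_⟩
    rw [ln_mul, ← e1, map_add, map_smul, map_smul, ← e1, ← e2]
    have h2 : (a * b + b * d) • w = 0 := by rw [h1, zero_smul]
    linear_combination (norm := module) h2
  · have h2 : p + w = 0 := ha _ (add_mem hp hw) (by
      have h3 := key 1 1
      rw [one_smul, one_smul, one_mul, one_mul, one_mul, k] at h3
      exact h3)
    rw [eq_neg_of_add_eq_zero_right h2, polar_neg_right, pol_self, neg_eq_zero] at w1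
    exact mul_ne_zero two_ne hq w1

theorem odd_mem {D : Submodule F₃ V₃} (hD : finrank F₃ D = 2) (ha : An D) {p : V₃} (hp : p ∈ D) (p0 : p ≠ 0) {x : G₃}
    (hx : x ∈ St D) {n : ℕ} (hn : Odd n) (h : x ^ n = 1) : x ∈ pt p := by
  obtain ⟨k, rfl⟩ := hn
  have h1 := sq_mem hD ha hp p0 (pow_mem hx (k + 1))
  rwa [← pow_add, show k + 1 + (k + 1) = 2 * k + 1 + 1 by ring, pow_succ, h, one_mul] at h1

theorem pow_dvd {K : Type} [Group K] [Finite K] {C T : Subgroup K} (h : ∀ x ∈ C, ∀ n, Odd n → x ^ n = 1 → x ∈ T) {r k : ℕ}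
    (hr : r.Prime) (ho : Odd r) (hd : r ^ k ∣ Nat.card C) : r ^ k ∣ Nat.card T := by
  have := Fact.mk hr
  obtain ⟨P, hP⟩ := Sylow.exists_subgroup_card_pow_prime r hd
  rw [← hP, ← Subgroup.card_map_of_injective (K := P) C.subtype_injective]
  refine Subgroup.card_dvd_of_le ?_
  rintro _ ⟨x, hx, rfl⟩
  refine h x x.2 (r ^ k) ho.pow ?_
  have h1 : (⟨x, hx⟩ : P) ^ r ^ k = 1 := by rw [← hP, pow_card_eq_one']
  exact congrArg (fun t : P => ((t : C) : K)) h1

/-- fixed vectors of `r`-groups -/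
theorem exists_fixed {r : ℕ} (hr : r.Prime) {H : Subgroup (Om F₃)} (hH : IsPGroup r H) (P : V₃ → Prop)
    (hP : ∀ y ∈ H, ∀ x, P x → P (ln y x)) (h0 : P 0) (hd : r ∣ Nat.card {x // P x}) :
    ∃ x, P x ∧ x ≠ 0 ∧ ∀ y ∈ H, ln y x = x := by
  have := Fact.mk hr
  let _ : MulAction H {x // P x} :=
    { smul := fun y x => ⟨ln y.1 x.1, hP _ y.2 _ x.2⟩
      one_smul := fun x => Subtype.ext (ln_one _)
      mul_smul := fun a b x => Subtype.ext (ln_mul _ _ _) }
  obtain ⟨b, h1, h2⟩ := hH.exists_fixed_point_of_prime_dvd_card_of_fixed_point {x // P x} hd (a := ⟨0, h0⟩)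
    fun y => Subtype.ext (map_zero (ln y.1))
  exact ⟨b.1, b.2, fun k => h2 (Subtype.ext k.symm), fun y hy => congrArg Subtype.val (h1 ⟨y, hy⟩)⟩

end Cfsg.Agent.SM.O8.T3.Spin
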