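import Cfsg.Agent.SM.O8.Three.Res
import Cfsg.Agent.SM.O8.GB

/-!
# SM, `S = PΩ⁺₈(3)`: the case tree and the count (helper68)
-/

set_option autoImplicit false

namespace Cfsg.Agent.SM.O8.T3

open Module QuadraticMap Cfsg Cfsg.Geo Subgroup Equiv MulAction
open Cfsg.Agent.LieClassical.OrthCore Cfsg.Agent.LieClassical.OrthTrans
open Cfsg.Agent.H951 (fx mem_fx)
open Cfsg.Agent.H884.El (pre lin PP)
open Cfsg.Agent.H708.O8 (I8 T8)
open Cfsg.Agent.H823.O8S (mk8 gl8)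
open Cfsg.Agent.H198.Carriers (plusQ)
open Cfsg.Agent.H955 (res)
open Cfsg.Agent.H912.Bd (IsOP)
open Cfsg.Agent.SM.Ex78 (Pd)

/-- all boxes -/
structure Bx : Prop where
  kn : Kn
  sp : BoxSp
  own : BoxOwn
  cross : BoxCross
  five : BoxFive
  spin : BoxSpin
  nosp : BoxNoSp
  ord : BoxOrd
  out : BoxOut
  g13 : BoxG13
  hex : BoxHex
  d8 : BoxD8
  par : BoxPar
  k1 : BoxK1
  canX : BoxCanX
  canY : BoxCanY
  frX : BoxFrX
  b2 : BoxB2
  a9 : BoxA9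
  cnt : BoxCnt
  e3 : BoxE3

variable {R X Y : Subgroup G₃} {U V : Subgroup (MulAut G₃)}

/-- an element of order five with a fixed vector fixes vectors of all norms -/
theorem exists_fix {y : Om F₃} (hy : y ^ 5 = 1) (h1 : y ≠ 1) {w : V₃} (hw : w ≠ 0) (e : ln y w = w) (c : F₃) :
    ∃ w', w' ≠ 0 ∧ Q₃ w' = c ∧ ln y w' = w' := by
  obtain ⟨h4, hn, -⟩ := Can.fx_four pp5 hy h1 ((Submodule.ne_bot_iff _).2 ⟨w, mem_fx.2 e, hw⟩)
  obtain ⟨x, hx0, hx⟩ := H955.exists_singular (res (plusQ 4 F₃) (fx (ln y))) (le_of_le_of_eq (by norm_num : 3 ≤ 4) h4.symm)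
  obtain ⟨z, hz⟩ := exists_hyp hn hx hx0
  refine ⟨(x + c • z : fx (ln y)), fun h => hx0 ?_, ?_, mem_fx.1 (x + c • z).2⟩
  · have h2 : x + c • z = 0 := Subtype.ext h
    have h3 : polar (res (plusQ 4 F₃) (fx (ln y))) (x + c • z) z = 1 := by
      rw [polar_add_left, polar_smul_left, hz.pair, hz.polar_right, smul_zero, add_zero]
    rw [h2, polar_zero_left] at h3
    exact absurd h3 zero_ne_one
  · change res (plusQ 4 F₃) (fx (ln y)) (x + c • z) = c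
    rw [Q_add, QuadraticMap.map_smul, polar_smul_right, hz.left, hz.right, hz.pair]
    simp

theorem orderOf_five {y : Om F₃} (hy : y ^ 5 = 1) (h1 : y ≠ 1) : orderOf (mk8 F₃ y) = 5 := by
  have : Fact (Nat.Prime 5) := ⟨by norm_num⟩
  refine orderOf_eq_prime (by rw [← map_pow, hy, map_one]) fun h => h1 ?_
  obtain ⟨e, he⟩ := H823.O8S.mk8_eq_one h
  have h2 : ∀ n v, ln (y ^ n) v = e ^ n • v := fun n => by
    induction n with
    | zero => intro v; rw [pow_zero, ln_one, pow_zero, one_smul]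
    | succ n ih => intro v; rw [pow_succ, ln_mul, ih, pow_succ, mul_smul]; exact congrArg _ (he v)
  refine om_ext fun v => ?_
  have h3 := h2 5 v
  have h4 : e ^ 5 = e := (by decide : ∀ e : F₃, e ^ 5 = e) e
  rw [hy, h4] at h3
  rw [h3]
  exact he v

namespace Bx

variable (b : Bx)
include b

theorem res (hR : R ≠ ⊤) (hres : InOrthogonalResidualClass (pre Q₃ R)) (hb : Big (Nat.card R)) : SR 5 R ∨ Op R ∨ Sn R :=
  (res0 b.kn b.own b.cross b.five b.nosp hR hres hb).imp_left fun ⟨S, hS, K, _, _, hK, e⟩ => b.spin R S hS K hK e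

theorem s37 (hR : R ≠ ⊤) (h5 : 5 ∣ Nat.card R) (hd : 3 ^ 6 ∣ Nat.card R) : SR 5 R := by
  rcases b.sp R hR h5 with h | h | h
  · exact h
  · rcases b.res hR h (Or.inl ⟨h5, Or.inl (Dvd.dvd.trans (by norm_num) hd)⟩) with k | k | k
    · exact k
    · rw [k.2.2] at hd
      exact absurd hd (by norm_num)
    · exact absurd (hd.trans k.dvd) (by norm_num)
  · exact absurd (Dvd.dvd.trans (by norm_num) hd) h.1

theorem g65 (hR : R ≠ ⊤) (h5 : 5 ∣ Nat.card R) (hd : 13 ∣ Nat.card R) : SR 5 R := by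
  rcases b.sp R hR h5 with h | h | h
  · exact h
  · rcases b.res hR h (Or.inl ⟨h5, Or.inr (Or.inr hd)⟩) with k | k | k
    · exact k
    · rw [k.2.2] at hd
      exact absurd hd (by norm_num)
    · exact absurd (hd.trans k.dvd) (by norm_num)
  · exact absurd hd h.2.1

theorem g25 (hR : R ≠ ⊤) (h : 25 ∣ Nat.card R) : ¬ 13 ∣ Nat.card R ∧ ¬ 3 ^ 6 ∣ Nat.card R :=
  ⟨fun k => b.ord.n25 R (b.g65 hR (Dvd.dvd.trans (by norm_num) h) k) h,
    fun k => b.ord.n25 R (b.s37 hR (Dvd.dvd.trans (by norm_num) h) k) h⟩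

theorem op25 (hR : R ≠ ⊤) (hs : IsSimpleGroup R) (h : 25 ∣ Nat.card R) : Op R := by
  have h5 : 5 ∣ Nat.card R := Dvd.dvd.trans (by norm_num) h
  rcases b.sp R hR h5 with k | k | k
  · exact absurd h (b.ord.n25 R k)
  · rcases b.res hR k (Or.inl ⟨h5, Or.inr (Or.inl h)⟩) with k | k | k
    · exact absurd h (b.ord.n25 R k)
    · exact k
    · exact absurd (h.trans k.dvd) (by norm_num)
  · exact ((b.out.k3 R hs h).elim (k.2.2.1 h) k.2.1).elim

theorem g13' (hR : R ≠ ⊤) (h : 13 * 3 ^ 7 ∣ Nat.card R) (h5 : ¬ 5 ∣ Nat.card R) :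
    ∃ (α : MulAut G₃) (u : V₃), u ≠ 0 ∧ Q₃ u = 0 ∧ im α R ≤ pt u := by
  refine (b.g13 R hR h h5).resolve_left fun k => ?_
  rcases res0 b.kn b.own b.cross b.five b.nosp hR k (Or.inr h) with k | k | k
  · exact h5 (Dvd.dvd.trans (by norm_num) k.dvd)
  · exact h5 (by rw [k.2.2]; norm_num)
  · exact absurd (h.trans k.dvd) (by norm_num)

/-- a prime power which divides the order of the group, and the two factors -/
theorem pw (h : Pd X Y) {p i j : ℕ} (hp : p.Prime) (hd : p ^ (i + j) ∣ 4952179814400) (hX : ¬ p ^ (i + 1) ∣ Nat.card X) :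
    p ^ j ∣ Nat.card Y := by
  have h1 := h.card_dvd
  rw [b.ord.card] at h1
  have h2 := hd.trans h1
  have hX0 : Nat.card X ≠ 0 := Nat.card_pos.ne'
  have hY0 : Nat.card Y ≠ 0 := Nat.card_pos.ne'
  rw [hp.pow_dvd_iff_le_factorization (mul_ne_zero hX0 hY0), Nat.factorization_mul hX0 hY0, Finsupp.add_apply] at h2
  rw [hp.pow_dvd_iff_le_factorization hX0] at hX
  rw [hp.pow_dvd_iff_le_factorization hY0]
  omega

theorem big13 (h : Pd X Y) (hX : X ≠ ⊤) (h5 : ¬ 5 ∣ Nat.card Y) : 25 ∣ Nat.card X ∧ 13 * 3 ^ 7 ∣ Nat.card Y := by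
  have h1 : 5 ^ 2 ∣ Nat.card X := b.pw h.symm (p := 5) (i := 0) (by norm_num) (by norm_num) (by simpa using h5)
  obtain ⟨h2, h3⟩ := b.g25 hX h1
  have h4 : 13 ^ 1 ∣ Nat.card Y := b.pw h (p := 13) (i := 0) (by norm_num) (by norm_num) (by simpa using h2)
  exact ⟨h1, Nat.Coprime.mul_dvd_of_dvd_of_dvd (by norm_num) (by simpa using h4)
    (b.pw h (p := 3) (i := 5) (by norm_num) (by norm_num) h3)⟩

theorem five_X (c : Cf X Y U V) : 5 ∣ Nat.card X := by_contra fun h5 => by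
  obtain ⟨α, u, h0, hu, h⟩ := b.g13' c.neX (b.big13 c.pd.symm c.neY h5).2 h5
  have c' := c.map α
  have h1 := b.ord.simple u h0 hu _ h c'.simple c'.nab
  rw [card_im] at h1
  exact absurd ((b.big13 c.pd.symm c.neY h5).2.trans h1) (by norm_num)

theorem not_d8 (c : Cg X Y U V) (h : 25 ∣ Nat.card X) : ¬ 4 ∣ Nat.card (Out X) :=
  b.out.o8 X (b.op25 c.neX c.simple h).1

theorem five_Y (c : Cg X Y U V) : 5 ∣ Nat.card Y := by_contra fun h5 => by
  obtain ⟨h1, h2⟩ := b.big13 c.pd c.neX h5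
  obtain ⟨α, D, e, h3, h4⟩ := b.hex X Y U V c.toCf h2 (b.g13' c.neY h2 h5)
  have c' := c.map α
  change Cg (im α X) (im α Y) _ _ at c'
  rw [e] at c'
  exact b.not_d8 c' (by rw [card_im]; exact h1) (b.d8 _ D _ _ c' (Or.inl ⟨h3, h4⟩))

theorem five_index {w : V₃} (hw : w ≠ 0) : 5 ∣ (pt w).index := by
  by_cases h : Q₃ w = 0
  · rw [b.ord.sg w hw h]; norm_num
  · rw [(b.ord.ns w h).2]; norm_num

theorem fpf {w : V₃} (hw : w ≠ 0) (h : Pd X (pt w)) (h25 : ¬ 25 ∣ Nat.card X) : Fpf X := by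
  intro y hy h5 w₀ h0 e
  by_contra h1
  obtain ⟨w', h2, h3, h4⟩ := exists_fix h5 h1 h0 e (Q₃ w)
  obtain ⟨g, hg⟩ := exists_ln_map hw h2 h3.symm
  have h6 : Pd X (pt w') := by
    rw [← hg, ← conj_pt]
    exact h.conj _
  have h7 : mk8 F₃ y ∈ X ⊓ pt w' := ⟨hy, mem_pt.2 ⟨1, by rw [h4, one_smul]⟩⟩
  have h8 : 5 ∣ Nat.card ↥(X ⊓ pt w') := orderOf_five h5 h1 ▸ (X ⊓ pt w').orderOf_dvd_natCard h7
  exact h25 (h6.card_left ▸ mul_dvd_mul h8 (b.five_index h2))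

/-- the second factor is not a point stabiliser -/
theorem not_pt {w : V₃} (hw : w ≠ 0) (c : Cg X (pt w) U V) : False := by
  have h25 : 25 ∣ Nat.card X := by_contra fun h => by
    obtain ⟨M, h1, h2⟩ := b.par X w U V hw c
    exact b.k1 X _ U V c (b.five_X c.toCf) h (b.fpf hw c.pd h) M h1 h2
  by_cases h : Q₃ w = 0
  · refine b.not_d8 c h25 (b.d8 X _ U V c (Or.inl ⟨fun x hx => ?_, Or.inl (finrank_span_singleton hw)⟩))
    obtain ⟨a, rfl⟩ := Submodule.mem_span_singleton.1 hx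
    rw [Q_smul, h, mul_zero]
  · exact b.b2 X w U V h c.toCf (b.op25 c.neX c.simple h25).2.2

/-- the first factor with a canonical subspace -/
theorem srX (c : Cf X Y U V) (h : SR 5 X) :
    (∃ (α : MulAut G₃) (v : V₃), Q₃ v ≠ 0 ∧ im α X = pt v) ∨ Nat.card X ∣ 6065280 := by
  obtain ⟨α, hα⟩ := h
  rcases b.canX _ _ _ _ (c.map α) (by rw [card_im]; exact b.five_X c) hα with ⟨v, hv, e⟩ | ⟨u, u', h1, h2, h3, h4⟩
  · exact Or.inl ⟨α, v, hv, e⟩
  · exact Or.inr (card_im α X ▸ (card_dvd_of_le h4).trans (b.ord.two u u' h1 h2 h3))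

omit b in
/-- the intersection is not a 2-group of even index -/
theorem not_two (c : Cf X Y U V) (h1 : Nat.card X ∣ 6065280) (h2 : 94770 ∣ Y.index) : False := by
  have : Fact (Nat.Prime 2) := ⟨by norm_num⟩
  have h3 := c.pd.card_left
  have h4 : Nat.card ↥(X ⊓ Y) ∣ 2 ^ 6 := by
    have : Nat.card ↥(X ⊓ Y) * 94770 ∣ 2 ^ 6 * 94770 := (mul_dvd_mul_left _ h2).trans (h3 ▸ h1)
    exact Nat.dvd_of_mul_dvd_mul_right (by norm_num) this
  obtain ⟨k, -, hk⟩ := (Nat.dvd_prime_pow (by norm_num)).1 h4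
  have h5 : 2 ^ (k + 1) ∣ Nat.card X := by
    rw [← h3, hk, pow_succ]
    exact mul_dvd_mul_left _ (Dvd.dvd.trans (by norm_num) h2)
  have h6 : Nat.card ((X ⊓ Y).subgroupOf X) = 2 ^ k := by
    rw [← hk]
    exact Nat.card_congr (subgroupOfEquivOfLe inf_le_left).toEquiv
  obtain ⟨K, h7, h8⟩ := Sylow.exists_subgroup_card_pow_succ h5 h6
  have h9 : ((X ⊓ Y).subgroupOf X).relIndex K = 2 := by
    have := ((X ⊓ Y).subgroupOf X).subgroupOf K |>.card_mul_index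
    rw [Nat.card_congr (subgroupOfEquivOfLe h8).toEquiv, h6, h7, pow_succ] at this
    exact Nat.eq_of_mul_eq_mul_left (by positivity) this
  have h10 : (((X ⊓ Y).subgroupOf X).subgroupOf K).Normal := normal_of_index_eq_two h9
  have h11 : K ≤ (X ⊓ Y).subgroupOf X := fun x hx => by
    refine ⟨x.2, c.nrm le_rfl c.nb c.ivA x.2 (mem_normalizer_iff.2 fun e => ⟨fun he => ?_, fun he => ?_⟩)⟩
    · exact h10.conj_mem ⟨⟨e, he.1⟩, h8 he⟩ he ⟨x, hx⟩
    · have h12 := h10.conj_mem ⟨⟨_, he.1⟩, h8 he⟩ he ⟨x, hx⟩⁻¹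
      have h13 : (x : G₃)⁻¹ * (x * e * (x : G₃)⁻¹) * (x : G₃)⁻¹⁻¹ ∈ X ⊓ Y := h12
      rwa [show (x : G₃)⁻¹ * (x * e * (x : G₃)⁻¹) * (x : G₃)⁻¹⁻¹ = e by group] at h13
  rw [relIndex_eq_one.2 h11] at h9
  exact absurd h9 (by norm_num)

/-- the second factor has no canonical subspace -/
theorem not_srY (c : Cg X Y U V) : ¬ SR 5 Y := by
  rintro ⟨α, hα⟩
  have c' := c.map α
  change Cg (im α X) (im α Y) _ _ at c'
  have h5 := b.five_X c'.toCf
  rcases b.canY _ _ _ _ c'.toCf (b.five_Y c') hα with ⟨w, hw, e⟩ | ⟨D, h1, h2 | h2, e⟩ <;> rw [e] at c'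
  · exact b.not_pt hw c'
  · have h4 := b.d8 _ D _ _ c' (Or.inr ⟨h1, h2⟩)
    have h6 : 3 ^ 6 ∣ Nat.card (im α X) := by
      by_cases h : An D
      · exact Dvd.dvd.trans (by norm_num) ((b.ord.ani D h2 h).trans c'.pd.index_dvd)
      · exact b.pw c'.pd.symm (p := 3) (i := 6) (by norm_num) (by norm_num)
          fun k => absurd (k.trans (b.ord.hyp D h1 h2 h)) (by norm_num)
    rcases b.srX c'.toCf (b.s37 c'.neX h5 h6) with ⟨β, v, hv, k⟩ | k
    · exact absurd (h4.trans (b.out.o7 _ β v hv k)) (by norm_num)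
    · by_cases h : An D
      · exact not_two c'.toCf k (b.ord.ani D h2 h)
      · have h7 : 7 ^ 1 ∣ Nat.card (im α X) := b.pw c'.pd.symm (p := 7) (i := 0) (by norm_num) (by norm_num)
          fun k => absurd (k.trans (b.ord.hyp D h1 h2 h)) (by norm_num)
        exact absurd (h7.trans k) (by norm_num)
  · obtain ⟨h3, h4⟩ := b.ord.three D h1 h2
    have h7 : 7 ^ 1 ∣ Nat.card (im α X) :=
      b.pw c'.pd.symm (p := 7) (i := 0) (by norm_num) (by norm_num) (by simpa using h3)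
    have h13 : 13 ^ 1 ∣ Nat.card (im α X) :=
      b.pw c'.pd.symm (p := 13) (i := 0) (by norm_num) (by norm_num) (by simpa using h4)
    rcases b.srX c'.toCf (b.g65 c'.neX h5 (by simpa using h13)) with ⟨β, v, hv, k⟩ | k
    · exact b.e3 _ D _ _ c' h1 h2 β v hv k
    · exact absurd (h7.trans k) (by norm_num)

/-- **the factorisations** -/
theorem main (c : Cg X Y U V) : ∃ (α : MulAut G₃) (v : V₃), Q₃ v ≠ 0 ∧ im α X = pt v ∧ Op (im α Y) := by
  have h1 : ¬ 3 ^ 6 ∣ Nat.card Y := fun h => b.not_srY c (b.s37 c.neY (b.five_Y c) h)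
  have h2 : 3 ^ 7 ∣ Nat.card X := b.pw c.pd.symm (p := 3) (i := 5) (by norm_num) (by norm_num) h1
  rcases b.srX c.toCf (b.s37 c.neX (b.five_X c.toCf) (Dvd.dvd.trans (by norm_num) h2)) with ⟨α, v, hv, e⟩ | k
  · refine ⟨α, v, hv, e, ?_⟩
    have c' := c.map α
    change Cg (im α X) (im α Y) _ _ at c'
    rw [e] at c'
    have h5 := b.five_Y c'
    have h27 : 27 ∣ Nat.card (im α Y) :=
      Dvd.dvd.trans (by rw [(b.ord.ns v hv).2]; norm_num) c'.pd.symm.index_dvd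
    rcases b.sp _ c'.neY h5 with k | k | k
    · exact absurd k (b.not_srY c')
    · rcases b.res c'.neY k (Or.inl ⟨h5, Or.inl h27⟩) with k | k | ⟨S, P, k1, k2⟩
      · exact absurd k (b.not_srY c')
      · exact k
      · exact absurd k2 (b.a9 v _ _ _ S P hv c' k1)
    · exact absurd (G4.tr_of_pd hv c'.pd) (k.2.2.2 v hv)
  · exact absurd (h2.trans k) (by norm_num)

theorem index_op (h : Nat.card R = 174182400) : R.index = 28431 := by
  have := R.card_mul_index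
  rw [h, b.ord.card] at this
  omega

/-- **the box** -/
theorem box3 : Box3 := by
  rintro Ω _ _ X H T ⟨M₀, S₀, u₀, h₀⟩
  obtain ⟨a⟩ : Nonempty Ω := Fintype.card_pos_iff.1 (lt_of_lt_of_le (by norm_num) u₀.two)
  have key : ∀ {M S : Subgroup (Perm Ω)} (u : Up X H T M S), f8q 3 S → ∃ (φ : S ≃* G₃) (v : V₃), Q₃ v ≠ 0 ∧
      dn φ T = pt v ∧ Op (dn φ (M ⊓ stabilizer (Perm Ω) a)) := fun {M S} u h => by
    obtain ⟨φ⟩ := f8q_model (F := F₃) (ZMod.card 3) h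
    obtain ⟨α, v, hv, e, k⟩ := b.main (u.cg φ a)
    exact ⟨φ.trans α, v, hv, (dn_trans φ α T).trans e, by rw [dn_trans]; exact k⟩
  obtain ⟨φ₀, v₀, hv₀, e₀, k₀⟩ := key u₀ h₀
  have hK := (range_rs u₀ φ₀).trans e₀
  have m₀ := md_rs u₀ φ₀ a
  have hA : ∀ {M : Subgroup (Perm Ω)} {Y : Subgroup G₃}, Md X H (rs u₀ φ₀) a M Y →
      pt v₀ ⊓ Y = pt v₀ ⊓ dn φ₀ (M₀ ⊓ stabilizer (Perm Ω) a) := fun {M Y} m => by
    ext g
    refine and_congr_right fun hg => ?_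
    obtain ⟨t, rfl⟩ := hK.ge hg
    exact (m.mem t).trans (m₀.mem t).symm
  obtain ⟨U₀, V₀, c₀⟩ := m₀.cf
  rw [hK] at c₀
  obtain ⟨e, he, hF⟩ := b.frX v₀ _ U₀ V₀ hv₀ c₀ (by
    have := c₀.pd.card_left
    rw [b.index_op k₀.2.2, (b.ord.ns v₀ hv₀).1] at this
    omega)
  refine ⟨4, Or.inr (Or.inl ⟨?_, ?_, rfl⟩), ?_⟩
  · rw [← card_dn φ₀ u₀.le, e₀, (b.ord.ns v₀ hv₀).1]
  · rw [← m₀.index, b.index_op k₀.2.2]
  · refine (cls (X := X) (H := H) (ι := rs u₀ φ₀) (a := a) (Set.toFinite _) ?_).trans (b.cnt v₀ e he)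
    rintro M ⟨S, u, h⟩
    obtain ⟨φ, v, hv, e₁, k⟩ := key u h
    obtain ⟨β, -, m⟩ := md_pt hv₀ (rs_injective u₀ φ₀) hK u φ hv e₁ a
    obtain ⟨U, V, c⟩ := m.cf
    rw [hK] at c
    have := k.2.1
    refine ⟨_, ⟨(β.subgroupMap _).symm.isSimpleGroup, (card_im (F := F₃) β _).trans k.2.2, c.pd, (hA m).trans hF⟩, 1, ?_⟩
    rw [map_one]
    rw [← im_one (im β _)] at m
    exact m

end Bx

end Cfsg.Agent.SM.O8.T3
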